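import Cfsg.Agent.Lib.Helper32.GL2Comm

set_option autoImplicit false
set_option linter.style.haveILetI false

namespace Cfsg.Agent.Lib.Helper32.GL2

open Matrix
open scoped commutatorElement

theorem exists_injective_hom_GL2 (p : ℕ) [Fact p.Prime] {Q : Type*} [CommGroup Q] [Finite Q]
    (hexp : ∀ q : Q, q ^ p = 1) (hcard : Nat.card Q = p ^ 2) :
    ∃ φ : MulAut Q →* GL (Fin 2) (ZMod p), Function.Injective φ := by
  have hpx : ∀ x : Additive Q, p • x = 0 := fun x => by
    show Additive.ofMul (x.toMul ^ p) = 0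
    rw [hexp]; rfl
  obtain ⟨inst1⟩ : Nonempty (Module (ZMod p) (Additive Q)) := ⟨AddCommGroup.zmodModule hpx⟩
  haveI : Finite (Additive Q) := ‹Finite Q›
  haveI inst2 : Module.Finite (ZMod p) (Additive Q) := Module.Finite.of_finite
  have hfr : Module.finrank (ZMod p) (Additive Q) = 2 := by
    have := @Module.natCard_eq_pow_finrank (ZMod p) (Additive Q) _ _ inst1 inst2
    rw [Nat.card_zmod, show Nat.card (Additive Q) = p ^ 2 from hcard] at this
    exact (Nat.pow_right_injective (Fact.out : p.Prime).two_le this).symm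
  let b := Module.finBasisOfFinrankEq (ZMod p) (Additive Q) hfr
  let ψ₀ : MulAut Q →* Module.End (ZMod p) (Additive Q) :=
    { toFun := fun f => (MulEquiv.toAdditive f).toAddMonoidHom.toZModLinearMap p
      map_one' := by
        apply LinearMap.ext
        intro x
        rfl
      map_mul' := by
        intro f g
        apply LinearMap.ext
        intro x
        rfl }
  let ψ₁ : MulAut Q →* (Module.End (ZMod p) (Additive Q))ˣ := ψ₀.toHomUnits
  let ψ₂ : (Module.End (ZMod p) (Additive Q))ˣ →* GL (Fin 2) (ZMod p) :=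
    Units.map (LinearMap.toMatrixAlgEquiv b : Module.End (ZMod p) (Additive Q) →* _)
  refine ⟨ψ₂.comp ψ₁, ?_⟩
  have h2 : Function.Injective ψ₂ := Units.map_injective (LinearMap.toMatrixAlgEquiv b).injective
  have h1 : Function.Injective ψ₁ := by
    intro f g hfg
    have h0 : ψ₀ f = ψ₀ g := congrArg Units.val hfg
    ext x
    have := LinearMap.congr_fun h0 (Additive.ofMul x)
    exact this
  exact h2.comp h1


theorem exp_p_commutator_mulAut (p : ℕ) [Fact p.Prime] {Q : Type*} [CommGroup Q] [Finite Q]
    (hexp : ∀ q : Q, q ^ p = 1) (hcard : Nat.card Q ∣ p ^ 2) (Y : Subgroup (MulAut Q))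
    (hodd : Odd (Nat.card Y)) [Group.IsSolvable Y] : ∀ z ∈ ⁅Y, Y⁆, z ^ p = 1 := by
  have hp : p.Prime := Fact.out
  obtain ⟨k, hk2, hk⟩ := (Nat.dvd_prime_pow hp).1 hcard
  have hcyc : IsCyclic Q → ∀ z ∈ ⁅Y, Y⁆, z ^ p = 1 := by
    intro hc z hz
    have hcomm : ∀ a b : MulAut Q, a * b = b * a := by
      intro a b
      apply (IsCyclic.mulAutMulEquiv Q).injective
      rw [map_mul, map_mul, mul_comm]
    have : ⁅Y, Y⁆ = ⊥ := by
      rw [Subgroup.commutator_eq_bot_iff_le_centralizer]
      intro x _
      rw [Subgroup.mem_centralizer_iff]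
      intro y _
      exact hcomm y x
    rw [this, Subgroup.mem_bot] at hz
    rw [hz, one_pow]
  interval_cases k
  · apply hcyc
    haveI : Subsingleton Q := (Nat.card_eq_one_iff_unique.1 (by simpa using hk)).1
    exact isCyclic_of_subsingleton
  · apply hcyc
    exact isCyclic_of_prime_card (p := p) (by simpa using hk)
  · obtain ⟨φ, hφ⟩ := exists_injective_hom_GL2 p hexp hk
    haveI : Finite (MulAut Q) := Finite.of_injective (fun f : MulAut Q => (f : Q → Q))
      (fun f g h => MulEquiv.ext (congrFun h))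
    haveI : Finite (Y.map φ) := inferInstance
    have hcardX : Nat.card (Y.map φ) = Nat.card Y := Subgroup.card_map_of_injective hφ
    haveI : Group.IsSolvable (Y.map φ) :=
      Group.isSolvable_of_isSolvable_injective (f := (Y.equivMapOfInjective φ hφ).symm.toMonoidHom)
        (Y.equivMapOfInjective φ hφ).symm.injective
    have hE := exp_p_commutator p (Y.map φ) (by rw [hcardX]; exact hodd)
    intro z hz
    have hz' : φ z ∈ ⁅Y.map φ, Y.map φ⁆ := by
      rw [← Subgroup.map_commutator]
      exact Subgroup.mem_map_of_mem _ hz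
    have := hE _ hz'
    rw [← map_pow] at this
    apply hφ
    rw [this, map_one]

end Cfsg.Agent.Lib.Helper32.GL2
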