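import Mathlib
import Cfsg.Agent.Lib.Helper32.GL2Aut

set_option autoImplicit false
set_option linter.style.haveILetI false

namespace Cfsg.Agent.Lib.Helper32.GL2

open Matrix

theorem card_GL2_zmod (p : ℕ) [Fact p.Prime] :
    Nat.card (GL (Fin 2) (ZMod p)) = (p ^ 2 - 1) * (p ^ 2 - p) := by
  rw [Matrix.card_GL_field, Fin.prod_univ_two, ZMod.card]
  simp

/-- an odd prime `q ≠ p` dividing `|GL₂(p)|` is less than `p` -/
theorem prime_le_of_dvd_card_GL2 {p q : ℕ} (hp : p.Prime) (hp2 : p ≠ 2) (hq : q.Prime) (hq2 : q ≠ 2)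
    (h : q ∣ (p ^ 2 - 1) * (p ^ 2 - p)) : q ≤ p := by
  have h1 : (p ^ 2 - 1) * (p ^ 2 - p) = (p - 1) * (p + 1) * (p * (p - 1)) := by
    have hp1 : 1 ≤ p := hp.pos
    obtain ⟨k, rfl⟩ : ∃ k, p = k + 1 := ⟨p - 1, by omega⟩
    have e1 : (k + 1) ^ 2 - 1 = k * (k + 2) := by
      have : (k + 1) ^ 2 = k * (k + 2) + 1 := by ring
      omega
    have e2 : (k + 1) ^ 2 - (k + 1) = (k + 1) * k := by
      have : (k + 1) ^ 2 = (k + 1) * k + (k + 1) := by ring
      omega
    rw [e1, e2]
    simp only [Nat.add_sub_cancel]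
    try ring
  rw [h1] at h
  have hodd_p : Odd p := hp.odd_of_ne_two hp2
  have hodd_q : Odd q := hq.odd_of_ne_two hq2
  rcases (Nat.Prime.dvd_mul hq).1 h with h | h
  · rcases (Nat.Prime.dvd_mul hq).1 h with h | h
    · have : 0 < p - 1 := by have := hp.two_le; omega
      have := Nat.le_of_dvd this h
      omega
    · have hle := Nat.le_of_dvd (by omega) h
      rcases Nat.lt_or_ge q (p + 1) with h' | h'
      · omega
      · have : q = p + 1 := le_antisymm hle h'
        exfalso
        rw [this] at hodd_q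
        have : Even (p + 1) := hodd_p.add_one
        exact (Nat.not_even_iff_odd.2 hodd_q) this
  · rcases (Nat.Prime.dvd_mul hq).1 h with h | h
    · exact Nat.le_of_dvd hp.pos h
    · have : 0 < p - 1 := by have := hp.two_le; omega
      have := Nat.le_of_dvd this h
      omega

/-- an automorphism of odd prime order `q` of an elementary abelian group of order dividing
`p ^ 2` has `q ≤ p` -/
theorem prime_le_of_orderOf_mulAut (p : ℕ) [Fact p.Prime] (hp2 : p ≠ 2) {Q : Type*} [Group Q]
    [Finite Q] (hcomm : ∀ a b : Q, a * b = b * a) (hexp : ∀ x : Q, x ^ p = 1)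
    (hcard : Nat.card Q ∣ p ^ 2) (f : MulAut Q) {q : ℕ} (hq : q.Prime) (hq2 : q ≠ 2)
    (hf : orderOf f = q) : q ≤ p := by
  have hp : p.Prime := Fact.out
  haveI : Finite (MulAut Q) := Finite.of_injective (fun f : MulAut Q => (f : Q → Q))
      (fun f g h => MulEquiv.ext (congrFun h))
  have hdvd : q ∣ Nat.card (MulAut Q) := hf ▸ orderOf_dvd_natCard f
  obtain ⟨k, hk2, hk⟩ := (Nat.dvd_prime_pow hp).1 hcard
  interval_cases k
  · exfalso
    haveI : Subsingleton Q := (Nat.card_eq_one_iff_unique.1 (by simpa using hk)).1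
    have : f = 1 := by
      ext x
      exact Subsingleton.elim _ _
    rw [this, orderOf_one] at hf
    exact hq.one_lt.ne hf
  · haveI : IsCyclic Q := isCyclic_of_prime_card (p := p) (by simpa using hk)
    have hc : Nat.card (MulAut Q) = p - 1 := by
      rw [Nat.card_congr (IsCyclic.mulAutMulEquiv Q).toEquiv, hk, pow_one, Nat.card_eq_fintype_card,
        ZMod.card_units_eq_totient, Nat.totient_prime hp]
    rw [hc] at hdvd
    have : 0 < p - 1 := by have := hp.two_le; omega
    have := Nat.le_of_dvd this hdvd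
    omega
  · letI : CommGroup Q := { ‹Group Q› with mul_comm := hcomm }
    obtain ⟨φ, hφ⟩ := exists_injective_hom_GL2 p hexp hk
    have h1 : Nat.card (MulAut Q) ∣ Nat.card (GL (Fin 2) (ZMod p)) :=
      Subgroup.card_dvd_of_injective φ hφ
    rw [card_GL2_zmod] at h1
    exact prime_le_of_dvd_card_GL2 hp hp2 hq hq2 (hdvd.trans h1)

end Cfsg.Agent.Lib.Helper32.GL2
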