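import Mathlib
import Cfsg.Agent.Lib.Helper24.Omega1
import Cfsg.Agent.Lib.Helper29.ClassTwo

set_option autoImplicit false
set_option linter.style.haveILetI false

namespace Cfsg.Agent.Lib.Helper32.Rank2

open Subgroup
open scoped commutatorElement

/-- card of a subgroup of a `p`-group is a power of `p` -/
theorem exists_card_eq_pow {E : Type*} [Group E] [Finite E] {p : ℕ} [Fact p.Prime]
    (hE : IsPGroup p E) (B : Subgroup E) : ∃ b : ℕ, Nat.card B = p ^ b :=
  IsPGroup.iff_card.1 (hE.to_subgroup B)

/-- A group of exponent `p`, class at most two and rank at most two has a Frattini quotient of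
order dividing `p ^ 2`. -/
theorem frattini_index_dvd_sq {E : Type*} [Group E] [Finite E] (p : ℕ) [Fact p.Prime]
    (hexp : ∀ x : E, x ^ p = 1) (hcl : commutator E ≤ Subgroup.center E)
    (hr : ∀ B : Subgroup E, IsMulCommutative B → Nat.card B ≤ p ^ 2) :
    (frattini E).index ∣ p ^ 2 := by
  have hp : p.Prime := Fact.out
  have hp1 : 1 < p := hp.one_lt
  have hE : IsPGroup p E := fun x => ⟨1, by rw [pow_one]; exact hexp x⟩
  obtain ⟨n, hn⟩ := IsPGroup.iff_card.1 hE
  have hidx : (frattini E).index ∣ p ^ n := hn ▸ Subgroup.index_dvd_card _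
  obtain ⟨r, hrn, hr'⟩ := (Nat.dvd_prime_pow hp).1 hidx
  rw [hr']
  apply pow_dvd_pow
  by_cases hcomm : ∀ a b : E, a * b = b * a
  · -- abelian case
    have : IsMulCommutative (⊤ : Subgroup E) := ⟨⟨fun a b => Subtype.ext (hcomm a b)⟩⟩
    have h1 := hr ⊤ this
    rw [Subgroup.card_top, hn] at h1
    have : n ≤ 2 := (Nat.pow_le_pow_iff_right hp1).1 h1
    omega
  · push Not at hcomm
    obtain ⟨x, y₀, hxy⟩ := hcomm
    haveI : Nontrivial E := ⟨⟨x, y₀, fun h => hxy (by rw [h])⟩⟩
    -- the centre
    obtain ⟨a, ha⟩ := exists_card_eq_pow hE (Subgroup.center E)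
    have ha1 : 1 ≤ a := by
      haveI := hE.center_nontrivial
      rcases Nat.eq_zero_or_pos a with h | h
      · rw [h, pow_zero] at ha
        have := (Subgroup.card_eq_one.1 ha)
        exact absurd this (Subgroup.nontrivial_iff_ne_bot _ |>.1 inferInstance)
      · exact h
    -- B₁
    have hcommS : ∀ (S : Set E), (∀ s ∈ S, s * x = x * s) → (∀ s ∈ S, ∀ t ∈ S, s * t = t * s) →
        IsMulCommutative (closure ((Subgroup.center E : Set E) ∪ S)) := by
      intro S hSx hSS
      apply Subgroup.isMulCommutative_closure
      rintro u (hu | hu) v (hv | hv)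
      · exact (Subgroup.mem_center_iff.1 hv u)
      · exact (Subgroup.mem_center_iff.1 hu v).symm
      · exact (Subgroup.mem_center_iff.1 hv u)
      · exact hSS u hu v hv
    set B₁ := closure ((Subgroup.center E : Set E) ∪ {x}) with hB₁
    have hB₁c : IsMulCommutative B₁ := hcommS {x} (by simp) (by simp)
    have hZB₁ : Subgroup.center E ≤ B₁ := fun z hz => Subgroup.subset_closure (Or.inl hz)
    have hxB₁ : x ∈ B₁ := Subgroup.subset_closure (Or.inr rfl)
    have hxZ : x ∉ Subgroup.center E := fun h => hxy (Subgroup.mem_center_iff.1 h y₀).symm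
    obtain ⟨b, hb⟩ := exists_card_eq_pow hE B₁
    have hab : a < b := by
      have hlt : Nat.card (Subgroup.center E) < Nat.card B₁ := by
        by_contra hle
        push Not at hle
        have := Subgroup.eq_of_le_of_card_ge hZB₁ hle
        exact hxZ (this ▸ hxB₁)
      rw [ha, hb] at hlt
      exact (Nat.pow_lt_pow_iff_right hp1).1 hlt
    have hb2 : b ≤ 2 := by
      have := hr B₁ hB₁c
      rw [hb] at this
      exact (Nat.pow_le_pow_iff_right hp1).1 this
    -- the centralizer of x is B₁
    have hCB : centralizer ({x} : Set E) ≤ B₁ := by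
      intro y hy
      rw [Subgroup.mem_centralizer_singleton_iff] at hy
      set B₂ := closure ((Subgroup.center E : Set E) ∪ {x, y}) with hB₂
      have hB₂c : IsMulCommutative B₂ := by
        apply hcommS
        · rintro s (rfl | rfl)
          · rfl
          · exact hy
        · rintro s (rfl | rfl) t (rfl | rfl)
          · rfl
          · exact hy.symm
          · exact hy
          · rfl
      have h12 : B₁ ≤ B₂ := by
        apply Subgroup.closure_mono
        apply Set.union_subset_union_right
        intro u hu
        left; exact hu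
      have hyB₂ : y ∈ B₂ := Subgroup.subset_closure (Or.inr (Or.inr rfl))
      have hcard : Nat.card B₂ ≤ Nat.card B₁ := by
        have h2 := hr B₂ hB₂c
        have : p ^ 2 ≤ p ^ b := Nat.pow_le_pow_right hp.pos (by omega)
        rw [hb]; omega
      have := Subgroup.eq_of_le_of_card_ge h12 hcard
      rw [this]; exact hyB₂
    -- the pairing
    let φ := Cfsg.Agent.Lib.Helper29.pairHom hcl x
    have hker : φ.ker ≤ centralizer ({x} : Set E) := by
      intro q hq
      rw [Subgroup.mem_centralizer_singleton_iff]
      exact ((Cfsg.Agent.Lib.Helper29.pairHom_eq_one_iff hcl x q).1 hq)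
    have hkercard : Nat.card φ.ker ≤ p ^ b := by
      rw [← hb]
      exact Subgroup.card_le_of_le (hker.trans hCB)
    have hrange : φ.ker.index ≤ p ^ a := by
      rw [Subgroup.index_ker, ← ha]
      exact Subgroup.card_le_card_group _
    have hn3 : n ≤ 3 := by
      have h1 : Nat.card E = Nat.card φ.ker * φ.ker.index := (Subgroup.card_mul_index _).symm
      have h2 : p ^ n ≤ p ^ b * p ^ a := by
        rw [← hn, h1]
        exact Nat.mul_le_mul hkercard hrange
      rw [← pow_add] at h2
      have := (Nat.pow_le_pow_iff_right hp1).1 h2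
      omega
    -- the Frattini subgroup is nontrivial
    obtain ⟨c, hc⟩ := exists_card_eq_pow hE (frattini E)
    have hc1 : 1 ≤ c := by
      rcases Nat.eq_zero_or_pos c with h | h
      · rw [h, pow_zero] at hc
        have hbot := (Subgroup.card_eq_one.1 hc)
        exfalso
        have h1 : ⁅x, y₀⁆ ∈ commutator E :=
          Subgroup.commutator_mem_commutator (Subgroup.mem_top x) (Subgroup.mem_top y₀)
        have h2 := Cfsg.Agent.Lib.Helper24.commutator_le_frattini_of_isPGroup hE h1
        rw [hbot, Subgroup.mem_bot] at h2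
        exact hxy (commutatorElement_eq_one_iff_mul_comm.1 h2)
      · exact h
    have hmul : Nat.card (frattini E) * (frattini E).index = Nat.card E := Subgroup.card_mul_index _
    rw [hc, hr', hn, ← pow_add] at hmul
    have := Nat.pow_right_injective hp.two_le hmul
    omega

end Cfsg.Agent.Lib.Helper32.Rank2
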