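import Mathlib
import Cfsg.Agent.Lib.Helper32.GL2Aut
import Cfsg.Agent.S0093
import Cfsg.Agent.S0120
import Cfsg.Agent.S0121
import Cfsg.Agent.S4207

set_option autoImplicit false
set_option linter.style.haveILetI false

namespace Cfsg.Agent.Lib.Helper32.Rank2

open Subgroup
open scoped commutatorElement

/-- `f` has a `p`-group as kernel -/
def PKer (p : ℕ) {A B : Type*} [Group A] [Group B] (f : A →* B) : Prop :=
  ∀ z, f z = 1 → ∃ k : ℕ, z ^ (p ^ k) = 1

theorem PKer.comp {p : ℕ} {A B C : Type*} [Group A] [Group B] [Group C] {f : A →* B} {g : B →* C}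
    (hf : PKer p f) (hg : PKer p g) : PKer p (g.comp f) := by
  intro z hz
  obtain ⟨k, hk⟩ := hg (f z) hz
  rw [← map_pow] at hk
  obtain ⟨l, hl⟩ := hf _ hk
  refine ⟨k + l, ?_⟩
  rw [pow_add, pow_mul]
  exact hl

theorem pKer_of_coprime {p : ℕ} [Fact p.Prime] {A B : Type*} [Group A] [Finite A] [Group B]
    (f : A →* B) (h : ∀ a, f a = 1 → (orderOf a).Coprime p → a = 1) : PKer p f := by
  intro z hz
  have hp : p.Prime := Fact.out
  obtain ⟨e, n', hn', hn⟩ := Nat.exists_eq_pow_mul_and_not_dvd (orderOf_pos z).ne' p hp.ne_one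
  refine ⟨e, ?_⟩
  apply h
  · rw [map_pow, hz, one_pow]
  · have h1 : (z ^ (p ^ e)) ^ n' = 1 := by rw [← pow_mul, ← hn, pow_orderOf_eq_one]
    have h2 : orderOf (z ^ (p ^ e)) ∣ n' := orderOf_dvd_of_pow_eq_one h1
    have h3 : n'.Coprime p := ((Nat.Prime.coprime_iff_not_dvd hp).2 hn').symm
    exact Nat.Coprime.coprime_dvd_left h2 h3

/-- the action of automorphisms on the quotient by a characteristic subgroup -/
def autQuot {E : Type*} [Group E] (N : Subgroup E) [hN : N.Characteristic] :
    MulAut E →* MulAut (E ⧸ N) where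
  toFun f := QuotientGroup.congr N N f (Subgroup.characteristic_iff_map_eq.1 hN f)
  map_one' := by
    ext x
    induction x using QuotientGroup.induction_on with
    | H x => rfl
  map_mul' f g := by
    ext x
    induction x using QuotientGroup.induction_on with
    | H x => rfl

theorem autQuot_mk {E : Type*} [Group E] (N : Subgroup E) [hN : N.Characteristic] (f : MulAut E)
    (x : E) : autQuot N f (QuotientGroup.mk x) = QuotientGroup.mk (f x) := rfl

theorem pKer_autQuot_frattini {E : Type*} [Group E] [Finite E] {p : ℕ} [Fact p.Prime]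
    (hE : IsPGroup p E) : PKer p (autQuot (frattini E)) := by
  intro z hz
  obtain ⟨n, hn⟩ := IsPGroup.iff_card.1 hE
  have hidx : (frattini E).index ∣ p ^ n := hn ▸ Subgroup.index_dvd_card _
  obtain ⟨r, -, hr⟩ := (Nat.dvd_prime_pow Fact.out).1 hidx
  have hz' : ∀ x : E, z x * x⁻¹ ∈ frattini E := by
    intro x
    have := congrArg (fun g : MulAut (E ⧸ frattini E) => g (QuotientGroup.mk x)) hz
    simp only [autQuot_mk, MulAut.one_apply] at this
    rw [← QuotientGroup.eq_one_iff, QuotientGroup.mk_mul, QuotientGroup.mk_inv, this,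
      mul_inv_cancel]
  have hA : ∀ α ∈ zpowers z, ∀ x : E, α x * x⁻¹ ∈ frattini E := by
    intro α hα
    have hsub : zpowers z ≤
        ({ carrier := {β | ∀ x : E, β x * x⁻¹ ∈ frattini E}
           one_mem' := fun x => by simp
           mul_mem' := by
            intro β γ hβ hγ x
            have : (β * γ) x * x⁻¹ = (β (γ x) * (γ x)⁻¹) * (γ x * x⁻¹) := by
              rw [MulAut.mul_apply]; group
            rw [this]
            exact mul_mem (hβ _) (hγ _)
           inv_mem' := by
            intro β hβ x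
            have h := hβ (β⁻¹ x)
            rw [MulAut.apply_inv_self] at h
            have : β⁻¹ x * x⁻¹ = (x * (β⁻¹ x)⁻¹)⁻¹ := by group
            rw [this]
            exact inv_mem h } : Subgroup (MulAut E)) := by
      rw [zpowers_le]
      exact hz'
    exact hsub hα
  have hdvd := Cfsg.Agent.S4207.result hn hr (zpowers z) hA
  rw [Nat.card_zpowers] at hdvd
  refine ⟨r * (n - r), ?_⟩
  exact orderOf_dvd_iff_pow_eq_one.1 hdvd

end Cfsg.Agent.Lib.Helper32.Rank2
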