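import Mathlib
import Cfsg.Agent.Lib.Helper32.Rank2Frattini
import Cfsg.Agent.Lib.Helper32.Rank2Ker
import Cfsg.Agent.Lib.Helper24.Omega1Exp
import Cfsg.Prelude.Def_CaseTheorems

set_option autoImplicit false
set_option linter.style.haveILetI false

universe u

namespace Cfsg.Agent.Lib.Helper32.Rank2

open Subgroup
open scoped commutatorElement

theorem exp_p_commutator_mulAut' (p : ℕ) [Fact p.Prime] {Q : Type*} [Group Q] [Finite Q]
    (hcomm : ∀ a b : Q, a * b = b * a)
    (hexp : ∀ q : Q, q ^ p = 1) (hcard : Nat.card Q ∣ p ^ 2) (Y : Subgroup (MulAut Q))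
    (hodd : Odd (Nat.card Y)) [Group.IsSolvable Y] : ∀ z ∈ ⁅Y, Y⁆, z ^ p = 1 := by
  letI : CommGroup Q := { ‹Group Q› with mul_comm := hcomm }
  exact Cfsg.Agent.Lib.Helper32.GL2.exp_p_commutator_mulAut p hexp hcard Y hodd

/-- **Key reduction**: for a `p`-group `P` of rank at most two (`p` odd) there is an elementary
abelian group `Q` of order dividing `p ^ 2` and a homomorphism `Aut P → Aut Q` whose kernel is a
`p`-group. -/
theorem exists_rank_two_action {P : Type u} [Group P] [Finite P] (p : ℕ) [Fact p.Prime]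
    (hp2 : p ≠ 2) (hP : IsPGroup p P) (hr : Cfsg.PRankLE p 2 P) :
    ∃ (Q : Type u) (_ : Group Q) (_ : Finite Q) (ρ : MulAut P →* MulAut Q),
      (∀ a b : Q, a * b = b * a) ∧ (∀ q : Q, q ^ p = 1) ∧ Nat.card Q ∣ p ^ 2 ∧ PKer p ρ := by
  obtain ⟨H, hHchar, h1, h2, h3⟩ := Cfsg.Agent.S0093.result hP
  haveI := hHchar
  haveI : Finite (MulAut P) := Finite.of_injective (fun f : MulAut P => (f : P → P))
      (fun f g h => MulEquiv.ext (congrFun h))
  have hρ₁ : PKer p (MulAut.characteristic H) := by
    apply pKer_of_coprime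
    intro a ha hcop
    apply Cfsg.Agent.S0121.result hP H hHchar h1 h2 h3 a hcop
    intro x hx
    have := congrArg (fun g : MulAut H => ((g ⟨x, hx⟩ : H) : P)) ha
    simpa using this
  have hHp : IsPGroup p H := hP.to_subgroup H
  have hcl : commutator H ≤ center H :=
    Cfsg.Agent.Lib.Helper24.commutator_le_center_of_frattini_central H hHp h1
  let E : Subgroup H := closure {x : H | x ^ p = 1}
  have hEexp : ∀ x ∈ E, x ^ p = 1 := fun x hx =>
    Cfsg.Agent.Lib.Helper29.pow_prime_eq_one_of_mem_closure hcl Fact.out hp2 x hx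
  have hEmem : ∀ x : H, x ^ p = 1 → x ∈ E := fun x hx => Subgroup.subset_closure hx
  haveI hEchar : E.Characteristic := by
    rw [characteristic_iff_map_le]
    intro φ
    rw [MonoidHom.map_closure, closure_le]
    rintro _ ⟨x, hx, rfl⟩
    apply Subgroup.subset_closure
    show (φ x) ^ p = 1
    rw [← map_pow, hx, map_one]
  haveI : Finite (MulAut H) := Finite.of_injective (fun f : MulAut H => (f : H → H))
      (fun f g h => MulEquiv.ext (congrFun h))
  have hρ₂ : PKer p (MulAut.characteristic E) := by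
    apply pKer_of_coprime
    intro a ha hcop
    apply Cfsg.Agent.S0120.result hp2 hHp a hcop
    intro x hx
    have := congrArg (fun g : MulAut E => ((g ⟨x, hEmem x hx⟩ : E) : H)) ha
    simpa using this
  have hEp : IsPGroup p E := hHp.to_subgroup E
  have hρ₃ : PKer p (autQuot (frattini E)) := pKer_autQuot_frattini hEp
  let ρ := (autQuot (frattini E)).comp ((MulAut.characteristic E).comp (MulAut.characteristic H))
  have hρ : PKer p ρ := (hρ₁.comp hρ₂).comp hρ₃
  -- the structure of `E`
  have hEexp' : ∀ x : E, x ^ p = 1 := fun x => Subtype.ext (hEexp x x.2)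
  have hEcl : commutator E ≤ center E := by
    rw [_root_.commutator_def, Subgroup.commutator_le]
    intro a _ b _
    rw [Subgroup.mem_center_iff]
    intro g
    apply Subtype.ext
    have hc : ⁅(a : H), (b : H)⁆ ∈ center H :=
      hcl (Subgroup.commutator_mem_commutator (Subgroup.mem_top _) (Subgroup.mem_top _))
    have := Subgroup.mem_center_iff.1 hc (g : H)
    have hcoe : ((⁅a, b⁆ : E) : H) = ⁅(a : H), (b : H)⁆ := by
      simp [commutatorElement_def]
    rw [Subgroup.coe_mul, Subgroup.coe_mul, hcoe]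
    exact this
  have hEr : ∀ B : Subgroup E, IsMulCommutative B → Nat.card B ≤ p ^ 2 := by
    intro B hB
    have h := hr ((B.map E.subtype).map H.subtype) inferInstance (by
      rintro _ ⟨_, ⟨b, hb, rfl⟩, rfl⟩
      have := hEexp' b
      have := congrArg (fun x : E => ((x : H) : P)) this
      simpa using this)
    rw [Subgroup.card_map_of_injective H.subtype_injective,
      Subgroup.card_map_of_injective E.subtype_injective] at h
    exact h
  have hidx := frattini_index_dvd_sq p hEexp' hEcl hEr
  -- the Frattini quotient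
  have hQcomm : ∀ a b : E ⧸ frattini E, a * b = b * a := by
    intro a b
    induction a using QuotientGroup.induction_on with
    | H x =>
    induction b using QuotientGroup.induction_on with
    | H y =>
    rw [← QuotientGroup.mk_mul, ← QuotientGroup.mk_mul, QuotientGroup.eq]
    have : (x * y)⁻¹ * (y * x) = ⁅y⁻¹, x⁻¹⁆ := by rw [commutatorElement_def]; group
    rw [this]
    exact Cfsg.Agent.Lib.Helper24.commutator_le_frattini_of_isPGroup hEp
      (Subgroup.commutator_mem_commutator (Subgroup.mem_top _) (Subgroup.mem_top _))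
  have hQexp : ∀ q : E ⧸ frattini E, q ^ p = 1 := by
    intro q
    induction q using QuotientGroup.induction_on with
    | H x => rw [← QuotientGroup.mk_pow, hEexp' x, QuotientGroup.mk_one]
  have hQcard : Nat.card (E ⧸ frattini E) ∣ p ^ 2 := hidx
  exact ⟨E ⧸ frattini E, inferInstance, inferInstance, ρ, hQcomm, hQexp, hQcard, hρ⟩

/-- **Abstract form**: a solvable group of odd order of automorphisms of a `p`-group of rank at
most two (`p` odd) has a `p`-group as commutator subgroup. -/
theorem isPGroup_commutator_mulAut {P : Type*} [Group P] [Finite P] (p : ℕ) [Fact p.Prime]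
    (hp2 : p ≠ 2) (hP : IsPGroup p P) (hr : Cfsg.PRankLE p 2 P) (Y : Subgroup (MulAut P))
    (hodd : Odd (Nat.card Y)) [Group.IsSolvable Y] :
    ∀ z ∈ ⁅Y, Y⁆, ∃ k : ℕ, z ^ (p ^ k) = 1 := by
  obtain ⟨Q, _, _, ρ, hQcomm, hQexp, hQcard, hρ⟩ := exists_rank_two_action p hp2 hP hr
  haveI : Finite (MulAut P) := Finite.of_injective (fun f : MulAut P => (f : P → P))
      (fun f g h => MulEquiv.ext (congrFun h))
  -- the image of `Y`
  have hYodd : Odd (Nat.card (Y.map ρ)) := Odd.of_dvd_nat hodd (Subgroup.card_map_dvd Y ρ)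
  haveI : Group.IsSolvable (Y.map ρ) :=
    Group.isSolvable_of_surjective (f := ρ.subgroupMap Y) (ρ.subgroupMap_surjective Y)
  have hmain := exp_p_commutator_mulAut' p hQcomm hQexp hQcard (Y.map ρ) hYodd
  intro z hz
  have hz' : ρ z ∈ ⁅Y.map ρ, Y.map ρ⁆ := by
    rw [← Subgroup.map_commutator]
    exact Subgroup.mem_map_of_mem _ hz
  have h4 := hmain _ hz'
  rw [← map_pow] at h4
  obtain ⟨k, hk⟩ := hρ _ h4
  refine ⟨1 + k, ?_⟩
  rw [pow_add, pow_mul, pow_one]
  exact hk

end Cfsg.Agent.Lib.Helper32.Rank2
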