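import Mathlib
import Cfsg.Agent.Lib.Helper32.Rank2Ker
import Cfsg.Agent.Lib.Helper55.Cores

set_option autoImplicit false
set_option linter.style.haveILetI false

namespace Cfsg.Agent.Lib.Helper32.Narrow

open Subgroup
open scoped commutatorElement

section stab

variable {P : Type*} [Group P]

theorem apply_mem_of_characteristic (H : Subgroup P) [hH : H.Characteristic] (φ : MulAut P)
    {h : P} (hh : h ∈ H) : φ h ∈ H :=
  (Subgroup.characteristic_iff_map_le.1 hH φ) ⟨h, hh, rfl⟩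

/-- automorphisms acting trivially on `B` modulo `A` -/
def stab (A B : Subgroup P) [hA : A.Characteristic] [hB : B.Characteristic] :
    Subgroup (MulAut P) where
  carrier := {φ | ∀ b ∈ B, b⁻¹ * φ b ∈ A}
  one_mem' := by
    intro b _
    simp
  mul_mem' := by
    intro φ ψ hφ hψ b hb
    have h1 := hφ b hb
    have h2 := hψ b hb
    have h3 : φ (b⁻¹ * ψ b) ∈ A := apply_mem_of_characteristic A φ h2
    have : b⁻¹ * (φ * ψ) b = (b⁻¹ * φ b) * φ (b⁻¹ * ψ b) := by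
      rw [MulAut.mul_apply, map_mul, map_inv]; group
    rw [this]
    exact A.mul_mem h1 h3
  inv_mem' := by
    intro φ hφ b hb
    have hb' : φ⁻¹ b ∈ B := apply_mem_of_characteristic B φ⁻¹ hb
    have h1 := hφ _ hb'
    rw [MulAut.apply_inv_self] at h1
    have : b⁻¹ * φ⁻¹ b = ((φ⁻¹ b)⁻¹ * b)⁻¹ := by group
    rw [this]
    exact A.inv_mem h1

theorem mem_stab {A B : Subgroup P} [hA : A.Characteristic] [hB : B.Characteristic]
    {φ : MulAut P} : φ ∈ stab A B ↔ ∀ b ∈ B, b⁻¹ * φ b ∈ A := Iff.rfl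

instance stab_normal (A B : Subgroup P) [hA : A.Characteristic] [hB : B.Characteristic] :
    (stab A B).Normal := by
  constructor
  intro φ hφ ψ b hb
  have hb' : ψ⁻¹ b ∈ B := apply_mem_of_characteristic B ψ⁻¹ hb
  have h1 := hφ _ hb'
  have h2 : ψ ((ψ⁻¹ b)⁻¹ * φ (ψ⁻¹ b)) ∈ A := apply_mem_of_characteristic A ψ h1
  have : b⁻¹ * (ψ * φ * ψ⁻¹) b = ψ ((ψ⁻¹ b)⁻¹ * φ (ψ⁻¹ b)) := by
    rw [map_mul, map_inv, MulAut.apply_inv_self]
    rfl
  rw [this]
  exact h2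

/-- a coprime automorphism fixing `A` pointwise and stabilizing `B / A` fixes `B` pointwise -/
theorem fix_of_mem_stab [Finite P] {p : ℕ} [Fact p.Prime] (hP : IsPGroup p P)
    (A B : Subgroup P) [A.Characteristic] [B.Characteristic] (φ : MulAut P)
    (hcop : (orderOf φ).Coprime p) (hφ : φ ∈ stab A B) (hfix : ∀ a ∈ A, φ a = a) :
    ∀ b ∈ B, φ b = b := by
  intro b hb
  set n := b⁻¹ * φ b with hn
  have hnA : n ∈ A := hφ b hb
  have hφn : φ n = n := hfix n hnA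
  have hφb : φ b = b * n := by rw [hn]; group
  have hpow : ∀ j : ℕ, (φ ^ j) b = b * n ^ j := by
    intro j
    induction j with
    | zero => simp
    | succ j ih =>
      rw [pow_succ', MulAut.mul_apply, ih, map_mul, map_pow, hφn, hφb, pow_succ', mul_assoc]
  have h1 := hpow (orderOf φ)
  rw [pow_orderOf_eq_one, MulAut.one_apply] at h1
  have h2 : n ^ orderOf φ = 1 := by
    have h3 : b * 1 = b * n ^ orderOf φ := by rw [mul_one]; exact h1
    exact (mul_left_cancel h3).symm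
  obtain ⟨k, hk⟩ := hP n
  have h3 : orderOf n ∣ Nat.gcd (orderOf φ) (p ^ k) :=
    Nat.dvd_gcd (orderOf_dvd_of_pow_eq_one h2) (orderOf_dvd_of_pow_eq_one hk)
  have h4 : Nat.gcd (orderOf φ) (p ^ k) = 1 := Nat.Coprime.pow_right k hcop
  rw [h4, Nat.dvd_one, orderOf_eq_one_iff] at h3
  rw [hφb, h3, mul_one]

end stab

section cyc

variable {X : Type*} [Group X] {p : ℕ} [Fact p.Prime]

theorem isCyclic_of_card_le_prime (D : Subgroup X) [Finite D] (hexp : ∀ d ∈ D, d ^ p = 1)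
    (hcard : Nat.card D ≤ p) : IsCyclic D := by
  by_cases h : ∀ d : D, d = 1
  · haveI : Subsingleton D := ⟨fun a b => by rw [h a, h b]⟩
    infer_instance
  · push Not at h
    obtain ⟨d, hd⟩ := h
    have h1 : d ^ p = 1 := Subtype.ext (by simpa using hexp d d.2)
    have : orderOf d = p := orderOf_eq_prime h1 hd
    exact isCyclic_of_card_le_orderOf d (by rw [this]; exact hcard)

/-- automorphisms preserving a subgroup of order at most `p` and exponent `p` act on it through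
an abelian group of exponent `p - 1` -/
theorem comm_and_pow_fix (D : Subgroup X) [Finite D] (hexp : ∀ d ∈ D, d ^ p = 1)
    (hcard : Nat.card D ≤ p) (S : Subgroup (MulAut X)) (hS : ∀ ψ ∈ S, ∀ d ∈ D, ψ d ∈ D) :
    (∀ ψ₁ ∈ S, ∀ ψ₂ ∈ S, ∀ d ∈ D, ⁅ψ₁, ψ₂⁆ d = d) ∧
      (∀ ψ ∈ S, ∀ d ∈ D, (ψ ^ (p - 1)) d = d) := by
  have hp : p.Prime := Fact.out
  haveI := isCyclic_of_card_le_prime D hexp hcard
  have key : ∀ ψ ∈ S, ∃ m : ℤ, ∀ d ∈ D, ψ d = d ^ m := by
    intro ψ hψ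
    let σ : D →* D := (ψ.toMonoidHom.domRestrict D).codRestrict D (fun d => hS ψ hψ d d.2)
    obtain ⟨m, hm⟩ := MonoidHom.map_cyclic σ
    refine ⟨m, fun d hd => ?_⟩
    have := congrArg Subtype.val (hm ⟨d, hd⟩)
    simpa [σ] using this
  constructor
  · intro ψ₁ h₁ ψ₂ h₂ d hd
    obtain ⟨m₁, hm₁⟩ := key ψ₁ h₁
    obtain ⟨m₂, hm₂⟩ := key ψ₂ h₂
    have hcomm : ∀ e ∈ D, ψ₁ (ψ₂ e) = ψ₂ (ψ₁ e) := by
      intro e he
      rw [hm₂ e he, hm₁ e he, map_zpow, map_zpow, hm₁ e he, hm₂ e he, ← zpow_mul, ← zpow_mul,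
        mul_comm]
    have hd' : ψ₁⁻¹ (ψ₂⁻¹ d) ∈ D := hS _ (S.inv_mem h₁) _ (hS _ (S.inv_mem h₂) _ hd)
    have h3 := hcomm _ hd'
    rw [commutatorElement_def]
    show ψ₁ (ψ₂ (ψ₁⁻¹ (ψ₂⁻¹ d))) = d
    rw [h3, MulAut.apply_inv_self, MulAut.apply_inv_self]
  · intro ψ hψ d hd
    obtain ⟨m, hm⟩ := key ψ hψ
    have hpow : ∀ j : ℕ, ∀ e ∈ D, (ψ ^ j) e = e ^ (m ^ j) := by
      intro j
      induction j with
      | zero => intro e _; simp
      | succ j ih =>
        intro e he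
        rw [pow_succ', MulAut.mul_apply, ih e he, map_zpow, hm e he, ← zpow_mul, pow_succ']
    rw [hpow _ d hd]
    by_cases hd1 : d = 1
    · rw [hd1, one_zpow]
    have hdp : d ^ (p : ℤ) = 1 := by rw [zpow_natCast]; exact hexp d hd
    have hnd : ¬ (p : ℤ) ∣ m := by
      rintro ⟨t, ht⟩
      have h1 : ψ d = 1 := by rw [hm d hd, ht, zpow_mul, hdp, one_zpow]
      exact hd1 (by simpa using h1)
    have hcop : IsCoprime m (p : ℤ) :=
      ((Nat.prime_iff_prime_int.mp hp).coprime_iff_not_dvd.2 hnd).symm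
    have hmod := Int.ModEq.pow_card_sub_one_eq_one hp hcop
    obtain ⟨t, ht⟩ := hmod.dvd
    have h2 : m ^ (p - 1) = 1 - (p : ℤ) * t := by linarith
    rw [h2, zpow_sub, zpow_one, zpow_mul, hdp, one_zpow, inv_one, mul_one]

end cyc

section app

variable {P : Type*} [Group P] [Finite P] {p : ℕ} [Fact p.Prime]

/-- commutators and `(p - 1)`-th powers of automorphisms stabilize a characteristic section of
order at most `p` -/
theorem comm_mem_stab (A B : Subgroup P) [hA : A.Characteristic] [hB : B.Characteristic]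
    (hAB : A ≤ B) (hexp : ∀ b ∈ B, b ^ p ∈ A) (hcard : Nat.card B ≤ p * Nat.card A) :
    (∀ φ ψ : MulAut P, ⁅φ, ψ⁆ ∈ stab A B) ∧ ∀ φ : MulAut P, φ ^ (p - 1) ∈ stab A B := by
  let D : Subgroup (P ⧸ A) := B.map (QuotientGroup.mk' A)
  have hDexp : ∀ d ∈ D, d ^ p = 1 := by
    rintro _ ⟨b, hb, rfl⟩
    rw [QuotientGroup.mk'_apply, ← QuotientGroup.mk_pow, QuotientGroup.eq_one_iff]
    exact hexp b hb
  have hDcard : Nat.card D ≤ p := by
    have h1 := Cfsg.Agent.Lib.Helper55.card_comap_mk' A D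
    rw [QuotientGroup.comap_map_mk', sup_eq_right.2 hAB] at h1
    rw [h1, mul_comm] at hcard
    exact Nat.le_of_mul_le_mul_right hcard Nat.card_pos
  let Φ := Cfsg.Agent.Lib.Helper32.Rank2.autQuot A
  have hS : ∀ ψ ∈ Φ.range, ∀ d ∈ D, ψ d ∈ D := by
    rintro _ ⟨φ, rfl⟩ _ ⟨b, hb, rfl⟩
    exact ⟨φ b, apply_mem_of_characteristic B φ hb, rfl⟩
  obtain ⟨h1, h2⟩ := comm_and_pow_fix D hDexp hDcard Φ.range hS
  constructor
  · intro φ ψ b hb
    have := h1 (Φ φ) ⟨φ, rfl⟩ (Φ ψ) ⟨ψ, rfl⟩ (QuotientGroup.mk b) ⟨b, hb, rfl⟩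
    rw [← map_commutatorElement] at this
    have h3 : (QuotientGroup.mk (⁅φ, ψ⁆ b) : P ⧸ A) = QuotientGroup.mk b := this
    exact QuotientGroup.eq.1 h3.symm
  · intro φ b hb
    have := h2 (Φ φ) ⟨φ, rfl⟩ (QuotientGroup.mk b) ⟨b, hb, rfl⟩
    rw [← map_pow] at this
    have h3 : (QuotientGroup.mk ((φ ^ (p - 1)) b) : P ⧸ A) = QuotientGroup.mk b := this
    exact QuotientGroup.eq.1 h3.symm

end app

end Cfsg.Agent.Lib.Helper32.Narrow
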