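import Mathlib
import Cfsg.Agent.Lib.Helper32.StabChain
import Cfsg.Agent.Lib.Helper32.Rank2Aut
import Cfsg.Agent.S1453

set_option autoImplicit false
set_option linter.style.haveILetI false

universe u

namespace Cfsg.Agent.Lib.Helper32.Narrow

open Subgroup Cfsg
open scoped commutatorElement

section basic

variable {P : Type*} [Group P]

/-- a set of commuting elements of order dividing `p` generates an elementary abelian subgroup -/
theorem elemAb_closure {p : ℕ} (k : Set P) (hcomm : ∀ a ∈ k, ∀ b ∈ k, a * b = b * a)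
    (hexp : ∀ a ∈ k, a ^ p = 1) :
    (∀ a ∈ closure k, ∀ b ∈ closure k, a * b = b * a) ∧ ∀ a ∈ closure k, a ^ p = 1 := by
  have h1 : ∀ a ∈ closure k, ∀ b ∈ closure k, a * b = b * a := by
    intro a ha b hb
    have := (Subgroup.isMulCommutative_closure hcomm).is_comm.comm
      (⟨a, ha⟩ : closure k) ⟨b, hb⟩
    exact congrArg Subtype.val this
  refine ⟨h1, ?_⟩
  intro a ha
  induction ha using Subgroup.closure_induction with
  | mem x hx => exact hexp x hx
  | one => exact one_pow _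
  | mul x y hx hy ihx ihy =>
    have hc : Commute x y := h1 x hx y hy
    rw [hc.mul_pow, ihx, ihy, one_mul]
  | inv x hx ihx => rw [inv_pow, ihx, inv_one]

/-- elementary abelian subgroups of `C_P(x)` are small -/
theorem card_le_of_le_centralizer {p : ℕ} {x : P}
    (hC : PRankLE p 2 ↥(centralizer ({x} : Set P))) (B : Subgroup P)
    (hB : B ≤ centralizer ({x} : Set P)) (hcomm : ∀ a ∈ B, ∀ b ∈ B, a * b = b * a)
    (hexp : ∀ b ∈ B, b ^ p = 1) : Nat.card B ≤ p ^ 2 := by
  have h1 : Nat.card (B.subgroupOf (centralizer ({x} : Set P))) = Nat.card B :=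
    Nat.card_congr (Subgroup.subgroupOfEquivOfLe hB).toEquiv
  rw [← h1]
  apply hC
  · refine ⟨⟨fun a b => ?_⟩⟩
    apply Subtype.ext
    apply Subtype.ext
    exact hcomm _ (Subgroup.mem_subgroupOf.1 a.2) _ (Subgroup.mem_subgroupOf.1 b.2)
  · intro a ha
    apply Subtype.ext
    have := hexp _ (Subgroup.mem_subgroupOf.1 ha)
    simpa using this

/-- the fixed point inequality in the form of a counting statement -/
theorem card_le_card_mul_card_fix [Finite P] (A B : Subgroup P) (x : P)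
    (h : ∀ b ∈ B, b⁻¹ * (x⁻¹ * b * x) ∈ A) :
    Nat.card B ≤ Nat.card A * Nat.card ↥(B ⊓ centralizer ({x} : Set P)) := by
  classical
  let f : B → A := fun b => ⟨(b : P)⁻¹ * (x⁻¹ * b * x), h b b.2⟩
  have key : ∀ b b' : B, f b = f b' → (b' : P) * (b : P)⁻¹ ∈ B ⊓ centralizer ({x} : Set P) := by
    intro b b' hbb'
    refine ⟨B.mul_mem b'.2 (B.inv_mem b.2), ?_⟩
    show (b' : P) * (b : P)⁻¹ ∈ centralizer ({x} : Set P)
    rw [Subgroup.mem_centralizer_singleton_iff]
    have heq : (b : P)⁻¹ * (x⁻¹ * b * x) = (b' : P)⁻¹ * (x⁻¹ * b' * x) :=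
      congrArg Subtype.val hbb'
    have h2 : x⁻¹ * (b' : P) * x = b' * ((b : P)⁻¹ * (x⁻¹ * b * x)) := by rw [heq]; group
    have h1 : x⁻¹ * ((b' : P) * (b : P)⁻¹) * x = b' * (b : P)⁻¹ := by
      have : x⁻¹ * ((b' : P) * (b : P)⁻¹) * x = (x⁻¹ * b' * x) * (x⁻¹ * b * x)⁻¹ := by group
      rw [this, h2]; group
    calc (b' : P) * (b : P)⁻¹ * x = x * (x⁻¹ * ((b' : P) * (b : P)⁻¹) * x) := by group
      _ = x * ((b' : P) * (b : P)⁻¹) := by rw [h1]
  let r : B → B := fun b => Function.invFun f (f b)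
  have hr : ∀ b, f (r b) = f b := fun b => Function.invFun_eq ⟨b, rfl⟩
  let g : B → A × ↥(B ⊓ centralizer ({x} : Set P)) :=
    fun b => (f b, ⟨(b : P) * ((r b : B) : P)⁻¹, key (r b) b (hr b)⟩)
  have hg : Function.Injective g := by
    intro b b' hbb'
    have h1 : f b = f b' := congrArg Prod.fst hbb'
    have h2 : (b : P) * ((r b : B) : P)⁻¹ = (b' : P) * ((r b' : B) : P)⁻¹ :=
      congrArg (fun t => ((t.2 : ↥(B ⊓ centralizer ({x} : Set P))) : P)) hbb'
    have h3 : r b = r b' := by simp only [r, h1]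
    rw [h3] at h2
    exact Subtype.ext (mul_right_cancel h2)
  calc Nat.card B ≤ Nat.card (A × ↥(B ⊓ centralizer ({x} : Set P))) :=
        Nat.card_le_card_of_injective g hg
    _ = _ := Nat.card_prod _ _

end basic

section narrow

variable {P : Type u} [Group P] [Finite P] (p : ℕ) [Fact p.Prime]

/-- a subgroup of exponent `p` of `C_P(x)` not containing `x` has order at most `p` -/
theorem card_fix_le (hP : IsPGroup p P) {x : P} (hx : x ^ p = 1)
    (hC : PRankLE p 2 ↥(centralizer ({x} : Set P))) (F : Subgroup P)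
    (hF : F ≤ centralizer ({x} : Set P)) (hexp : ∀ a ∈ F, a ^ p = 1) (hxF : x ∉ F) :
    Nat.card F ≤ p := by
  have hp : p.Prime := Fact.out
  obtain ⟨k, hk⟩ := IsPGroup.iff_card.1 (hP.to_subgroup F)
  rcases Nat.lt_or_ge k 2 with hk2 | hk2
  · rw [hk]
    calc p ^ k ≤ p ^ 1 := Nat.pow_le_pow_right hp.pos (by omega)
      _ = p := pow_one p
  exfalso
  have hdvd : p ^ 2 ∣ Nat.card F := by rw [hk]; exact pow_dvd_pow p hk2
  obtain ⟨V₀, hV₀⟩ := Sylow.exists_subgroup_card_pow_prime p hdvd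
  have hV₀comm : ∀ a b : V₀, a * b = b * a :=
    (IsPGroup.isMulCommutative_of_card_eq_prime_sq hV₀).is_comm.comm
  let V : Subgroup P := V₀.map F.subtype
  have hVcard : Nat.card V = p ^ 2 := by
    rw [Subgroup.card_map_of_injective F.subtype_injective, hV₀]
  have hVF : V ≤ F := by
    rintro _ ⟨v, _, rfl⟩
    exact v.2
  have hVcomm : ∀ a ∈ V, ∀ b ∈ V, a * b = b * a := by
    rintro _ ⟨a, ha, rfl⟩ _ ⟨b, hb, rfl⟩
    have := hV₀comm ⟨a, ha⟩ ⟨b, hb⟩
    have h2 := congrArg (fun t : V₀ => ((t : F) : P)) this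
    simpa using h2
  let k' : Set P := (V : Set P) ∪ {x}
  have hk'comm : ∀ a ∈ k', ∀ b ∈ k', a * b = b * a := by
    rintro a (ha | ha) b (hb | hb)
    · exact hVcomm a ha b hb
    · rw [Set.mem_singleton_iff.1 hb]
      exact Subgroup.mem_centralizer_singleton_iff.1 (hF (hVF ha))
    · rw [Set.mem_singleton_iff.1 ha]
      exact (Subgroup.mem_centralizer_singleton_iff.1 (hF (hVF hb))).symm
    · rw [Set.mem_singleton_iff.1 ha, Set.mem_singleton_iff.1 hb]
  have hk'exp : ∀ a ∈ k', a ^ p = 1 := by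
    rintro a (ha | ha)
    · exact hexp a (hVF ha)
    · rw [Set.mem_singleton_iff.1 ha]; exact hx
  obtain ⟨hBc, hBe⟩ := elemAb_closure (p := p) k' hk'comm hk'exp
  have hBle : closure k' ≤ centralizer ({x} : Set P) := by
    rw [closure_le]
    rintro a (ha | ha)
    · exact hF (hVF ha)
    · rw [Set.mem_singleton_iff.1 ha]
      exact Subgroup.mem_centralizer_singleton_iff.2 rfl
  have hBcard := card_le_of_le_centralizer hC (closure k') hBle hBc hBe
  have hVB : V ≤ closure k' := fun v hv => Subgroup.subset_closure (Or.inl hv)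
  have hVeq : V = closure k' := Subgroup.eq_of_le_of_card_ge hVB (by rw [hVcard]; exact hBcard)
  apply hxF
  apply hVF
  rw [hVeq]
  exact Subgroup.subset_closure (Or.inr rfl)

/-- a characteristic chain with factors of order at most `p` in a faithful characteristic
subgroup of exponent `p` gives a normal `p`-subgroup of `Aut P` with abelian quotient of exponent
dividing `p - 1` -/
theorem exists_normal_of_chain (hP : IsPGroup p P) (K M : Subgroup P) [K.Characteristic]
    [M.Characteristic] (C : ℕ → Subgroup P) [hCc : ∀ i, (C i).Characteristic] (hC0 : C 0 = ⊥)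
    (hmono : ∀ i, C i ≤ C (i + 1)) (hCM : ∀ i, C i ≤ M)
    (hn : ∃ n, C n = M) (hMK : M ≤ K) (hKexp : ∀ g ∈ K, g ^ p = 1)
    (hCcard : ∀ i, Nat.card (C (i + 1)) ≤ p * Nat.card (C i))
    (hKcard : Nat.card K ≤ p * Nat.card M)
    (hKfaith : ∀ ψ : MulAut P, (orderOf ψ).Coprime p → (∀ g ∈ K, ψ g = g) → ψ = 1) :
    ∃ N : Subgroup (MulAut P), N.Normal ∧ (∀ φ ∈ N, ∃ k : ℕ, φ ^ (p ^ k) = 1) ∧
      (∀ φ ψ : MulAut P, ⁅φ, ψ⁆ ∈ N) ∧ ∀ φ : MulAut P, φ ^ (p - 1) ∈ N := by
  haveI : Finite (MulAut P) := Finite.of_injective (fun f : MulAut P => (f : P → P))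
      (fun f g h => MulEquiv.ext (congrFun h))
  let N : Subgroup (MulAut P) := (⨅ i, stab (C i) (C (i + 1))) ⊓ stab M K
  haveI hN1 : (⨅ i, stab (C i) (C (i + 1))).Normal :=
    Subgroup.normal_iInf_normal (fun i => inferInstance)
  have hNn : N.Normal := inferInstance
  refine ⟨N, hNn, ?_, ?_, ?_⟩
  · have hcop : ∀ φ : ↥N, (1 : ↥N →* ↥N) φ = 1 → (orderOf φ).Coprime p → φ = 1 := by
      intro φ _ hcop
      have hcop' : (orderOf (φ : MulAut P)).Coprime p := by rwa [Subgroup.orderOf_coe]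
      have hφ1 : ∀ i, (φ : MulAut P) ∈ stab (C i) (C (i + 1)) :=
        fun i => (Subgroup.mem_iInf.1 φ.2.1) i
      have hφ2 : (φ : MulAut P) ∈ stab M K := φ.2.2
      have hfixC : ∀ i, ∀ c ∈ C i, (φ : MulAut P) c = c := by
        intro i
        induction i with
        | zero =>
          intro c hc
          rw [hC0, Subgroup.mem_bot] at hc
          rw [hc, map_one]
        | succ i ih => exact fix_of_mem_stab hP (C i) (C (i + 1)) _ hcop' (hφ1 i) ih
      obtain ⟨n, hn⟩ := hn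
      have hfixM : ∀ m ∈ M, (φ : MulAut P) m = m := fun m hm => hfixC n m (hn ▸ hm)
      have hfixK := fix_of_mem_stab hP M K _ hcop' hφ2 hfixM
      exact Subtype.ext (hKfaith _ hcop' hfixK)
    have := Cfsg.Agent.Lib.Helper32.Rank2.pKer_of_coprime (p := p) (1 : ↥N →* ↥N) hcop
    intro φ hφ
    obtain ⟨k, hk⟩ := this ⟨φ, hφ⟩ rfl
    refine ⟨k, ?_⟩
    have h2 := congrArg Subtype.val hk
    simpa using h2
  · intro φ ψ
    refine ⟨Subgroup.mem_iInf.2 (fun i => ?_), ?_⟩
    · exact (comm_mem_stab (p := p) (C i) (C (i + 1)) (hmono i)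
        (fun b hb => by rw [hKexp b (hMK (hCM _ hb))]; exact one_mem _) (hCcard i)).1 φ ψ
    · exact (comm_mem_stab (p := p) M K hMK
        (fun b hb => by rw [hKexp b hb]; exact one_mem _) hKcard).1 φ ψ
  · intro φ
    refine ⟨Subgroup.mem_iInf.2 (fun i => ?_), ?_⟩
    · exact (comm_mem_stab (p := p) (C i) (C (i + 1)) (hmono i)
        (fun b hb => by rw [hKexp b (hMK (hCM _ hb))]; exact one_mem _) (hCcard i)).2 φ
    · exact (comm_mem_stab (p := p) M K hMK
        (fun b hb => by rw [hKexp b hb]; exact one_mem _) hKcard).2 φ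

end narrow

end Cfsg.Agent.Lib.Helper32.Narrow
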