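import Mathlib
import Cfsg.Agent.Lib.Helper32.NarrowAut

set_option autoImplicit false
set_option linter.style.haveILetI false

universe u

namespace Cfsg.Agent.Lib.Helper32.Narrow

open Subgroup Cfsg
open scoped commutatorElement

variable {P : Type u} [Group P] [Finite P] (p : ℕ) [Fact p.Prime]

/-- the chain construction from a faithful characteristic subgroup `K` of exponent `p` and a
characteristic subgroup `T` of index `p` not containing `x` -/
theorem exists_normal_of_KT (hP : IsPGroup p P) (x : P) (hx : x ^ p = 1)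
    (hC : PRankLE p 2 ↥(centralizer ({x} : Set P))) (K T : Subgroup P) [K.Characteristic]
    [T.Characteristic] (hTidx : T.index = p) (hxT : x ∉ T) (hKexp : ∀ g ∈ K, g ^ p = 1)
    (hKfaith : ∀ ψ : MulAut P, (orderOf ψ).Coprime p → (∀ g ∈ K, ψ g = g) → ψ = 1) :
    ∃ N : Subgroup (MulAut P), N.Normal ∧ (∀ φ ∈ N, ∃ k : ℕ, φ ^ (p ^ k) = 1) ∧
      (∀ φ ψ : MulAut P, ⁅φ, ψ⁆ ∈ N) ∧ ∀ φ : MulAut P, φ ^ (p - 1) ∈ N := by
  have hp : p.Prime := Fact.out
  obtain ⟨n, hn⟩ := (hP.isNilpotent).nilpotent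
  have hF : Nat.card ↥((K ⊓ T) ⊓ centralizer ({x} : Set P)) ≤ p :=
    card_fix_le p hP hx hC _ inf_le_right (fun a ha => hKexp a ha.1.1) (fun h => hxT h.1.2)
  apply exists_normal_of_chain p hP K (K ⊓ T) (fun i => (K ⊓ T) ⊓ Subgroup.upperCentralSeries P i)
  · show _ ⊓ Subgroup.upperCentralSeries P 0 = ⊥
    rw [Subgroup.upperCentralSeries_zero, inf_bot_eq]
  · intro i
    exact inf_le_inf_left _ (Subgroup.upperCentralSeries_mono P (Nat.le_succ i))
  · intro i
    exact inf_le_left
  · refine ⟨n, ?_⟩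
    show _ ⊓ Subgroup.upperCentralSeries P n = _
    rw [hn, inf_top_eq]
  · exact inf_le_left
  · exact hKexp
  · intro i
    have h5 := card_le_card_mul_card_fix ((K ⊓ T) ⊓ Subgroup.upperCentralSeries P i)
      ((K ⊓ T) ⊓ Subgroup.upperCentralSeries P (i + 1)) x (by
      intro b hb
      refine ⟨?_, ?_⟩
      · have hMn : (K ⊓ T).Normal := inferInstance
        have : x⁻¹ * b * x ∈ K ⊓ T := by
          have := hMn.conj_mem b hb.1 x⁻¹
          simpa using this
        exact (K ⊓ T).mul_mem ((K ⊓ T).inv_mem hb.1) this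
      · have hb' : b⁻¹ ∈ Subgroup.upperCentralSeries P (i + 1) := Subgroup.inv_mem _ hb.2
        have := (Subgroup.mem_upperCentralSeries_succ_iff.1 hb') x⁻¹
        rw [commutatorElement_def] at this
        simpa [mul_assoc] using this)
    have h6 : Nat.card ↥(((K ⊓ T) ⊓ Subgroup.upperCentralSeries P (i + 1)) ⊓
        centralizer ({x} : Set P)) ≤ Nat.card ↥((K ⊓ T) ⊓ centralizer ({x} : Set P)) :=
      Subgroup.card_le_of_le (inf_le_inf_right _ inf_le_left)
    calc Nat.card ↥((K ⊓ T) ⊓ Subgroup.upperCentralSeries P (i + 1))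
        ≤ Nat.card ↥((K ⊓ T) ⊓ Subgroup.upperCentralSeries P i) *
          Nat.card ↥(((K ⊓ T) ⊓ Subgroup.upperCentralSeries P (i + 1)) ⊓
            centralizer ({x} : Set P)) := h5
      _ ≤ Nat.card ↥((K ⊓ T) ⊓ Subgroup.upperCentralSeries P i) * p :=
        Nat.mul_le_mul_left _ (h6.trans hF)
      _ = p * Nat.card ↥((K ⊓ T) ⊓ Subgroup.upperCentralSeries P i) := mul_comm _ _
  · have hMK : K ⊓ T ≤ K := inf_le_left
    have h5 := Cfsg.Agent.Lib.Helper55.card_mul_relIndex_eq hMK
    have h7 : T.relIndex K ∣ T.index := Subgroup.relIndex_dvd_index_of_normal T K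
    rw [hTidx] at h7
    have h6 : (K ⊓ T).relIndex K ≤ p := by
      rw [Subgroup.inf_relIndex_left]
      exact Nat.le_of_dvd hp.pos h7
    calc Nat.card K = Nat.card ↥(K ⊓ T) * (K ⊓ T).relIndex K := h5.symm
      _ ≤ Nat.card ↥(K ⊓ T) * p := Nat.mul_le_mul_left _ h6
      _ = p * Nat.card ↥(K ⊓ T) := mul_comm _ _
  · exact hKfaith

/-- **Automorphisms of narrow `p`-groups of rank at least three** (Bender–Glauberman 5.3):
`Aut P` has a normal `p`-subgroup with abelian quotient of exponent dividing `p - 1`. -/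
theorem exists_normal_pgroup_mulAut (hp2 : p ≠ 2) (hP : IsPGroup p P) (hr3 : ¬ PRankLE p 2 P)
    (x : P) (hx : x ^ p = 1) (hC : PRankLE p 2 ↥(centralizer ({x} : Set P))) :
    ∃ N : Subgroup (MulAut P), N.Normal ∧ (∀ φ ∈ N, ∃ k : ℕ, φ ^ (p ^ k) = 1) ∧
      (∀ φ ψ : MulAut P, ⁅φ, ψ⁆ ∈ N) ∧ ∀ φ : MulAut P, φ ^ (p - 1) ∈ N := by
  have hp : p.Prime := Fact.out
  -- `x` is not central
  have hxc : x ∉ center P := by
    intro hxc
    apply hr3
    intro B hBc hBe
    exact card_le_of_le_centralizer hC B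
      (fun b _ => Subgroup.mem_centralizer_singleton_iff.2 (Subgroup.mem_center_iff.1 hxc b))
      (fun a ha b hb => congrArg Subtype.val (hBc.is_comm.comm ⟨a, ha⟩ ⟨b, hb⟩)) hBe
  have hx1 : x ≠ 1 := fun h => hxc (h ▸ Subgroup.one_mem _)
  have hox : orderOf x = p := orderOf_eq_prime hx hx1
  haveI : Nontrivial P := ⟨⟨x, 1, hx1⟩⟩
  -- a central element of order `p`
  obtain ⟨z, hzc, hz1, hzp⟩ : ∃ z ∈ center P, z ≠ 1 ∧ z ^ p = 1 := by
    haveI := hP.center_nontrivial
    have hcard : p ∣ Nat.card (center P) := by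
      rcases (hP.to_subgroup (center P)).card_eq_or_dvd with h | h
      · have := Finite.one_lt_card (α := center P)
        omega
      · exact h
    obtain ⟨z, hz⟩ := exists_prime_orderOf_dvd_card' p hcard
    refine ⟨(z : P), z.2, ?_, ?_⟩
    · intro h
      have : z = 1 := Subtype.ext h
      rw [this, orderOf_one] at hz
      exact hp.one_lt.ne hz
    · have := pow_orderOf_eq_one z
      rw [hz] at this
      have h2 := congrArg Subtype.val this
      simpa using h2
  have hoz : orderOf z = p := orderOf_eq_prime hzp hz1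
  have hxz : x * z = z * x := Subgroup.mem_center_iff.1 hzc x
  -- the maximal elementary abelian subgroup `E = ⟨x, z⟩`
  have hkEcomm : ∀ a ∈ ({x, z} : Set P), ∀ b ∈ ({x, z} : Set P), a * b = b * a := by
    intro a ha b hb
    rcases ha with ha | ha <;> rcases hb with hb | hb
    · rw [ha, hb]
    · rw [ha, Set.mem_singleton_iff.1 hb]; exact hxz
    · rw [Set.mem_singleton_iff.1 ha, hb]; exact hxz.symm
    · rw [Set.mem_singleton_iff.1 ha, Set.mem_singleton_iff.1 hb]
  have hkEexp : ∀ a ∈ ({x, z} : Set P), a ^ p = 1 := by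
    intro a ha
    rcases ha with ha | ha
    · rw [ha]; exact hx
    · rw [Set.mem_singleton_iff.1 ha]; exact hzp
  obtain ⟨hEc, hEe⟩ := elemAb_closure (p := p) ({x, z} : Set P) hkEcomm hkEexp
  have hxE : x ∈ closure ({x, z} : Set P) := Subgroup.subset_closure (Or.inl rfl)
  have hzE : z ∈ closure ({x, z} : Set P) := Subgroup.subset_closure (Or.inr rfl)
  have hEle : closure ({x, z} : Set P) ≤ centralizer ({x} : Set P) :=
    fun e he => Subgroup.mem_centralizer_singleton_iff.2 (hEc e he x hxE)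
  have hEcard_le : Nat.card (closure ({x, z} : Set P)) ≤ p ^ 2 :=
    card_le_of_le_centralizer hC _ hEle hEc hEe
  have hzx' : z ∉ zpowers x := by
    intro hz
    have h1 : zpowers z ≤ zpowers x := zpowers_le.2 hz
    have h2 : zpowers z = zpowers x := Subgroup.eq_of_le_of_card_ge h1
      (by rw [Nat.card_zpowers, Nat.card_zpowers, hoz, hox])
    have h3 : x ∈ zpowers z := h2 ▸ mem_zpowers x
    exact hxc ((zpowers_le.2 hzc) h3)
  have hEcard : Nat.card (closure ({x, z} : Set P)) = p ^ 2 := by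
    obtain ⟨k, hk⟩ := IsPGroup.iff_card.1 (hP.to_subgroup (closure ({x, z} : Set P)))
    have hxE' : zpowers x ≤ closure ({x, z} : Set P) := zpowers_le.2 hxE
    have hk1 : 2 ≤ k := by
      by_contra hlt
      push Not at hlt
      have : Nat.card (closure ({x, z} : Set P)) ≤ Nat.card (zpowers x) := by
        rw [hk, Nat.card_zpowers, hox]
        calc p ^ k ≤ p ^ 1 := Nat.pow_le_pow_right hp.pos (by omega)
          _ = p := pow_one p
      have h2 := Subgroup.eq_of_le_of_card_ge hxE' this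
      exact hzx' (h2 ▸ hzE)
    have hk2 : k ≤ 2 := by
      rw [hk] at hEcard_le
      exact (Nat.pow_le_pow_iff_right hp.one_lt).1 hEcard_le
    rw [hk, le_antisymm hk2 hk1]
  have hEmax : ∀ B : Subgroup P, IsElementaryAbelian p B → closure ({x, z} : Set P) ≤ B →
      B = closure ({x, z} : Set P) := by
    intro B hB hEB
    have hBcomm : ∀ a ∈ B, ∀ b ∈ B, a * b = b * a :=
      fun a ha b hb => congrArg Subtype.val (hB.1.is_comm.comm ⟨a, ha⟩ ⟨b, hb⟩)
    have hBle : B ≤ centralizer ({x} : Set P) :=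
      fun b hb => Subgroup.mem_centralizer_singleton_iff.2 (hBcomm b hb x (hEB hxE))
    have := card_le_of_le_centralizer hC B hBle hBcomm hB.2
    exact (Subgroup.eq_of_le_of_card_ge hEB (by rw [hEcard]; exact this)).symm
  have hEel : IsElementaryAbelian p (closure ({x, z} : Set P)) :=
    ⟨⟨⟨fun a b => Subtype.ext (hEc a a.2 b b.2)⟩⟩, hEe⟩
  obtain ⟨hET, -, -, hTchar, hTidx⟩ :=
    Cfsg.Agent.S1453.result p hp2 hP hr3 _ hEel hEcard hEmax
  haveI := hTchar
  have hxT : x ∉ centralizer ((closure {y : P | y ∈ Subgroup.upperCentralSeries P 2 ∧ y ^ p = 1} :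
      Subgroup P) : Set P) := by
    intro hxT
    apply hET
    rw [closure_le]
    rintro a (ha | ha)
    · rw [ha]; exact hxT
    · rw [Set.mem_singleton_iff.1 ha]
      exact Subgroup.center_le_centralizer _ hzc
  -- a critical subgroup and its `Ω₁`
  obtain ⟨H, hHchar, h1, h2, h3⟩ := Cfsg.Agent.S0093.result hP
  haveI := hHchar
  have hHp : IsPGroup p H := hP.to_subgroup H
  have hcl : commutator H ≤ center H :=
    Cfsg.Agent.Lib.Helper24.commutator_le_center_of_frattini_central H hHp h1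
  haveI hKchar : (closure {g : P | g ∈ H ∧ g ^ p = 1}).Characteristic := by
    rw [characteristic_iff_map_le]
    intro φ
    rw [MonoidHom.map_closure, closure_le]
    rintro _ ⟨g, ⟨hgH, hgp⟩, rfl⟩
    apply Subgroup.subset_closure
    refine ⟨apply_mem_of_characteristic H φ hgH, ?_⟩
    show (φ g) ^ p = 1
    rw [← map_pow, hgp, map_one]
  have hKexp : ∀ g ∈ closure {g : P | g ∈ H ∧ g ^ p = 1}, g ^ p = 1 := by
    have hle : closure {g : P | g ∈ H ∧ g ^ p = 1} ≤
        (closure {h : H | h ^ p = 1}).map H.subtype := by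
      rw [closure_le]
      rintro g ⟨hgH, hgp⟩
      exact ⟨⟨g, hgH⟩, Subgroup.subset_closure (Subtype.ext (by simpa using hgp)), rfl⟩
    intro g hg
    obtain ⟨h, hh, rfl⟩ := hle hg
    have := Cfsg.Agent.Lib.Helper29.pow_prime_eq_one_of_mem_closure hcl hp hp2 h hh
    have h2 := congrArg Subtype.val this
    simpa using h2
  have hKfaith : ∀ ψ : MulAut P, (orderOf ψ).Coprime p →
      (∀ g ∈ closure {g : P | g ∈ H ∧ g ^ p = 1}, ψ g = g) → ψ = 1 := by
    intro ψ hcop hfix
    apply Cfsg.Agent.S0121.result hP H hHchar h1 h2 h3 ψ hcop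
    have h4 : MulAut.characteristic H ψ = 1 := by
      apply Cfsg.Agent.S0120.result hp2 hHp _
        (Nat.Coprime.coprime_dvd_left (orderOf_map_dvd _ ψ) hcop)
      intro h hh
      apply Subtype.ext
      have hK : (h : P) ∈ closure {g : P | g ∈ H ∧ g ^ p = 1} :=
        Subgroup.subset_closure ⟨h.2, by have := congrArg Subtype.val hh; simpa using this⟩
      have := hfix _ hK
      simpa using this
    intro g hg
    have := congrArg (fun f : MulAut H => ((f ⟨g, hg⟩ : H) : P)) h4
    simpa using this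
  exact exists_normal_of_KT p hP x hx hC _ _ hTidx hxT hKexp hKfaith

end Cfsg.Agent.Lib.Helper32.Narrow
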