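import Mathlib
import Cfsg.Agent.Lib.Helper24.NilpCrit
import Cfsg.Agent.Lib.Helper22.Fitting
import Cfsg.Agent.Lib.Helper10.FittingCent
import Cfsg.Agent.Lib.Helper21.BenderLemma
import Cfsg.Agent.Lib.Helper54.LBalance2

set_option autoImplicit false
set_option linter.style.haveILetI false

namespace Cfsg.Agent.Lib.Helper32.FitDer

open Subgroup Cfsg

/-- primary decomposition: an element lies in a subgroup as soon as all its powers of prime power
order do -/
theorem mem_of_forall_primary {G : Type*} [Group G] (H : Subgroup G) :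
    ∀ (n : ℕ) (d : G), orderOf d = n → 0 < n →
      (∀ x ∈ Subgroup.zpowers d, (∃ q k : ℕ, q.Prime ∧ q ∣ orderOf d ∧ x ^ (q ^ k) = 1) → x ∈ H) →
      d ∈ H := by
  intro n
  induction n using Nat.strong_induction_on with
  | _ n ih =>
  intro d hd hn h
  by_cases hn1 : n = 1
  · rw [hn1, orderOf_eq_one_iff] at hd
    rw [hd]; exact H.one_mem
  have hq : (n.minFac).Prime := Nat.minFac_prime hn1
  set q := n.minFac with hqdef
  have hqn : q ∣ n := Nat.minFac_dvd n
  obtain ⟨a, m, hqm, hnm⟩ := Nat.exists_eq_pow_mul_and_not_dvd hn.ne' q hq.ne_one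
  have hm0 : 0 < m := by
    rcases Nat.eq_zero_or_pos m with h0 | h0
    · subst h0; simp at hqm
    · exact h0
  have ha : 1 ≤ a := by
    rcases Nat.eq_zero_or_pos a with h0 | h0
    · subst h0
      rw [pow_zero, one_mul] at hnm
      exact absurd (hnm ▸ hqn) hqm
    · exact h0
  have hqa2 : 2 ≤ q ^ a := by
    calc 2 ≤ q := hq.two_le
      _ = q ^ 1 := (pow_one q).symm
      _ ≤ q ^ a := Nat.pow_le_pow_right hq.pos ha
  -- the `q`-part
  have h2 : d ^ m ∈ H := by
    apply h _ (Subgroup.pow_mem _ (Subgroup.mem_zpowers d) m)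
    refine ⟨q, a, hq, hd ▸ hqn, ?_⟩
    rw [← pow_mul, mul_comm, ← hnm, ← hd, pow_orderOf_eq_one]
  -- the `q'`-part
  have h1 : d ^ (q ^ a) ∈ H := by
    have hord : orderOf (d ^ (q ^ a)) = m := by
      rw [orderOf_pow_of_dvd (pow_ne_zero _ hq.ne_zero) (by rw [hd, hnm]; exact dvd_mul_right _ _),
        hd, hnm, Nat.mul_div_cancel_left _ (pow_pos hq.pos a)]
    have hmn : m < n := by
      rw [hnm]
      nlinarith
    apply ih m hmn _ hord hm0
    rintro x hx ⟨q', k, hq', hq'd, hxk⟩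
    apply h x
    · exact (Subgroup.zpowers_le.2 (Subgroup.pow_mem _ (Subgroup.mem_zpowers d) _)) hx
    · refine ⟨q', k, hq', ?_, hxk⟩
      rw [hord] at hq'd
      rw [hd, hnm]
      exact hq'd.trans (dvd_mul_left _ _)
  have hcop : (q ^ a).Coprime m :=
    Nat.Coprime.pow_left a ((Nat.Prime.coprime_iff_not_dvd hq).2 hqm)
  exact Cfsg.Agent.Lib.Helper24.mem_of_pow_mem_of_coprime H d hcop h1 h2

theorem mem_of_forall_primary' {G : Type*} [Group G] [Finite G] (H : Subgroup G) (d : G)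
    (h : ∀ x ∈ Subgroup.zpowers d, (∃ q k : ℕ, q.Prime ∧ q ∣ orderOf d ∧ x ^ (q ^ k) = 1) → x ∈ H) :
    d ∈ H :=
  mem_of_forall_primary H _ d rfl (orderOf_pos d) h


/-- the centralizer of the Fitting subgroup as an intersection -/
theorem mem_centralizer_fitting_of_forall {G : Type*} [Group G] [Finite G] {y : G}
    (h : ∀ r : Nat.Primes, y ∈ centralizer (pCore (r : ℕ) G : Set G)) :
    y ∈ centralizer (fittingSubgroup G : Set G) := by
  rw [Subgroup.mem_centralizer_iff]
  have hle : fittingSubgroup G ≤ centralizer ({y} : Set G) := by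
    rw [Cfsg.Agent.Lib.Helper22.fittingSubgroup_eq_iSup_pCore]
    apply iSup_le
    intro r x hx
    rw [Subgroup.mem_centralizer_singleton_iff]
    exact Subgroup.mem_centralizer_iff.1 (h r) x hx
  intro f hf
  have := hle hf
  rw [Subgroup.mem_centralizer_singleton_iff] at this
  exact this

/-- elements of the Fitting subgroup of order prime to `q` lie in the product of the `O_r`,
`r ≠ q` -/
theorem mem_iSup_pCore_of_coprime {G : Type*} [Group G] [Finite G] (q : ℕ) {y : G}
    (hy : y ∈ fittingSubgroup G) (hq : ¬ q ∣ orderOf y) :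
    y ∈ ⨆ (r : Nat.Primes) (_ : (r : ℕ) ≠ q), pCore (r : ℕ) G := by
  apply mem_of_forall_primary' _ y
  rintro x hx ⟨r, k, hr, hry, hxk⟩
  haveI : Fact r.Prime := ⟨hr⟩
  have hxF : x ∈ fittingSubgroup G := (zpowers_le.2 hy) hx
  have hxr : x ∈ pCore r G := Cfsg.Agent.Lib.Helper21.bl_mem_pCore_of_mem_fitting hxF hxk
  have hrq : r ≠ q := by
    rintro rfl
    exact hq hry
  exact (le_iSup₂ (f := fun (r : Nat.Primes) (_ : (r : ℕ) ≠ q) => pCore (r : ℕ) G)
    ⟨r, hr⟩ hrq) hxr

/-- **Criterion for `D ≤ F(G)`.** -/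
theorem le_fitting_of_forall_pow_mem_centralizer {G : Type*} [Group G] [Finite G]
    [Group.IsSolvable G] (D : Subgroup G) [D.Normal]
    (h : ∀ q : ℕ, q.Prime → ∀ d ∈ D, ∃ k : ℕ, d ^ (q ^ k) ∈ centralizer (pCore q G : Set G)) :
    D ≤ fittingSubgroup G := by
  intro d hd
  apply mem_of_forall_primary' _ d
  rintro x hx ⟨q, k, hq, -, hxk⟩
  have hxD : x ∈ D := (zpowers_le.2 hd) hx
  haveI : Fact q.Prime := ⟨hq⟩
  let Cq : Subgroup G :=
    ⨅ (r : Nat.Primes) (_ : (r : ℕ) ≠ q), centralizer (pCore (r : ℕ) G : Set G)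
  let Fq : Subgroup G := ⨆ (r : Nat.Primes) (_ : (r : ℕ) ≠ q), pCore (r : ℕ) G
  haveI : Cq.Normal :=
    Subgroup.normal_iInf_normal (fun r => Subgroup.normal_iInf_normal (fun _ => inferInstance))
  let M : Subgroup G := D ⊓ Cq
  haveI hMn : M.Normal := inferInstance
  have hMcent : ∀ m ∈ M, ∀ f ∈ Fq, f * m = m * f := by
    intro m hm
    have hle : Fq ≤ centralizer ({m} : Set G) := by
      apply iSup₂_le
      intro r hr f hf
      rw [Subgroup.mem_centralizer_singleton_iff]
      have h1 : m ∈ centralizer (pCore (r : ℕ) G : Set G) := by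
        have h2 : m ∈ Cq := hm.2
        exact Subgroup.mem_iInf.1 (Subgroup.mem_iInf.1 h2 r) hr
      exact Subgroup.mem_centralizer_iff.1 h1 f hf
    intro f hf
    have := hle hf
    rw [Subgroup.mem_centralizer_singleton_iff] at this
    exact this
  have hxM : x ∈ M := by
    refine ⟨hxD, ?_⟩
    show x ∈ Cq
    refine Subgroup.mem_iInf.2 (fun r => Subgroup.mem_iInf.2 (fun hr => ?_))
    obtain ⟨j, hj⟩ := h r r.2 x hxD
    have hcop : ((r : ℕ) ^ j).Coprime (q ^ k) := by
      apply Nat.Coprime.pow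
      exact (Nat.coprime_primes r.2 hq).2 hr
    apply Cfsg.Agent.Lib.Helper24.mem_of_pow_mem_of_coprime _ x hcop hj
    rw [hxk]; exact Subgroup.one_mem _
  suffices hM : Group.IsNilpotent M from
    Cfsg.Agent.Lib.Helper22.le_fittingSubgroup hMn hM hxM
  -- `M` is nilpotent
  let N₁ : Subgroup M := Fq.subgroupOf M
  haveI : N₁.Normal := inferInstance
  have hquot : IsPGroup q (↥M ⧸ N₁) := by
    intro mb
    obtain ⟨m, rfl⟩ := QuotientGroup.mk_surjective mb
    obtain ⟨k₁, hk₁⟩ := h q hq m m.2.1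
    have hyM : (m : G) ^ (q ^ k₁) ∈ M := Subgroup.pow_mem _ m.2 _
    have hyF : (m : G) ^ (q ^ k₁) ∈ fittingSubgroup G := by
      apply Cfsg.Agent.Lib.Helper10.centralizer_fitting_le
      apply mem_centralizer_fitting_of_forall
      intro r
      by_cases hr : (r : ℕ) = q
      · rw [hr]; exact hk₁
      · have h2 : (m : G) ^ (q ^ k₁) ∈ Cq := hyM.2
        exact Subgroup.mem_iInf.1 (Subgroup.mem_iInf.1 h2 r) hr
    obtain ⟨e, n', hn', hord⟩ := Nat.exists_eq_pow_mul_and_not_dvd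
      (orderOf_pos ((m : G) ^ (q ^ k₁))).ne' q hq.ne_one
    have hy' : ((m : G) ^ (q ^ k₁)) ^ (q ^ e) ∈ Fq := by
      apply mem_iSup_pCore_of_coprime q (Subgroup.pow_mem _ hyF _)
      rw [orderOf_pow_of_dvd (pow_ne_zero _ hq.ne_zero) (by rw [hord]; exact dvd_mul_right _ _),
        hord, Nat.mul_div_cancel_left _ (pow_pos hq.pos e)]
      exact hn'
    refine ⟨k₁ + e, ?_⟩
    rw [← QuotientGroup.mk_pow, QuotientGroup.eq_one_iff, Subgroup.mem_subgroupOf,
      Subgroup.coe_pow, pow_add, pow_mul]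
    exact hy'
  haveI hnil : Group.IsNilpotent (↥M ⧸ N₁) := hquot.isNilpotent
  apply Subgroup.isNilpotent_of_ker_le_center (QuotientGroup.mk' N₁)
  rw [QuotientGroup.ker_mk']
  intro n hn
  rw [Subgroup.mem_center_iff]
  intro m
  apply Subtype.ext
  rw [Subgroup.coe_mul, Subgroup.coe_mul]
  exact (hMcent m m.2 n (Subgroup.mem_subgroupOf.1 hn)).symm

end Cfsg.Agent.Lib.Helper32.FitDer
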