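import Cfsg.Prelude.Def_Local
import Cfsg.Agent.Lib.Helper33.SylowSub
import Cfsg.Agent.Lib.Helper55.Cores

set_option autoImplicit false

namespace Cfsg.Agent.Lib.Helper32

open Cfsg.Agent.Lib.Helper55

variable {G : Type*} [Group G]

/-- For a Sylow `p`-subgroup `P` and a normal subgroup `R` of a finite group, `P ⊓ R` has
index prime to `p` in `R`. -/
theorem not_dvd_relIndex_inf_normal [Finite G] {p : ℕ} [Fact p.Prime] (P : Sylow p G)
    (R : Subgroup G) [R.Normal] : ¬ p ∣ ((P : Subgroup G) ⊓ R).relIndex R := by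
  set Q : Subgroup G := (P : Subgroup G) ⊓ R with hQ
  have e1 : Nat.card Q * Q.relIndex R = Nat.card R := card_mul_relIndex_eq inf_le_right
  have e2 : Nat.card Q * Q.relIndex (P : Subgroup G) = Nat.card (P : Subgroup G) :=
    card_mul_relIndex_eq inf_le_left
  have e3 : Nat.card R * R.relIndex ((P : Subgroup G) ⊔ R) = Nat.card ((P : Subgroup G) ⊔ R : Subgroup G) :=
    card_mul_relIndex_eq le_sup_right
  have e4 : R.relIndex ((P : Subgroup G) ⊔ R) = Q.relIndex (P : Subgroup G) := by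
    rw [Subgroup.relIndex_sup_right, hQ, Subgroup.inf_relIndex_left]
  have e5 : Nat.card (P : Subgroup G) * (P : Subgroup G).relIndex ((P : Subgroup G) ⊔ R) =
      Nat.card ((P : Subgroup G) ⊔ R : Subgroup G) := card_mul_relIndex_eq le_sup_left
  have hQpos : 0 < Nat.card Q := Nat.card_pos
  have hPpos : 0 < Nat.card (P : Subgroup G) := Nat.card_pos
  have key : (P : Subgroup G).relIndex ((P : Subgroup G) ⊔ R) = Q.relIndex R := by
    have h1 : Nat.card (P : Subgroup G) * (Nat.card Q * (P : Subgroup G).relIndex ((P : Subgroup G) ⊔ R)) =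
        Nat.card (P : Subgroup G) * (Nat.card Q * Q.relIndex R) := by
      calc Nat.card (P : Subgroup G) * (Nat.card Q * (P : Subgroup G).relIndex ((P : Subgroup G) ⊔ R))
          = Nat.card Q * (Nat.card (P : Subgroup G) * (P : Subgroup G).relIndex ((P : Subgroup G) ⊔ R)) := by ring
        _ = Nat.card Q * (Nat.card R * R.relIndex ((P : Subgroup G) ⊔ R)) := by rw [e5, e3]
        _ = Nat.card R * (Nat.card Q * Q.relIndex (P : Subgroup G)) := by rw [e4]; ring
        _ = Nat.card R * Nat.card (P : Subgroup G) := by rw [e2]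
        _ = Nat.card (P : Subgroup G) * (Nat.card Q * Q.relIndex R) := by rw [e1]; ring
    have h2 := Nat.eq_of_mul_eq_mul_left hPpos h1
    exact Nat.eq_of_mul_eq_mul_left hQpos h2
  rw [← key]
  intro hdvd
  exact P.not_dvd_index (hdvd.trans (Subgroup.relIndex_dvd_index_of_le le_sup_left))

/-- A `p`-subgroup `K ≤ R` containing a subgroup `H` of index prime to `p` in `R` equals `H`. -/
theorem eq_of_isPGroup_of_not_dvd_relIndex [Finite G] {p : ℕ} [Fact p.Prime] {H K R : Subgroup G}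
    (hHK : H ≤ K) (hKR : K ≤ R) (hK : IsPGroup p K) (hH : ¬ p ∣ H.relIndex R) : K = H := by
  have h1 : H.relIndex K * K.relIndex R = H.relIndex R := Subgroup.relIndex_mul_relIndex H K R hHK hKR
  have h2 : ¬ p ∣ H.relIndex K := fun h => hH (h1 ▸ Dvd.dvd.mul_right h _)
  have h3 : Nat.card H * H.relIndex K = Nat.card K := card_mul_relIndex_eq hHK
  obtain ⟨n, hn⟩ := IsPGroup.iff_card.mp hK
  have h4 : H.relIndex K ∣ p ^ n := by rw [← hn, ← h3]; exact Dvd.intro_left _ rfl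
  obtain ⟨m, _, hm⟩ := (Nat.dvd_prime_pow Fact.out).mp h4
  have hm0 : m = 0 := by
    by_contra h
    apply h2
    rw [hm]
    exact dvd_pow_self p h
  rw [hm0, pow_zero] at hm
  have h5 : Nat.card K ≤ Nat.card H := by rw [← h3, hm, mul_one]
  exact (Subgroup.eq_of_le_of_card_ge hHK h5).symm

theorem pPrimePCore_normal (p : ℕ) (G : Type*) [Group G] : (Cfsg.pPrimePCore p G).Normal := by
  unfold Cfsg.pPrimePCore
  infer_instance

theorem pPrimeCore_le_pPrimePCore (p : ℕ) (G : Type*) [Group G] :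
    Cfsg.pPrimeCore p G ≤ Cfsg.pPrimePCore p G := by
  unfold Cfsg.pPrimePCore
  exact le_comap_mk' _ _

theorem card_pPrimePCore [Finite G] (p : ℕ) [Fact p.Prime] :
    ∃ k : ℕ, Nat.card (Cfsg.pPrimePCore p G) = Nat.card (Cfsg.pPrimeCore p G) * p ^ k := by
  obtain ⟨k, hk⟩ := IsPGroup.iff_card.mp (pCore_isPGroup p (G := G ⧸ Cfsg.pPrimeCore p G))
  refine ⟨k, ?_⟩
  unfold Cfsg.pPrimePCore
  rw [card_comap_mk', hk]

/-- `O_{p'}(G)` meets every `p`-subgroup trivially. -/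
theorem pPrimeCore_inf_eq_bot [Finite G] {p : ℕ} [Fact p.Prime] {Q : Subgroup G} (hQ : IsPGroup p Q) :
    Cfsg.pPrimeCore p G ⊓ Q = ⊥ := by
  apply Disjoint.eq_bot
  apply Subgroup.disjoint_of_coprime_natCard
  obtain ⟨n, hn⟩ := IsPGroup.iff_card.mp hQ
  rw [hn]
  exact Nat.Coprime.pow_right n (pPrimeCore_card_coprime p)

/-- `O_{p',p}(G) = O_{p'}(G) (P ∩ O_{p',p}(G))` for a Sylow `p`-subgroup `P`. -/
theorem pPrimeCore_sup_sylow_inf [Finite G] {p : ℕ} [Fact p.Prime] (P : Sylow p G) :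
    Cfsg.pPrimeCore p G ⊔ ((P : Subgroup G) ⊓ Cfsg.pPrimePCore p G) = Cfsg.pPrimePCore p G := by
  have := pPrimePCore_normal p G
  set D := Cfsg.pPrimeCore p G with hD
  set R := Cfsg.pPrimePCore p G with hR
  set H : Subgroup G := (P : Subgroup G) ⊓ R with hH
  have hHp : IsPGroup p H := P.isPGroup'.to_le inf_le_left
  have hle : D ⊔ H ≤ R := sup_le (pPrimeCore_le_pPrimePCore p G) inf_le_right
  refine Subgroup.eq_of_le_of_card_ge hle ?_
  obtain ⟨k, hk⟩ := card_pPrimePCore (G := G) p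
  -- |H| = p^k
  have hHidx : ¬ p ∣ H.relIndex R := not_dvd_relIndex_inf_normal P R
  have e1 : Nat.card H * H.relIndex R = Nat.card R := card_mul_relIndex_eq inf_le_right
  obtain ⟨m, hm⟩ := IsPGroup.iff_card.mp hHp
  have hcop : (Nat.card D).Coprime p := pPrimeCore_card_coprime p
  -- card (D ⊔ H) = card D * card H
  have e2 : Nat.card D * D.relIndex (H ⊔ D) = Nat.card (H ⊔ D : Subgroup G) :=
    card_mul_relIndex_eq le_sup_right
  have e3 : D.relIndex (H ⊔ D) = Nat.card H := by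
    rw [Subgroup.relIndex_sup_right, ← Subgroup.inf_relIndex_right, pPrimeCore_inf_eq_bot hHp,
      Subgroup.relIndex_bot_left]
  have e4 : Nat.card (D ⊔ H : Subgroup G) = Nat.card D * Nat.card H := by
    rw [sup_comm, ← e2, e3]
  rw [e4, hk]
  apply Nat.mul_le_mul_left
  -- p^k ≤ card H : since card H * relIndex = card D * p^k, relIndex coprime to p
  have h5 : p ^ k ∣ Nat.card H * H.relIndex R := by rw [e1, hk]; exact Dvd.intro_left _ rfl
  have h6 : (p ^ k).Coprime (H.relIndex R) :=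
    Nat.Coprime.pow_left k ((Nat.Prime.coprime_iff_not_dvd Fact.out).mpr hHidx)
  have h7 : p ^ k ∣ Nat.card H := h6.dvd_of_dvd_mul_right h5
  exact Nat.le_of_dvd Nat.card_pos h7

/-- `|O_{p'}(G) Q| = |O_{p'}(G)| |Q|` for a `p`-subgroup `Q`. -/
theorem card_pPrimeCore_sup [Finite G] {p : ℕ} [Fact p.Prime] {Q : Subgroup G} (hQ : IsPGroup p Q) :
    Nat.card (Cfsg.pPrimeCore p G ⊔ Q : Subgroup G) = Nat.card (Cfsg.pPrimeCore p G) * Nat.card Q := by
  set D := Cfsg.pPrimeCore p G with hD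
  have e2 : Nat.card D * D.relIndex (Q ⊔ D) = Nat.card (Q ⊔ D : Subgroup G) :=
    card_mul_relIndex_eq le_sup_right
  have e3 : D.relIndex (Q ⊔ D) = Nat.card Q := by
    rw [Subgroup.relIndex_sup_right, ← Subgroup.inf_relIndex_right, pPrimeCore_inf_eq_bot hQ,
      Subgroup.relIndex_bot_left]
  rw [sup_comm, ← e2, e3]

/-- A `p`-subgroup `Q` has index prime to `p` in `O_{p'}(G) Q`. -/
theorem not_dvd_relIndex_pPrimeCore_sup [Finite G] {p : ℕ} [Fact p.Prime] {Q : Subgroup G}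
    (hQ : IsPGroup p Q) : ¬ p ∣ Q.relIndex (Cfsg.pPrimeCore p G ⊔ Q) := by
  have e1 : Nat.card Q * Q.relIndex (Cfsg.pPrimeCore p G ⊔ Q) =
      Nat.card (Cfsg.pPrimeCore p G ⊔ Q : Subgroup G) := card_mul_relIndex_eq le_sup_right
  rw [card_pPrimeCore_sup hQ, mul_comm] at e1
  have e2 : Q.relIndex (Cfsg.pPrimeCore p G ⊔ Q) = Nat.card (Cfsg.pPrimeCore p G) :=
    Nat.eq_of_mul_eq_mul_right Nat.card_pos e1
  rw [e2]
  exact (Nat.Prime.coprime_iff_not_dvd Fact.out).mp (pPrimeCore_card_coprime p).symm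

/-- An element of `O_{p'}(G)` that normalizes a `p`-subgroup centralizes it. -/
theorem mem_centralizer_of_mem_pPrimeCore_of_mem_normalizer [Finite G] {p : ℕ} [Fact p.Prime]
    {Q : Subgroup G} (hQ : IsPGroup p Q) {d : G} (hd : d ∈ Cfsg.pPrimeCore p G)
    (hdN : d ∈ Subgroup.normalizer (Q : Set G)) : d ∈ Subgroup.centralizer (Q : Set G) := by
  rw [Subgroup.mem_centralizer_iff]
  intro h hh
  have h1 : d * h * d⁻¹ ∈ Q := (Subgroup.mem_normalizer_iff.mp hdN h).mp hh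
  have h2 : d * h * d⁻¹ * h⁻¹ ∈ Q := Q.mul_mem h1 (Q.inv_mem hh)
  have h3 : d * h * d⁻¹ * h⁻¹ ∈ Cfsg.pPrimeCore p G := by
    have : d * h * d⁻¹ * h⁻¹ = d * (h * d⁻¹ * h⁻¹) := by group
    rw [this]
    exact Subgroup.mul_mem _ hd ((pPrimeCore_normal' p).conj_mem _ (Subgroup.inv_mem _ hd) h)
  have h4 : d * h * d⁻¹ * h⁻¹ ∈ Cfsg.pPrimeCore p G ⊓ Q := ⟨h3, h2⟩
  rw [pPrimeCore_inf_eq_bot hQ, Subgroup.mem_bot] at h4
  calc h * d = (d * h * d⁻¹ * h⁻¹)⁻¹ * (d * h) := by group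
    _ = d * h := by rw [h4, inv_one, one_mul]

end Cfsg.Agent.Lib.Helper32
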