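import Mathlib.GroupTheory.Transfer
import Cfsg.Agent.Lib.Helper32.PPrimeP

set_option autoImplicit false

namespace Cfsg.Agent.Lib.Helper32

open Cfsg.Agent.Lib.Helper55

variable {G : Type*} [Group G]

/-- Second isomorphism theorem, index form, for `H` normalizing `N`. -/
theorem relIndex_sup_right_of_le_normalizer {H N : Subgroup G} (h : H ≤ Subgroup.normalizer (N : Set G)) :
    N.relIndex (H ⊔ N) = N.relIndex H := by
  letI := Subgroup.normal_subgroupOf_of_le_normalizer h
  letI := Subgroup.normal_subgroupOf_sup_of_le_normalizer h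
  exact Nat.card_congr (QuotientGroup.quotientInfEquivProdNormalizerQuotient H N h).toEquiv.symm

/-- For a Sylow `p`-subgroup `P` normalizing a subgroup `R` of a finite group, `P ⊓ R` has
index prime to `p` in `R`. -/
theorem not_dvd_relIndex_inf_of_le_normalizer [Finite G] {p : ℕ} [Fact p.Prime] (P : Sylow p G)
    (R : Subgroup G) (hPR : (P : Subgroup G) ≤ Subgroup.normalizer (R : Set G)) :
    ¬ p ∣ ((P : Subgroup G) ⊓ R).relIndex R := by
  set Q : Subgroup G := (P : Subgroup G) ⊓ R with hQ
  have e1 : Nat.card Q * Q.relIndex R = Nat.card R := card_mul_relIndex_eq inf_le_right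
  have e2 : Nat.card Q * Q.relIndex (P : Subgroup G) = Nat.card (P : Subgroup G) :=
    card_mul_relIndex_eq inf_le_left
  have e3 : Nat.card R * R.relIndex ((P : Subgroup G) ⊔ R) = Nat.card ((P : Subgroup G) ⊔ R : Subgroup G) :=
    card_mul_relIndex_eq le_sup_right
  have e4 : R.relIndex ((P : Subgroup G) ⊔ R) = Q.relIndex (P : Subgroup G) := by
    rw [relIndex_sup_right_of_le_normalizer hPR, hQ, Subgroup.inf_relIndex_left]
  have e5 : Nat.card (P : Subgroup G) * (P : Subgroup G).relIndex ((P : Subgroup G) ⊔ R) =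
      Nat.card ((P : Subgroup G) ⊔ R : Subgroup G) := card_mul_relIndex_eq le_sup_left
  have hQpos : 0 < Nat.card Q := Nat.card_pos
  have hPpos : 0 < Nat.card (P : Subgroup G) := Nat.card_pos
  have key : (P : Subgroup G).relIndex ((P : Subgroup G) ⊔ R) = Q.relIndex R := by
    have h1 : Nat.card (P : Subgroup G) * (Nat.card Q * (P : Subgroup G).relIndex ((P : Subgroup G) ⊔ R)) =
        Nat.card (P : Subgroup G) * (Nat.card Q * Q.relIndex R) := by
      calc Nat.card (P : Subgroup G) * (Nat.card Q * (P : Subgroup G).relIndex ((P : Subgroup G) ⊔ R))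
          = Nat.card Q * (Nat.card (P : Subgroup G) * (P : Subgroup G).relIndex ((P : Subgroup G) ⊔ R)) := by ring
        _ = Nat.card Q * (Nat.card R * R.relIndex ((P : Subgroup G) ⊔ R)) := by rw [e5, e3]
        _ = Nat.card R * (Nat.card Q * Q.relIndex (P : Subgroup G)) := by rw [e4]; ring
        _ = Nat.card R * Nat.card (P : Subgroup G) := by rw [e2]
        _ = Nat.card (P : Subgroup G) * (Nat.card Q * Q.relIndex R) := by rw [e1]; ring
    have h2 := Nat.eq_of_mul_eq_mul_left hPpos h1
    exact Nat.eq_of_mul_eq_mul_left hQpos h2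
  rw [← key]
  intro hdvd
  exact P.not_dvd_index (hdvd.trans (Subgroup.relIndex_dvd_index_of_le le_sup_left))

/-- Burnside's normal `p`-complement theorem for a central Sylow subgroup, with the complement
described as the set of `p'`-elements. -/
theorem exists_normal_pComplement_of_le_center {X : Type*} [Group X] [Finite X] {p : ℕ} [Fact p.Prime]
    (P : Sylow p X) (hP : (P : Subgroup X) ≤ Subgroup.center X) :
    ∃ K : Subgroup X, K.Normal ∧ (Nat.card K).Coprime p ∧ K ⊔ (P : Subgroup X) = ⊤ ∧
      ∀ x : X, x ∈ K ↔ (orderOf x).Coprime p := by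
  have hcent : Subgroup.centralizer ((P : Subgroup X) : Set X) = ⊤ :=
    Subgroup.centralizer_eq_top_iff_subset.mpr hP
  have hP' : Subgroup.normalizer ((P : Subgroup X) : Set X) ≤ Subgroup.centralizer ((P : Subgroup X) : Set X) := by
    rw [hcent]; exact le_top
  refine ⟨(MonoidHom.transferSylow P hP').ker, inferInstance, ?_, ?_, ?_⟩
  · have h := MonoidHom.not_dvd_card_ker_transferSylow P hP'
    exact ((Nat.Prime.coprime_iff_not_dvd Fact.out).mpr h).symm
  · exact (MonoidHom.ker_transferSylow_isComplement' P hP').sup_eq_top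
  · intro x
    constructor
    · intro hx
      have h1 : orderOf x ∣ Nat.card (MonoidHom.transferSylow P hP').ker := by
        have := orderOf_dvd_natCard (⟨x, hx⟩ : (MonoidHom.transferSylow P hP').ker)
        rwa [Subgroup.orderOf_mk] at this
      have h2 : (Nat.card (MonoidHom.transferSylow P hP').ker).Coprime p :=
        ((Nat.Prime.coprime_iff_not_dvd Fact.out).mpr
          (MonoidHom.not_dvd_card_ker_transferSylow P hP')).symm
      exact Nat.Coprime.coprime_dvd_left h1 h2
    · intro hx
      rw [MonoidHom.mem_ker]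
      set z := MonoidHom.transferSylow P hP' x with hz
      have h1 : orderOf z ∣ orderOf x := orderOf_map_dvd _ x
      obtain ⟨k, hk⟩ := (IsPGroup.iff_orderOf.mp P.isPGroup') z
      have h2 : (orderOf z).Coprime p := Nat.Coprime.coprime_dvd_left h1 hx
      rw [hk] at h2
      have hk0 : k = 0 := by
        by_contra hne
        have h3 : p ∣ (p ^ k).gcd p := Nat.dvd_gcd (dvd_pow_self p hne) dvd_rfl
        rw [Nat.Coprime] at h2
        rw [h2] at h3
        exact (Fact.out : p.Prime).one_lt.ne' (Nat.dvd_one.mp h3)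
      rw [hk0, pow_zero] at hk
      exact orderOf_eq_one_iff.mp hk

end Cfsg.Agent.Lib.Helper32
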