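import Mathlib
import Cfsg.Agent.Lib.Helper32.Rank2Aut
import Cfsg.Agent.Lib.Helper32.GL2Card
import Cfsg.Agent.Lib.Helper32.PPrimeP
import Cfsg.Agent.Lib.Helper11.PConstrained
import Cfsg.Agent.Lib.Helper55.SolvCore
import Cfsg.Agent.Lib.Helper55.Cores

set_option autoImplicit false
set_option linter.style.haveILetI false

universe u

namespace Cfsg.Agent.Lib.Helper32.Rank2

open Subgroup Cfsg
open scoped commutatorElement

theorem pRankLE_of_injective {p k : ℕ} {H K : Type*} [Group H] [Group K] (f : H →* K)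
    (hf : Function.Injective f) (h : Cfsg.PRankLE p k K) : Cfsg.PRankLE p k H := by
  intro B hB hexp
  have := h (B.map f) inferInstance (by
    rintro _ ⟨b, hb, rfl⟩
    rw [← map_pow, hexp b hb, map_one])
  rwa [Subgroup.card_map_of_injective hf] at this

/-- the rank of `O_p(G / O_{p'}(G))` is at most the rank of `G` -/
theorem pRankLE_pCore_quotient {G : Type*} [Group G] [Finite G] (p : ℕ) [Fact p.Prime] {k : ℕ}
    (hr : Cfsg.PRankLE p k G) : Cfsg.PRankLE p k ↥(pCore p (G ⧸ pPrimeCore p G)) := by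
  let P : Sylow p ↥(pPrimePCore p G) := default
  set P₀ : Subgroup G := (P : Subgroup ↥(pPrimePCore p G)).map (pPrimePCore p G).subtype with hP₀
  have hP₀p : IsPGroup p P₀ := P.2.map _
  have hmap := Cfsg.Agent.Lib.Helper11.map_sylow_pPrimePCore P
  rw [← hP₀] at hmap
  let φ : ↥P₀ →* ↥(pCore p (G ⧸ pPrimeCore p G)) :=
    ((QuotientGroup.mk' (pPrimeCore p G)).comp P₀.subtype).codRestrict _ (fun x => by
      rw [← hmap]
      exact Subgroup.mem_map_of_mem _ x.2)
  have hinj : Function.Injective φ := by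
    rw [injective_iff_map_eq_one]
    intro x hx
    have h1 : QuotientGroup.mk' (pPrimeCore p G) (x : G) = 1 := congrArg Subtype.val hx
    rw [QuotientGroup.mk'_apply, QuotientGroup.eq_one_iff] at h1
    have h2 : (x : G) ∈ pPrimeCore p G ⊓ P₀ := ⟨h1, x.2⟩
    rw [Cfsg.Agent.Lib.Helper32.pPrimeCore_inf_eq_bot hP₀p, Subgroup.mem_bot] at h2
    exact Subtype.ext h2
  have hsurj : Function.Surjective φ := by
    rintro ⟨y, hy⟩
    rw [← hmap] at hy
    obtain ⟨x, hx, rfl⟩ := hy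
    exact ⟨⟨x, hx⟩, rfl⟩
  let e := MulEquiv.ofBijective φ ⟨hinj, hsurj⟩
  exact pRankLE_of_injective (P₀.subtype.comp e.symm.toMonoidHom)
    (P₀.subtype_injective.comp e.symm.injective) hr

/-- **The action of `G / O_{p'}(G)` on a rank-two section.** -/
theorem exists_action_quotient {G : Type u} [Group G] [Finite G] [Group.IsSolvable G] (p : ℕ)
    [Fact p.Prime] (hp2 : p ≠ 2) (hr : Cfsg.PRankLE p 2 G) :
    ∃ (Q : Type u) (_ : Group Q) (_ : Finite Q) (Ψ : (G ⧸ pPrimeCore p G) →* MulAut Q),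
      (∀ a b : Q, a * b = b * a) ∧ (∀ q : Q, q ^ p = 1) ∧ Nat.card Q ∣ p ^ 2 ∧ PKer p Ψ := by
  have hF : IsPGroup p ↥(pCore p (G ⧸ pPrimeCore p G)) := Cfsg.Agent.Lib.Helper55.pCore_isPGroup p
  obtain ⟨Q, iQ, fQ, ρ, h1, h2, h3, hρ⟩ :=
    exists_rank_two_action p hp2 hF (pRankLE_pCore_quotient p hr)
  have hbot : pPrimeCore p (G ⧸ pPrimeCore p G) = ⊥ :=
    Cfsg.Agent.Lib.Helper55.pPrimeCore_quotient_eq_bot p
  have hcent := Cfsg.Agent.Lib.Helper55.centralizer_pCore_le (G := G ⧸ pPrimeCore p G) p hbot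
  let θ : (G ⧸ pPrimeCore p G) →* MulAut ↥(pCore p (G ⧸ pPrimeCore p G)) := MulAut.conjNormal
  have hθ : PKer p θ := by
    intro z hz
    have hzc : z ∈ centralizer (pCore p (G ⧸ pPrimeCore p G) : Set (G ⧸ pPrimeCore p G)) := by
      rw [Subgroup.mem_centralizer_iff]
      intro x hx
      have := congrArg (fun g : MulAut ↥(pCore p (G ⧸ pPrimeCore p G)) =>
        ((g ⟨x, hx⟩ : ↥(pCore p (G ⧸ pPrimeCore p G))) : G ⧸ pPrimeCore p G)) hz
      simp only [θ, MulAut.conjNormal_apply, MulAut.one_apply] at this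
      calc x * z = (z * x * z⁻¹) * z := by rw [this]
        _ = z * x := by group
    obtain ⟨k, hk⟩ := hF ⟨z, hcent hzc⟩
    refine ⟨k, ?_⟩
    have := congrArg Subtype.val hk
    simpa using this
  exact ⟨Q, iQ, fQ, ρ.comp θ, h1, h2, h3, hθ.comp hρ⟩

end Cfsg.Agent.Lib.Helper32.Rank2
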