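import Mathlib
import Cfsg.Agent.Lib.Helper32.FitDer
import Cfsg.Agent.Lib.Helper32.Rank2Solv

set_option autoImplicit false
set_option linter.style.haveILetI false

namespace Cfsg.Agent.Lib.Helper32.FitDer

open Subgroup Cfsg Cfsg.Agent.Lib.Helper32.Rank2
open scoped commutatorElement

theorem conjNormal_eq_one_iff {G : Type*} [Group G] (N : Subgroup G) [N.Normal] (g : G) :
    (MulAut.conjNormal g : MulAut N) = 1 ↔ g ∈ centralizer (N : Set G) := by
  rw [Subgroup.mem_centralizer_iff]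
  constructor
  · intro h x hx
    have := congrArg (fun f : MulAut N => ((f ⟨x, hx⟩ : N) : G)) h
    simp only [MulAut.conjNormal_apply, MulAut.one_apply] at this
    calc x * g = (g * x * g⁻¹) * g := by rw [this]
      _ = g * x := by group
  · intro h
    ext x
    rw [MulAut.conjNormal_apply, MulAut.one_apply]
    have := h x x.2
    calc g * (x : G) * g⁻¹ = ((x : G) * g) * g⁻¹ := by rw [this]
      _ = x := by group

theorem pCore_two_eq_bot {G : Type*} [Group G] [Finite G] (hodd : Odd (Nat.card G)) :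
    pCore 2 G = ⊥ := by
  haveI : Fact (Nat.Prime 2) := ⟨Nat.prime_two⟩
  have h2 : IsPGroup 2 (pCore 2 G) := Cfsg.Agent.Lib.Helper55.pCore_isPGroup 2
  obtain ⟨n, hn⟩ := IsPGroup.iff_card.1 h2
  have hdvd : Nat.card (pCore 2 G) ∣ Nat.card G := Subgroup.card_subgroup_dvd_card _
  have hodd' : Odd (Nat.card (pCore 2 G)) := Odd.of_dvd_nat hodd hdvd
  rw [hn] at hodd'
  rcases Nat.eq_zero_or_pos n with h0 | h0
  · rw [h0, pow_zero] at hn
    exact Subgroup.card_eq_one.1 hn
  · exfalso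
    have : Even (2 ^ n) := (Nat.even_pow' h0.ne').2 even_two
    exact (Nat.not_even_iff_odd.2 hodd') this

variable {G : Type*} [Group G] [Finite G] [Group.IsSolvable G]

/-- the hypothesis of the criterion for `G' ≤ F(G)` from small ranks of the `O_q(G)` -/
theorem exists_pow_mem_centralizer_pCore (hodd : Odd (Nat.card G))
    (hR : ∀ r : ℕ, r.Prime → PRankLE r 2 ↥(pCore r G)) (q : ℕ) (hq : q.Prime) :
    ∀ d ∈ commutator G, ∃ k : ℕ, d ^ (q ^ k) ∈ centralizer (pCore q G : Set G) := by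
  intro d hd
  by_cases hq2 : q = 2
  · refine ⟨0, ?_⟩
    rw [hq2, pCore_two_eq_bot hodd, Subgroup.coe_bot, Subgroup.centralizer_eq_top_iff_subset.2]
    · exact Subgroup.mem_top _
    · intro x hx
      rw [Set.mem_singleton_iff.1 hx]
      exact Subgroup.one_mem _
  haveI : Fact q.Prime := ⟨hq⟩
  have hP : IsPGroup q ↥(pCore q G) := Cfsg.Agent.Lib.Helper55.pCore_isPGroup q
  let θ : G →* MulAut ↥(pCore q G) := MulAut.conjNormal
  haveI : Group.IsSolvable θ.range :=
    Group.isSolvable_of_surjective (f := θ.rangeRestrict) θ.rangeRestrict_surjective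
  have hYodd : Odd (Nat.card θ.range) := Odd.of_dvd_nat hodd (Subgroup.card_range_dvd θ)
  have hmain := isPGroup_commutator_mulAut q hq2 hP (hR q hq) θ.range hYodd
  have hθd : θ d ∈ ⁅θ.range, θ.range⁆ := by
    rw [commutator_def] at hd
    have h := Subgroup.mem_map_of_mem θ hd
    rw [Subgroup.map_commutator, ← MonoidHom.range_eq_map] at h
    exact h
  obtain ⟨k, hk⟩ := hmain _ hθd
  refine ⟨k, ?_⟩
  rw [← map_pow] at hk
  exact (conjNormal_eq_one_iff _ _).1 hk

omit [Group.IsSolvable G] in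
/-- elements of `q`-power order centralize `O_r(G)` for `r < q` when `O_r(G)` has rank at most
two -/
theorem mem_centralizer_pCore_of_lt (hodd : Odd (Nat.card G)) {r q : ℕ} (hr : r.Prime)
    (hq : q.Prime) (hrq : r < q) (hR : PRankLE r 2 ↥(pCore r G)) {x : G} {k : ℕ}
    (hx : x ^ (q ^ k) = 1) : x ∈ centralizer (pCore r G : Set G) := by
  by_cases hr2 : r = 2
  · rw [hr2, pCore_two_eq_bot hodd, Subgroup.coe_bot, Subgroup.centralizer_eq_top_iff_subset.2]
    · exact Subgroup.mem_top _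
    · intro y hy
      rw [Set.mem_singleton_iff.1 hy]
      exact Subgroup.one_mem _
  haveI : Fact r.Prime := ⟨hr⟩
  have hq2 : q ≠ 2 := by have := hr.two_le; omega
  have hP : IsPGroup r ↥(pCore r G) := Cfsg.Agent.Lib.Helper55.pCore_isPGroup r
  rw [← conjNormal_eq_one_iff]
  set y : MulAut ↥(pCore r G) := MulAut.conjNormal x with hy
  have hyk : y ^ (q ^ k) = 1 := by rw [hy, ← map_pow, hx, map_one]
  by_contra hne
  obtain ⟨j, hjk, hj⟩ := (Nat.dvd_prime_pow hq).1 (orderOf_dvd_of_pow_eq_one hyk)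
  have hj1 : 1 ≤ j := by
    rcases Nat.eq_zero_or_pos j with h0 | h0
    · rw [h0, pow_zero, orderOf_eq_one_iff] at hj
      exact absurd hj hne
    · exact h0
  obtain ⟨j', rfl⟩ : ∃ j', j = j' + 1 := ⟨j - 1, by omega⟩
  have hord : orderOf (y ^ (q ^ j')) = q := by
    rw [orderOf_pow_of_dvd (pow_ne_zero _ hq.ne_zero) (by rw [hj]; exact pow_dvd_pow _ (by omega)),
      hj, pow_succ, Nat.mul_div_cancel_left _ (pow_pos hq.pos j')]
  obtain ⟨Q, _, _, ρ, hQcomm, hQexp, hQcard, hρ⟩ := exists_rank_two_action r hr2 hP hR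
  have hρy : ρ (y ^ (q ^ j')) ≠ 1 := by
    intro h
    obtain ⟨k', hk'⟩ := hρ _ h
    have : q ∣ r ^ k' := hord ▸ orderOf_dvd_of_pow_eq_one hk'
    have := (Nat.prime_dvd_prime_iff_eq hq hr).1 (hq.dvd_of_dvd_pow this)
    omega
  have hρord : orderOf (ρ (y ^ (q ^ j'))) = q := by
    have h1 : (y ^ (q ^ j')) ^ q = 1 := by
      have := pow_orderOf_eq_one (y ^ (q ^ j'))
      rwa [hord] at this
    have h2 : (ρ (y ^ (q ^ j'))) ^ q = 1 := by
      rw [← map_pow, h1, map_one]
    haveI : Fact q.Prime := ⟨hq⟩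
    exact orderOf_eq_prime h2 hρy
  have := GL2.prime_le_of_orderOf_mulAut r hr2 hQcomm hQexp hQcard _ hq hq2 hρord
  omega

end Cfsg.Agent.Lib.Helper32.FitDer
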