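import Mathlib
import Cfsg.Agent.Lib.Helper32.NarrowAut2
import Cfsg.Agent.Lib.Helper32.Rank2Fit

set_option autoImplicit false
set_option linter.style.haveILetI false

universe u

namespace Cfsg.Agent.Lib.Helper32.Narrow

open Subgroup Cfsg Cfsg.Agent.Lib.Helper32.Rank2 Cfsg.Agent.Lib.Helper32.FitDer
open scoped commutatorElement

/-- from an elementary abelian subgroup with centralizer of rank at most two to an element of
order `p` with centralizer of rank at most two -/
theorem exists_elt_of_elemAb {R : Type*} [Group R] [Finite R] (p : ℕ) [Fact p.Prime]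
    (hR : IsPGroup p R) (hr3 : ¬ PRankLE p 2 R) (E : Subgroup R) (hE : IsElementaryAbelian p E)
    (hCE : PRankLE p 2 ↥(centralizer (E : Set R))) :
    ∃ x : R, x ^ p = 1 ∧ PRankLE p 2 ↥(centralizer ({x} : Set R)) := by
  have hp : p.Prime := Fact.out
  have hEcomm : ∀ a ∈ E, ∀ b ∈ E, a * b = b * a :=
    fun a ha b hb => congrArg Subtype.val (hE.1.is_comm.comm ⟨a, ha⟩ ⟨b, hb⟩)
  -- `E` is not central
  have hEc : ¬ E ≤ center R := by
    intro hEc
    apply hr3
    have htop : centralizer (E : Set R) = ⊤ := by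
      rw [eq_top_iff]
      intro g _
      rw [Subgroup.mem_centralizer_iff]
      intro e he
      exact (Subgroup.mem_center_iff.1 (hEc he) g).symm
    exact pRankLE_of_injective ((MonoidHom.id R).codRestrict (centralizer (E : Set R))
      (fun g => by rw [htop]; exact Subgroup.mem_top _)) (fun a b h => by
        have := congrArg Subtype.val h
        simpa using this) hCE
  obtain ⟨x, hxE, hxc⟩ := Set.not_subset.1 hEc
  have hx : x ^ p = 1 := hE.2 x hxE
  have hx1 : x ≠ 1 := fun h => hxc (h ▸ Subgroup.one_mem _)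
  have hox : orderOf x = p := orderOf_eq_prime hx hx1
  haveI : Nontrivial R := ⟨⟨x, 1, hx1⟩⟩
  obtain ⟨z, hzc, hz1, hzp⟩ : ∃ z ∈ center R, z ≠ 1 ∧ z ^ p = 1 := by
    haveI := hR.center_nontrivial
    have hcard : p ∣ Nat.card (center R) := by
      rcases (hR.to_subgroup (center R)).card_eq_or_dvd with h | h
      · have := Finite.one_lt_card (α := center R)
        omega
      · exact h
    obtain ⟨z, hz⟩ := exists_prime_orderOf_dvd_card' p hcard
    refine ⟨(z : R), z.2, ?_, ?_⟩
    · intro h
      have : z = 1 := Subtype.ext h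
      rw [this, orderOf_one] at hz
      exact hp.one_lt.ne hz
    · have := pow_orderOf_eq_one z
      rw [hz] at this
      have h2 := congrArg Subtype.val this
      simpa using h2
  have hoz : orderOf z = p := orderOf_eq_prime hzp hz1
  have hzall : ∀ g : R, g * z = z * g := Subgroup.mem_center_iff.1 hzc
  -- `E₂ = ⟨E, z⟩`
  have hk2comm : ∀ a ∈ ((E : Set R) ∪ {z}), ∀ b ∈ ((E : Set R) ∪ {z}), a * b = b * a := by
    rintro a (ha | ha) b (hb | hb)
    · exact hEcomm a ha b hb
    · rw [Set.mem_singleton_iff.1 hb]; exact hzall a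
    · rw [Set.mem_singleton_iff.1 ha]; exact (hzall b).symm
    · rw [Set.mem_singleton_iff.1 ha, Set.mem_singleton_iff.1 hb]
  have hk2exp : ∀ a ∈ ((E : Set R) ∪ {z}), a ^ p = 1 := by
    rintro a (ha | ha)
    · exact hE.2 a ha
    · rw [Set.mem_singleton_iff.1 ha]; exact hzp
  obtain ⟨hE2c, hE2e⟩ := elemAb_closure (p := p) _ hk2comm hk2exp
  have hEE2 : E ≤ closure ((E : Set R) ∪ {z}) := fun e he => Subgroup.subset_closure (Or.inl he)
  have hzE2 : z ∈ closure ((E : Set R) ∪ {z}) := Subgroup.subset_closure (Or.inr rfl)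
  have hE2le : closure ((E : Set R) ∪ {z}) ≤ centralizer (E : Set R) := by
    intro g hg
    rw [Subgroup.mem_centralizer_iff]
    intro e he
    exact hE2c e (hEE2 he) g hg
  have hE2card : Nat.card (closure ((E : Set R) ∪ {z})) ≤ p ^ 2 := by
    have h1 : Nat.card ((closure ((E : Set R) ∪ {z})).subgroupOf (centralizer (E : Set R))) =
        Nat.card (closure ((E : Set R) ∪ {z})) :=
      Nat.card_congr (Subgroup.subgroupOfEquivOfLe hE2le).toEquiv
    rw [← h1]
    apply hCE
    · refine ⟨⟨fun a b => ?_⟩⟩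
      apply Subtype.ext
      apply Subtype.ext
      exact hE2c _ (Subgroup.mem_subgroupOf.1 a.2) _ (Subgroup.mem_subgroupOf.1 b.2)
    · intro a ha
      apply Subtype.ext
      have := hE2e _ (Subgroup.mem_subgroupOf.1 ha)
      simpa using this
  -- `D = ⟨x, z⟩`
  have hDle : closure ({x, z} : Set R) ≤ closure ((E : Set R) ∪ {z}) := by
    rw [closure_le]
    rintro a (ha | ha)
    · rw [ha]; exact hEE2 hxE
    · rw [Set.mem_singleton_iff.1 ha]; exact hzE2
  have hxD : x ∈ closure ({x, z} : Set R) := Subgroup.subset_closure (Or.inl rfl)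
  have hzD : z ∈ closure ({x, z} : Set R) := Subgroup.subset_closure (Or.inr rfl)
  have hzx' : z ∉ zpowers x := by
    intro hz
    have h1 : zpowers z ≤ zpowers x := zpowers_le.2 hz
    have h2 : zpowers z = zpowers x := Subgroup.eq_of_le_of_card_ge h1
      (by rw [Nat.card_zpowers, Nat.card_zpowers, hoz, hox])
    have h3 : x ∈ zpowers z := h2 ▸ mem_zpowers x
    exact hxc ((zpowers_le.2 hzc) h3)
  have hDcard : p ^ 2 ≤ Nat.card (closure ({x, z} : Set R)) := by
    obtain ⟨k, hk⟩ := IsPGroup.iff_card.1 (hR.to_subgroup (closure ({x, z} : Set R)))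
    have hxD' : zpowers x ≤ closure ({x, z} : Set R) := zpowers_le.2 hxD
    have hk1 : 2 ≤ k := by
      by_contra hlt
      push Not at hlt
      have : Nat.card (closure ({x, z} : Set R)) ≤ Nat.card (zpowers x) := by
        rw [hk, Nat.card_zpowers, hox]
        calc p ^ k ≤ p ^ 1 := Nat.pow_le_pow_right hp.pos (by omega)
          _ = p := pow_one p
      have h2 := Subgroup.eq_of_le_of_card_ge hxD' this
      exact hzx' (h2 ▸ hzD)
    rw [hk]
    exact Nat.pow_le_pow_right hp.pos hk1
  have hDeq : closure ({x, z} : Set R) = closure ((E : Set R) ∪ {z}) :=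
    Subgroup.eq_of_le_of_card_ge hDle (hE2card.trans hDcard)
  -- `C(x) ≤ C(E)`
  have hCle : centralizer ({x} : Set R) ≤ centralizer (E : Set R) := by
    intro g hg
    have hgx : g * x = x * g := Subgroup.mem_centralizer_singleton_iff.1 hg
    have hD : closure ({x, z} : Set R) ≤ centralizer ({g} : Set R) := by
      rw [closure_le]
      rintro a (ha | ha)
      · rw [ha]; exact Subgroup.mem_centralizer_singleton_iff.2 hgx.symm
      · rw [Set.mem_singleton_iff.1 ha]
        exact Subgroup.mem_centralizer_singleton_iff.2 (hzall g).symm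
    rw [Subgroup.mem_centralizer_iff]
    intro e he
    have : e ∈ closure ({x, z} : Set R) := hDeq ▸ hEE2 he
    exact Subgroup.mem_centralizer_singleton_iff.1 (hD this)
  exact ⟨x, hx, pRankLE_of_injective (Subgroup.inclusion hCle) (Subgroup.inclusion_injective _) hCE⟩

/-- **Action on a narrow normal `p`-subgroup of rank at least three.** -/
theorem narrow_normal_action {G : Type u} [Group G] [Finite G] (p : ℕ) [Fact p.Prime]
    (hp2 : p ≠ 2) (Q : Subgroup G) [Q.Normal] (hQ : IsPGroup p Q) (hr3 : ¬ PRankLE p 2 Q)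
    (x : Q) (hx : x ^ p = 1) (hC : PRankLE p 2 ↥(centralizer ({x} : Set Q))) :
    (∀ d ∈ commutator G, ∃ k : ℕ, d ^ (p ^ k) ∈ centralizer (Q : Set G)) ∧
      ∀ g : G, ∃ k : ℕ, (g ^ (p - 1)) ^ (p ^ k) ∈ centralizer (Q : Set G) := by
  obtain ⟨N, hNn, hNp, hNc, hNe⟩ := exists_normal_pgroup_mulAut p hp2 hQ hr3 x hx hC
  let θ : G →* MulAut Q := MulAut.conjNormal
  constructor
  · intro d hd
    have hθd : θ d ∈ N := by
      have hle : (commutator G).map θ ≤ N := by
        rw [_root_.commutator_def, Subgroup.map_commutator, Subgroup.commutator_le]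
        intro a _ b _
        exact hNc a b
      exact hle (Subgroup.mem_map_of_mem θ hd)
    obtain ⟨k, hk⟩ := hNp _ hθd
    refine ⟨k, ?_⟩
    rw [← map_pow] at hk
    exact (conjNormal_eq_one_iff _ _).1 hk
  · intro g
    have hθg : θ (g ^ (p - 1)) ∈ N := by rw [map_pow]; exact hNe _
    obtain ⟨k, hk⟩ := hNp _ hθg
    refine ⟨k, ?_⟩
    rw [← map_pow] at hk
    exact (conjNormal_eq_one_iff _ _).1 hk

variable {G : Type*} [Group G] [Finite G] [Group.IsSolvable G]

/-- the rank two case, prime by prime -/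
theorem exists_pow_mem_centralizer_pCore_of_rank (hodd : Odd (Nat.card G)) (q : ℕ)
    (hq : q.Prime) (hRq : PRankLE q 2 ↥(pCore q G)) :
    ∀ d ∈ commutator G, ∃ k : ℕ, d ^ (q ^ k) ∈ centralizer (pCore q G : Set G) := by
  intro d hd
  by_cases hq2 : q = 2
  · refine ⟨0, ?_⟩
    rw [hq2, pCore_two_eq_bot hodd, Subgroup.coe_bot, Subgroup.centralizer_eq_top_iff_subset.2]
    · exact Subgroup.mem_top _
    · intro x hx
      rw [Set.mem_singleton_iff.1 hx]
      exact Subgroup.one_mem _
  haveI : Fact q.Prime := ⟨hq⟩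
  have hP : IsPGroup q ↥(pCore q G) := Cfsg.Agent.Lib.Helper55.pCore_isPGroup q
  let θ : G →* MulAut ↥(pCore q G) := MulAut.conjNormal
  haveI : Group.IsSolvable θ.range :=
    Group.isSolvable_of_surjective (f := θ.rangeRestrict) θ.rangeRestrict_surjective
  have hYodd : Odd (Nat.card θ.range) := Odd.of_dvd_nat hodd (Subgroup.card_range_dvd θ)
  have hmain := isPGroup_commutator_mulAut q hq2 hP hRq θ.range hYodd
  have hθd : θ d ∈ ⁅θ.range, θ.range⁆ := by
    rw [_root_.commutator_def] at hd
    have h := Subgroup.mem_map_of_mem θ hd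
    rw [Subgroup.map_commutator, ← MonoidHom.range_eq_map] at h
    exact h
  obtain ⟨k, hk⟩ := hmain _ hθd
  refine ⟨k, ?_⟩
  rw [← map_pow] at hk
  exact (conjNormal_eq_one_iff _ _).1 hk

end Cfsg.Agent.Lib.Helper32.Narrow
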