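import Mathlib
import Cfsg.Agent.Lib.Helper32.Rank2Fit
import Cfsg.Agent.Lib.Helper24.Coprime

set_option autoImplicit false
set_option linter.style.haveILetI false

namespace Cfsg.Agent.Lib.Helper32.FitDer

open Subgroup Cfsg
open scoped commutatorElement

/-- a subgroup containing the commutator subgroup is normal -/
theorem normal_of_commutator_le {G : Type*} [Group G] (N : Subgroup G) (h : commutator G ≤ N) :
    N.Normal := by
  constructor
  intro n hn g
  have : g * n * g⁻¹ = ⁅g, n⁆ * n := by rw [commutatorElement_def]; group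
  rw [this]
  exact N.mul_mem (h (Subgroup.commutator_mem_commutator (Subgroup.mem_top _)
    (Subgroup.mem_top _))) hn

/-- **Sylow tower, part (b).** -/
theorem normal_of_le_commutator_sylow {G : Type*} [Group G] [Finite G]
    (hDF : commutator G ≤ fittingSubgroup G) (q : ℕ) [Fact q.Prime] (S : Sylow q G)
    (T₀ : Subgroup G) (hT : T₀ ≤ ⁅(S : Subgroup G), (S : Subgroup G)⁆)
    (hN : normalizer ((S : Subgroup G) : Set G) ≤ normalizer (T₀ : Set G)) : T₀.Normal := by
  have hTS : T₀ ≤ (S : Subgroup G) := hT.trans (Subgroup.commutator_le_self _)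
  have hTF : T₀ ≤ fittingSubgroup G :=
    (hT.trans (Subgroup.commutator_mono le_top le_top)).trans (by rw [← commutator_def]; exact hDF)
  have hTq : T₀ ≤ pCore q G := by
    intro x hx
    obtain ⟨k, hk⟩ := (S.2.to_le hTS) ⟨x, hx⟩
    have hk' : x ^ (q ^ k) = 1 := by
      have := congrArg Subtype.val hk
      simpa using this
    exact Cfsg.Agent.Lib.Helper21.bl_mem_pCore_of_mem_fitting (hTF hx) hk'
  -- the Fitting subgroup normalizes `T₀`
  have hFN : fittingSubgroup G ≤ normalizer (T₀ : Set G) := by
    rw [Cfsg.Agent.Lib.Helper22.fittingSubgroup_eq_iSup_pCore]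
    apply iSup_le
    intro r
    by_cases hrq : (r : ℕ) = q
    · -- `O_q(G) ≤ S`
      have hle : pCore (r : ℕ) G ≤ (S : Subgroup G) := by
        rw [hrq]
        exact (Cfsg.Agent.Lib.Helper55.pCore_isPGroup (G := G) q).le_sylow_of_normal S
      exact (hle.trans Subgroup.le_normalizer).trans hN
    · -- `O_r(G)` centralizes `O_q(G) ≥ T₀`
      haveI : Fact (r : ℕ).Prime := ⟨r.2⟩
      intro x hx
      rw [Subgroup.mem_normalizer_iff]
      intro t
      have hcomm : ∀ t ∈ T₀, x * t * x⁻¹ = t := by
        intro t ht
        have htq := hTq ht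
        have h1 : ⁅x, t⁆ ∈ pCore (r : ℕ) G ⊓ pCore q G := by
          constructor
          · have hn : (pCore (r : ℕ) G).Normal := inferInstance
            rw [commutatorElement_def]
            have := hn.conj_mem x⁻¹ (Subgroup.inv_mem _ hx) t
            have h2 : x * t * x⁻¹ * t⁻¹ = x * (t * x⁻¹ * t⁻¹) := by group
            rw [h2]
            exact Subgroup.mul_mem _ hx this
          · have hn : (pCore q G).Normal := inferInstance
            rw [commutatorElement_def]
            exact Subgroup.mul_mem _ (hn.conj_mem t htq x) (Subgroup.inv_mem _ htq)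
        have hbot : pCore (r : ℕ) G ⊓ pCore q G = ⊥ := by
          have hc : (Nat.card (pCore (r : ℕ) G)).Coprime (Nat.card (pCore q G)) := by
            obtain ⟨a, ha⟩ := IsPGroup.iff_card.1
              (Cfsg.Agent.Lib.Helper55.pCore_isPGroup (G := G) (r : ℕ))
            obtain ⟨b, hb⟩ := IsPGroup.iff_card.1 (Cfsg.Agent.Lib.Helper55.pCore_isPGroup (G := G) q)
            rw [ha, hb]
            exact Nat.Coprime.pow _ _ ((Nat.coprime_primes r.2 (Fact.out : q.Prime)).2 hrq)
          exact (Subgroup.disjoint_of_coprime_natCard hc).eq_bot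
        rw [hbot, Subgroup.mem_bot] at h1
        have := commutatorElement_eq_one_iff_mul_comm.1 h1
        rw [this, mul_inv_cancel_right]
      constructor
      · intro ht
        rw [hcomm t ht]; exact ht
      · intro ht
        have h3 : x⁻¹ * (x * t * x⁻¹) * x⁻¹⁻¹ = t := by group
        have hx' : x⁻¹ ∈ pCore (r : ℕ) G := Subgroup.inv_mem _ hx
        -- use the same argument for `x⁻¹`
        have hcomm' : x⁻¹ * (x * t * x⁻¹) * x⁻¹⁻¹ = x * t * x⁻¹ := by
          have htq := hTq ht
          have h1 : ⁅x⁻¹, x * t * x⁻¹⁆ ∈ pCore (r : ℕ) G ⊓ pCore q G := by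
            constructor
            · have hn : (pCore (r : ℕ) G).Normal := inferInstance
              rw [commutatorElement_def]
              have := hn.conj_mem x⁻¹⁻¹ (Subgroup.inv_mem _ hx') (x * t * x⁻¹)
              have h2 : x⁻¹ * (x * t * x⁻¹) * x⁻¹⁻¹ * (x * t * x⁻¹)⁻¹ =
                  x⁻¹ * ((x * t * x⁻¹) * x⁻¹⁻¹ * (x * t * x⁻¹)⁻¹) := by group
              rw [h2]
              exact Subgroup.mul_mem _ hx' this
            · have hn : (pCore q G).Normal := inferInstance
              rw [commutatorElement_def]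
              exact Subgroup.mul_mem _ (hn.conj_mem _ htq x⁻¹) (Subgroup.inv_mem _ htq)
          have hbot : pCore (r : ℕ) G ⊓ pCore q G = ⊥ := by
            have hc : (Nat.card (pCore (r : ℕ) G)).Coprime (Nat.card (pCore q G)) := by
              obtain ⟨a, ha⟩ := IsPGroup.iff_card.1
                (Cfsg.Agent.Lib.Helper55.pCore_isPGroup (G := G) (r : ℕ))
              obtain ⟨b, hb⟩ := IsPGroup.iff_card.1
                (Cfsg.Agent.Lib.Helper55.pCore_isPGroup (G := G) q)
              rw [ha, hb]
              exact Nat.Coprime.pow _ _ ((Nat.coprime_primes r.2 (Fact.out : q.Prime)).2 hrq)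
            exact (Subgroup.disjoint_of_coprime_natCard hc).eq_bot
          rw [hbot, Subgroup.mem_bot] at h1
          have := commutatorElement_eq_one_iff_mul_comm.1 h1
          rw [this, mul_inv_cancel_right]
        rw [← h3, hcomm']
        exact ht
  -- Frattini
  haveI hNn : ((S : Subgroup G) ⊔ fittingSubgroup G).Normal :=
    normal_of_commutator_le _ (hDF.trans le_sup_right)
  have hfr := Sylow.normalizer_sup_eq_top' (N := (S : Subgroup G) ⊔ fittingSubgroup G) S le_sup_left
  have htop : normalizer (T₀ : Set G) = ⊤ := by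
    rw [eq_top_iff, ← hfr]
    apply sup_le hN
    apply sup_le (Subgroup.le_normalizer.trans hN) hFN
  exact Subgroup.normalizer_eq_top_iff.1 htop

end Cfsg.Agent.Lib.Helper32.FitDer
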