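import Mathlib
import Cfsg.Agent.Lib.Helper32.NarrowApp
import Cfsg.Agent.Lib.Helper32.SylowTowerB
import Cfsg.Prelude.Def_OddOrderLocal

set_option autoImplicit false
set_option linter.style.haveILetI false

universe u

namespace Cfsg.Agent.Lib.Helper32.Narrow

open Subgroup Cfsg Cfsg.Agent.Lib.Helper32.Rank2
open scoped commutatorElement Pointwise

/-- the rank of a group is controlled by a Sylow subgroup -/
theorem pRankLE_of_sylow {G : Type*} [Group G] [Finite G] (p : ℕ) [Fact p.Prime] {k : ℕ}
    (S : Sylow p G) (h : PRankLE p k ↥(S : Subgroup G)) : PRankLE p k G := by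
  intro B hBc hBe
  have hB : IsPGroup p B := fun b =>
    ⟨1, by rw [pow_one]; exact Subtype.ext (by simpa using hBe b b.2)⟩
  obtain ⟨Q, hQ⟩ := hB.exists_le_sylow
  obtain ⟨g, hg⟩ := MulAction.exists_smul_eq G Q S
  have hmem : ∀ b ∈ B, g * b * g⁻¹ ∈ (S : Subgroup G) := by
    intro b hb
    rw [← hg]
    show g * b * g⁻¹ ∈ MulAut.conj g • (Q : Subgroup G)
    have := Subgroup.smul_mem_pointwise_smul b (MulAut.conj g) (Q : Subgroup G) (hQ hb)
    simpa [MulAut.smul_def] using this
  let f : ↥B →* ↥(S : Subgroup G) :=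
    { toFun := fun b => ⟨g * b * g⁻¹, hmem b b.2⟩
      map_one' := by apply Subtype.ext; simp
      map_mul' := by intro a b; apply Subtype.ext; simp }
  have hf : Function.Injective f := by
    intro a b hab
    have h1 : g * (a : G) * g⁻¹ = g * (b : G) * g⁻¹ := congrArg Subtype.val hab
    have h2 : (a : G) = b := by
      have := mul_left_cancel (mul_right_cancel h1)
      exact this
    exact Subtype.ext h2
  have h' := pRankLE_of_injective f hf h
  have h3 := h' ⊤ ⟨⟨fun a b => Subtype.ext (hBc.is_comm.comm a.1 b.1)⟩⟩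
    (fun a _ => Subtype.ext (hBe a a.2))
  rwa [Subgroup.card_top] at h3

/-- transfer of the narrowness datum along an isomorphism -/
theorem narrow_transfer {S P' : Type*} [Group S] [Group P'] {p : ℕ} (e : S ≃* P') {x : S}
    (h : PRankLE p 2 ↥(centralizer ({x} : Set S))) :
    PRankLE p 2 ↥(centralizer ({e x} : Set P')) := by
  have hmem : ∀ g : ↥(centralizer ({e x} : Set P')), e.symm (g : P') ∈
      centralizer ({x} : Set S) := by
    intro g
    rw [Subgroup.mem_centralizer_singleton_iff]
    have h1 := Subgroup.mem_centralizer_singleton_iff.1 g.2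
    apply e.injective
    rw [map_mul, map_mul, MulEquiv.apply_symm_apply]
    exact h1
  let f : ↥(centralizer ({e x} : Set P')) →* ↥(centralizer ({x} : Set S)) :=
    { toFun := fun g => ⟨e.symm (g : P'), hmem g⟩
      map_one' := by apply Subtype.ext; simp
      map_mul' := by intro a b; apply Subtype.ext; simp }
  have hf : Function.Injective f := by
    intro a b hab
    have h1 : e.symm (a : P') = e.symm (b : P') := congrArg Subtype.val hab
    exact Subtype.ext (e.symm.injective h1)
  exact pRankLE_of_injective f hf h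

/-- a narrow `p`-group of rank at least three has an element of order dividing `p` whose
centralizer has rank at most two -/
theorem narrow_elt {R : Type*} [Group R] [Finite R] (p : ℕ) [Fact p.Prime]
    (hn : IsNarrow p R) (hr3 : ¬ PRankLE p 2 R) :
    ∃ x : R, x ^ p = 1 ∧ PRankLE p 2 ↥(centralizer ({x} : Set R)) := by
  classical
  have hp : p.Prime := Fact.out
  rcases hn with h | ⟨R₀, R₁, hR₀, hR₁, -, hcomm, hsup⟩
  · exact absurd h hr3
  haveI : Nontrivial R₀ := by
    rw [← Finite.one_lt_card_iff_nontrivial, hR₀]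
    exact hp.one_lt
  obtain ⟨x, hx1⟩ := exists_ne (1 : R₀)
  have hxtop : zpowers x = ⊤ := zpowers_eq_top_of_prime_card hR₀ hx1
  have hR₀exp : ∀ a : R₀, a ^ p = 1 := by
    intro a
    have := pow_card_eq_one' (G := R₀) (x := a)
    rwa [hR₀] at this
  have hxp : (x : R) ^ p = 1 := by
    have := congrArg Subtype.val (hR₀exp x)
    simpa using this
  refine ⟨(x : R), hxp, ?_⟩
  -- `C(x) ≤ R₀ R₁`
  have hle : centralizer ({(x : R)} : Set R) ≤ R₀ ⊔ R₁ := by
    rw [hsup]
    intro g hg
    have hgx : g * (x : R) = (x : R) * g := Subgroup.mem_centralizer_singleton_iff.1 hg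
    rw [Subgroup.mem_centralizer_iff]
    intro a ha
    have : (⟨a, ha⟩ : R₀) ∈ zpowers x := by rw [hxtop]; exact Subgroup.mem_top _
    obtain ⟨k, hk⟩ := Subgroup.mem_zpowers_iff.1 this
    have hk' : (x : R) ^ k = a := by
      have := congrArg Subtype.val hk
      simpa using this
    rw [← hk']
    exact ((Commute.zpow_right (show Commute g (x : R) from hgx) k).eq).symm
  let μ : R₀ × R₁ →* R := MonoidHom.noncommCoprod R₀.subtype R₁.subtype
    (fun a b => (show Commute (R₀.subtype a) (R₁.subtype b) from hcomm a a.2 b b.2))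
  have hμ : μ.range = R₀ ⊔ R₁ := by
    show (MonoidHom.noncommCoprod R₀.subtype R₁.subtype _).range = _
    rw [MonoidHom.noncommCoprod_range, Subgroup.range_subtype, Subgroup.range_subtype]
  intro B hBc hBe
  -- decompose the elements of `B`
  have hdec : ∀ b : B, ∃ mn : R₀ × R₁, μ mn = ((b : ↥(centralizer ({(x : R)} : Set R))) : R) := by
    intro b
    have : ((b : ↥(centralizer ({(x : R)} : Set R))) : R) ∈ μ.range := by
      rw [hμ]; exact hle (b : ↥(centralizer ({(x : R)} : Set R))).2
    exact this
  have hpow : ∀ b : B, ((Classical.choose (hdec b)).2) ^ p = 1 := by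
    intro b
    have h1 := Classical.choose_spec (hdec b)
    have h2 : (((b : ↥(centralizer ({(x : R)} : Set R))) : R)) ^ p = 1 := by
      have := hBe b b.2
      have h3 := congrArg Subtype.val this
      simpa using h3
    rw [← h1, ← map_pow] at h2
    have h4 : μ ((Classical.choose (hdec b)) ^ p) =
        (((Classical.choose (hdec b)).1 ^ p : R₀) : R) *
          (((Classical.choose (hdec b)).2 ^ p : R₁) : R) := rfl
    rw [h4, hR₀exp, Subgroup.coe_one, one_mul] at h2
    exact Subtype.ext h2
  let g : B → R₀ × {r : R₁ // r ^ p = 1} :=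
    fun b => ((Classical.choose (hdec b)).1, ⟨(Classical.choose (hdec b)).2, hpow b⟩)
  have hg : Function.Injective g := by
    intro b b' hbb'
    have h1 : (Classical.choose (hdec b)).1 = (Classical.choose (hdec b')).1 := by
      have := congrArg Prod.fst hbb'
      exact this
    have h2 : (Classical.choose (hdec b)).2 = (Classical.choose (hdec b')).2 := by
      have := congrArg (fun t => (t.2 : R₁)) hbb'
      exact this
    have h3 : Classical.choose (hdec b) = Classical.choose (hdec b') := Prod.ext h1 h2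
    have h4 := Classical.choose_spec (hdec b)
    rw [h3, Classical.choose_spec (hdec b')] at h4
    exact Subtype.ext (Subtype.ext h4.symm)
  have hcard1 : Nat.card {r : R₁ // r ^ p = 1} ≤ p := by
    haveI : Fintype R₁ := Fintype.ofFinite _
    rw [Nat.card_eq_fintype_card, Fintype.card_subtype]
    have := IsCyclic.card_pow_eq_one_le (α := R₁) hp.pos
    convert this
  calc Nat.card B ≤ Nat.card (R₀ × {r : R₁ // r ^ p = 1}) := Nat.card_le_card_of_injective g hg
    _ = Nat.card R₀ * Nat.card {r : R₁ // r ^ p = 1} := Nat.card_prod _ _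
    _ ≤ p * p := by rw [hR₀]; exact Nat.mul_le_mul_left _ hcard1
    _ = p ^ 2 := (sq p).symm

/-- if `A' ≤ O_p(A)` then `O_p(A)` has index prime to `p` -/
theorem index_pCore_coprime_of_commutator_le {A : Type*} [Group A] [Finite A] (p : ℕ)
    [Fact p.Prime] (h : commutator A ≤ pCore p A) : (pCore p A).index.Coprime p := by
  have hp : p.Prime := Fact.out
  let S : Sylow p A := default
  have hM : (pCore p A ⊔ (S : Subgroup A)).Normal :=
    Cfsg.Agent.Lib.Helper32.FitDer.normal_of_commutator_le _ (h.trans le_sup_left)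
  have hMp : IsPGroup p ↥(pCore p A ⊔ (S : Subgroup A)) := by
    have h1 := Cfsg.Agent.Lib.Helper55.card_sup_dvd_mul (S : Subgroup A) (pCore p A)
    obtain ⟨a, ha⟩ := IsPGroup.iff_card.1 S.2
    obtain ⟨b, hb⟩ := IsPGroup.iff_card.1 (Cfsg.Agent.Lib.Helper55.pCore_isPGroup (G := A) p)
    rw [ha, hb, ← pow_add, sup_comm] at h1
    obtain ⟨c, -, hc⟩ := (Nat.dvd_prime_pow hp).1 h1
    exact IsPGroup.of_card hc
  have hle : pCore p A ⊔ (S : Subgroup A) ≤ pCore p A :=
    le_sSup (show pCore p A ⊔ (S : Subgroup A) ∈ {N : Subgroup A | N.Normal ∧ IsPGroup p N} from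
      ⟨hM, hMp⟩)
  have hS : (S : Subgroup A) ≤ pCore p A := le_sup_right.trans hle
  have hdvd : (pCore p A).index ∣ (S : Subgroup A).index := Subgroup.index_dvd_of_le hS
  rw [Nat.coprime_comm, Nat.Prime.coprime_iff_not_dvd hp]
  intro hpd
  exact S.not_dvd_index (hpd.trans hdvd)

end Cfsg.Agent.Lib.Helper32.Narrow
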