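import Mathlib
import Cfsg.Agent.S1449
import Cfsg.Agent.Lib.Helper32.NarrowAut2
import Cfsg.Agent.Lib.Helper32.NarrowDef
import Cfsg.Agent.Lib.Helper32.GL2Card
import Cfsg.Agent.Lib.Helper32.Rank2Aut

set_option autoImplicit false
set_option linter.style.haveILetI false

/-! Faithful odd-order solvable groups of automorphisms of a narrow `p`-group
(Bender–Glauberman 5.5, first parts). -/

namespace Cfsg.Agent.Lib.Helper32.Narrow

open Subgroup Cfsg
open scoped commutatorElement

variable {G : Type*} [Group G]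

/-- the conjugation action of a subgroup of the normalizer -/
noncomputable def conjAct (R A : Subgroup G) (hA : A ≤ normalizer (R : Set G)) : ↥A →* MulAut ↥R :=
  R.normalizerMonoidHom.comp (Subgroup.inclusion hA)

theorem conjAct_apply (R A : Subgroup G) (hA : A ≤ normalizer (R : Set G)) (a : ↥A) (r : ↥R) :
    ((conjAct R A hA a r : ↥R) : G) = (a : G) * r * (a : G)⁻¹ := rfl

theorem conjAct_injective (R A : Subgroup G) (hA : A ≤ normalizer (R : Set G))
    (hfaith : A ⊓ centralizer (R : Set G) = ⊥) : Function.Injective (conjAct R A hA) := by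
  rw [injective_iff_map_eq_one]
  intro a ha
  have h1 : Subgroup.inclusion hA a ∈ R.normalizerMonoidHom.ker := ha
  rw [Subgroup.normalizerMonoidHom_ker, Subgroup.mem_subgroupOf] at h1
  have h2 : (a : G) ∈ A ⊓ centralizer (R : Set G) := ⟨a.2, h1⟩
  rw [hfaith, Subgroup.mem_bot] at h2
  exact Subtype.ext h2

/-- a normal `p`-subgroup of `Aut R` containing all commutators pulls back to a normal
`p`-subgroup of `A` containing `A'` -/
theorem commutator_le_pCore_of_normal {A P : Type*} [Group A] [Group P] (p : ℕ) [Fact p.Prime]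
    (θ : A →* MulAut P) (hθ : Function.Injective θ) (N : Subgroup (MulAut P)) (hN : N.Normal)
    (hNp : ∀ φ ∈ N, ∃ k : ℕ, φ ^ (p ^ k) = 1) (hNc : ∀ φ ψ : MulAut P, ⁅φ, ψ⁆ ∈ N) :
    commutator A ≤ pCore p A := by
  have h1 : commutator A ≤ N.comap θ := by
    rw [_root_.commutator_def, Subgroup.commutator_le]
    intro a _ b _
    rw [Subgroup.mem_comap, map_commutatorElement]
    exact hNc _ _
  refine h1.trans (le_sSup ⟨hN.comap θ, ?_⟩)
  rintro ⟨g, hg⟩
  obtain ⟨k, hk⟩ := hNp _ (Subgroup.mem_comap.1 hg)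
  refine ⟨k, Subtype.ext ?_⟩
  rw [← map_pow] at hk
  have : g ^ (p ^ k) = 1 := hθ (by rw [hk, map_one])
  simpa using this

variable [Finite G]

/-- **BG 5.5(a)**: `A' ≤ O_p(A)` for a faithful solvable odd-order group acting on a narrow
`p`-group. -/
theorem commutator_le_pCore_of_narrow (p : ℕ) [Fact p.Prime] (hp : p ≠ 2) (R A : Subgroup G)
    (hR : IsPGroup p R) (hRn : IsNarrow p R) (hA : A ≤ normalizer (R : Set G))
    (hAs : Group.IsSolvable A) (hAodd : Odd (Nat.card A))
    (hfaith : A ⊓ centralizer (R : Set G) = ⊥) : commutator ↥A ≤ pCore p ↥A := by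
  by_cases hr : PRankLE p 2 R
  · have h1 : IsPGroup p ↥⁅A, A⁆ := Cfsg.Agent.S1449.result p hp R A hR hr hA hAs hAodd hfaith
    refine le_sSup ⟨inferInstance, ?_⟩
    have h2 : (commutator ↥A).map A.subtype = ⁅A, A⁆ := Subgroup.map_subtype_commutator A
    have e : ↥(commutator ↥A) ≃* ↥⁅A, A⁆ :=
      ((commutator ↥A).equivMapOfInjective A.subtype A.subtype_injective).trans
        (MulEquiv.subgroupCongr h2)
    exact h1.of_equiv e.symm
  · obtain ⟨x, hx, hC⟩ := narrow_elt p hRn hr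
    obtain ⟨N, hN, hNp, hNc, -⟩ := exists_normal_pgroup_mulAut p hp hR hr x hx hC
    exact commutator_le_pCore_of_normal p (conjAct R A hA) (conjAct_injective R A hA hfaith) N hN
      hNp hNc

/-- **BG 5.5(b)**: `p'`-elements have order dividing `p - 1` when the rank is at least three. -/
theorem orderOf_dvd_of_narrow (p : ℕ) [Fact p.Prime] (hp : p ≠ 2) (R A : Subgroup G)
    (hR : IsPGroup p R) (hRn : IsNarrow p R) (hA : A ≤ normalizer (R : Set G))
    (hfaith : A ⊓ centralizer (R : Set G) = ⊥) (hr : ¬ PRankLE p 2 R) (a : G) (ha : a ∈ A)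
    (hcop : (orderOf a).Coprime p) : orderOf a ∣ p - 1 := by
  obtain ⟨x, hx, hC⟩ := narrow_elt p hRn hr
  obtain ⟨N, hN, hNp, -, hNpow⟩ := exists_normal_pgroup_mulAut p hp hR hr x hx hC
  have hθ := conjAct_injective R A hA hfaith
  set θ := conjAct R A hA
  obtain ⟨k, hk⟩ := hNp _ (hNpow (θ ⟨a, ha⟩))
  rw [← map_pow, ← map_pow] at hk
  have h1 : ((⟨a, ha⟩ : ↥A) ^ (p - 1)) ^ (p ^ k) = 1 := hθ (by rw [hk, map_one])
  have h2 : (a ^ (p - 1)) ^ (p ^ k) = 1 := by
    have := congrArg (fun z : ↥A => (z : G)) h1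
    simpa using this
  have h3 : orderOf (a ^ (p - 1)) ∣ p ^ k := orderOf_dvd_of_pow_eq_one h2
  have h4 : orderOf (a ^ (p - 1)) ∣ orderOf a := orderOf_pow_dvd _
  have h5 : orderOf (a ^ (p - 1)) = 1 :=
    Nat.eq_one_of_dvd_coprimes (hcop.pow_right k) h4 h3
  exact orderOf_dvd_of_pow_eq_one (orderOf_eq_one_iff.1 h5)

end Cfsg.Agent.Lib.Helper32.Narrow
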