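import Mathlib
import Cfsg.Agent.Lib.Helper32.NarrowFaith
import Cfsg.Agent.Lib.Helper22.FStarQ
import Cfsg.Agent.Lib.Helper22.Fitting
import Cfsg.Agent.Lib.Helper86.OrderPCube

set_option autoImplicit false
set_option linter.style.haveILetI false

/-! Groups of prime order acting on narrow `p`-groups (Bender–Glauberman 5.5, last parts). -/

namespace Cfsg.Agent.Lib.Helper32.Narrow

open Subgroup Cfsg
open scoped commutatorElement

/-- the automorphism group of an elementary abelian group of order dividing `p ^ 2` has order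
dividing `|GL₂(p)|` -/
theorem card_mulAut_dvd (p : ℕ) [Fact p.Prime] {Q : Type*} [Group Q]
    [Finite Q] (hcomm : ∀ a b : Q, a * b = b * a) (hexp : ∀ x : Q, x ^ p = 1)
    (hcard : Nat.card Q ∣ p ^ 2) : Nat.card (MulAut Q) ∣ (p ^ 2 - 1) * (p ^ 2 - p) := by
  have hp : p.Prime := Fact.out
  haveI : Finite (MulAut Q) := Finite.of_injective (fun f : MulAut Q => (f : Q → Q))
      (fun f g h => MulEquiv.ext (congrFun h))
  obtain ⟨k, hk2, hk⟩ := (Nat.dvd_prime_pow hp).1 hcard
  interval_cases k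
  · haveI : Subsingleton Q := (Nat.card_eq_one_iff_unique.1 (by simpa using hk)).1
    haveI : Subsingleton (MulAut Q) := ⟨fun f g => by ext x; exact Subsingleton.elim _ _⟩
    rw [Nat.card_eq_one_iff_unique.2 ⟨inferInstance, ⟨1⟩⟩]
    exact one_dvd _
  · haveI : IsCyclic Q := isCyclic_of_prime_card (p := p) (by simpa using hk)
    have hc : Nat.card (MulAut Q) = p - 1 := by
      rw [Nat.card_congr (IsCyclic.mulAutMulEquiv Q).toEquiv, hk, pow_one, Nat.card_eq_fintype_card,
        ZMod.card_units_eq_totient, Nat.totient_prime hp]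
    rw [hc]
    have h1 : p ^ 2 - p = p * (p - 1) := by
      rw [Nat.mul_sub, mul_one, sq]
    rw [h1]
    exact Dvd.dvd.mul_left (Dvd.dvd.mul_left dvd_rfl p) _
  · letI : CommGroup Q := { ‹Group Q› with mul_comm := hcomm }
    obtain ⟨φ, hφ⟩ := GL2.exists_injective_hom_GL2 p hexp hk
    have h1 : Nat.card (MulAut Q) ∣ Nat.card (GL (Fin 2) (ZMod p)) :=
      Subgroup.card_dvd_of_injective φ hφ
    rwa [GL2.card_GL2_zmod] at h1

/-- arithmetic: an odd prime `q` dividing `|GL₂(p)|` but not `p (p - 1)` has `2 q ∣ p + 1` -/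
theorem two_mul_dvd_succ {p q : ℕ} (hp : p.Prime) (hp2 : p ≠ 2) (hq : q.Prime) (hq2 : q ≠ 2)
    (h : q ∣ (p ^ 2 - 1) * (p ^ 2 - p)) (hn : ¬ q ∣ p * (p - 1)) : 2 * q ∣ p + 1 := by
  have h1 : p ^ 2 - p = p * (p - 1) := by rw [Nat.mul_sub, mul_one, sq]
  have h2 : p ^ 2 - 1 = (p + 1) * (p - 1) := by
    have := Nat.sq_sub_sq p 1
    rw [one_pow] at this
    exact this
  rw [h1, h2] at h
  have h3 : q ∣ p + 1 := by
    rcases (Nat.Prime.dvd_mul hq).1 h with h | h
    · rcases (Nat.Prime.dvd_mul hq).1 h with h | h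
      · exact h
      · exact absurd (Dvd.dvd.mul_left h p) hn
    · exact absurd h hn
  have h4 : 2 ∣ p + 1 := by
    rcases hp.eq_two_or_odd with h | h
    · exact absurd h hp2
    · omega
  have hc : Nat.Coprime 2 q := by
    rw [Nat.coprime_primes Nat.prime_two hq]
    exact fun h => hq2 h.symm
  exact hc.mul_dvd_of_dvd_of_dvd h4 h3

variable {G : Type*} [Group G] [Finite G]

/-- **BG 5.5(c)**, first half. -/
theorem two_mul_card_dvd_of_narrow (p : ℕ) [Fact p.Prime] (hp : p ≠ 2) (R A : Subgroup G)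
    (hR : IsPGroup p R) (hRn : IsNarrow p R) (hA : A ≤ normalizer (R : Set G))
    (hAodd : Odd (Nat.card A)) (hfaith : A ⊓ centralizer (R : Set G) = ⊥)
    (hq : (Nat.card A).Prime) (hn : ¬ Nat.card A ∣ p * (p - 1)) :
    PRankLE p 2 R ∧ 2 * Nat.card A ∣ p + 1 := by
  have hpp : p.Prime := Fact.out
  haveI : Fact (Nat.card A).Prime := ⟨hq⟩
  have hq2 : Nat.card A ≠ 2 := by
    intro h
    rw [h] at hAodd
    exact absurd hAodd (by decide)
  have hqp : Nat.card A ≠ p := fun h => hn (h ▸ Dvd.intro _ rfl)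
  obtain ⟨a, ha⟩ := exists_prime_orderOf_dvd_card' (G := ↥A) (Nat.card A) dvd_rfl
  have hao : orderOf (a : G) = Nat.card A := by rw [Subgroup.orderOf_coe, ha]
  have hcop : (Nat.card A).Coprime p := (Nat.coprime_primes hq hpp).2 hqp
  have hr : PRankLE p 2 R := by
    by_contra hr
    have := orderOf_dvd_of_narrow p hp R A hR hRn hA hfaith hr (a : G) a.2 (hao ▸ hcop)
    rw [hao] at this
    exact hn (Dvd.dvd.mul_left this p)
  refine ⟨hr, ?_⟩
  obtain ⟨Q, _, _, ρ, hcomm, hexp, hcard, hker⟩ := Rank2.exists_rank_two_action p hp hR hr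
  have hθ := conjAct_injective R A hA hfaith
  set θ := conjAct R A hA
  have hf1 : (ρ (θ a)) ^ Nat.card A = 1 := by
    rw [← map_pow, ← map_pow, ← ha, pow_orderOf_eq_one, map_one, map_one]
  have hf2 : ρ (θ a) ≠ 1 := by
    intro h
    obtain ⟨k, hk⟩ := hker _ h
    rw [← map_pow] at hk
    have h1 : a ^ (p ^ k) = 1 := hθ (by rw [hk, map_one])
    have h2 : orderOf a ∣ p ^ k := orderOf_dvd_of_pow_eq_one h1
    rw [ha] at h2
    exact hqp ((Nat.prime_dvd_prime_iff_eq hq hpp).1 (hq.dvd_of_dvd_pow h2))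
  have hf3 : orderOf (ρ (θ a)) = Nat.card A := orderOf_eq_prime hf1 hf2
  haveI : Finite (MulAut Q) := Finite.of_injective (fun f : MulAut Q => (f : Q → Q))
      (fun f g h => MulEquiv.ext (congrFun h))
  have hdvd : Nat.card A ∣ Nat.card (MulAut Q) := hf3 ▸ orderOf_dvd_natCard _
  exact two_mul_dvd_succ hpp hp hq hq2 (hdvd.trans (card_mulAut_dvd p hcomm hexp hcard)) hn

end Cfsg.Agent.Lib.Helper32.Narrow
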