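import Mathlib
import Cfsg.Agent.Lib.Helper32.NarrowPrime

set_option autoImplicit false
set_option linter.style.haveILetI false

/-! From the central product decomposition to `|R| = p ^ 3` (Bender–Glauberman 5.5, last part). -/

namespace Cfsg.Agent.Lib.Helper32.Narrow

open Subgroup Cfsg
open scoped commutatorElement

variable {G : Type*} [Group G]

/-- elements of a join of two elementwise commuting subgroups are products -/
theorem exists_mul_of_mem_sup {R₁ R₂ : Subgroup G} (hcomm : ∀ a ∈ R₁, ∀ b ∈ R₂, a * b = b * a)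
    {r : G} (hr : r ∈ R₁ ⊔ R₂) : ∃ a ∈ R₁, ∃ b ∈ R₂, r = a * b := by
  rw [sup_eq_closure] at hr
  induction hr using Subgroup.closure_induction with
  | mem x hx =>
    rcases hx with hx | hx
    · exact ⟨x, hx, 1, R₂.one_mem, (mul_one x).symm⟩
    · exact ⟨1, R₁.one_mem, x, hx, (one_mul x).symm⟩
  | one => exact ⟨1, R₁.one_mem, 1, R₂.one_mem, (mul_one 1).symm⟩
  | mul x y _ _ hx hy =>
    obtain ⟨a, ha, b, hb, rfl⟩ := hx
    obtain ⟨a', ha', b', hb', rfl⟩ := hy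
    refine ⟨a * a', R₁.mul_mem ha ha', b * b', R₂.mul_mem hb hb', ?_⟩
    calc a * b * (a' * b') = a * (b * a') * b' := by group
      _ = a * (a' * b) * b' := by rw [hcomm a' ha' b hb]
      _ = a * a' * (b * b') := by group
  | inv x _ hx =>
    obtain ⟨a, ha, b, hb, rfl⟩ := hx
    refine ⟨a⁻¹, R₁.inv_mem ha, b⁻¹, R₂.inv_mem hb, ?_⟩
    rw [mul_inv_rev]
    exact (hcomm a⁻¹ (R₁.inv_mem ha) b⁻¹ (R₂.inv_mem hb)).symm

/-- a group of prime order `q ∤ p (p - 1)` normalizing a cyclic `p`-group centralizes it -/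
theorem commute_of_cyclic [Finite G] (p : ℕ) [Fact p.Prime] (C A : Subgroup G) (hC : IsPGroup p C)
    (hcyc : IsCyclic C) (hA : A ≤ normalizer (C : Set G)) (hq : (Nat.card A).Prime)
    (hn : ¬ Nat.card A ∣ p * (p - 1)) : ∀ a ∈ A, ∀ c ∈ C, a * c = c * a := by
  have hpp : p.Prime := Fact.out
  intro a ha c hc
  set θ := conjAct C A hA
  haveI : Finite (MulAut C) := Finite.of_injective (fun f : MulAut C => (f : C → C))
      (fun f g h => MulEquiv.ext (congrFun h))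
  obtain ⟨k, hk⟩ := hC.exists_card_eq
  have hcard : Nat.card (MulAut C) = Nat.totient (p ^ k) := by
    haveI : NeZero (p ^ k) := ⟨pow_ne_zero _ hpp.ne_zero⟩
    rw [Nat.card_congr (IsCyclic.mulAutMulEquiv C).toEquiv, hk, Nat.card_eq_fintype_card,
      ZMod.card_units_eq_totient]
  have hcop : (Nat.card A).Coprime (Nat.totient (p ^ k)) := by
    rw [Nat.Prime.coprime_iff_not_dvd hq]
    intro h
    rcases Nat.eq_zero_or_pos k with rfl | hk0
    · rw [pow_zero, Nat.totient_one] at h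
      exact hq.one_lt.ne' (Nat.dvd_one.1 h)
    · rw [Nat.totient_prime_pow hpp hk0] at h
      rcases (Nat.Prime.dvd_mul hq).1 h with h | h
      · exact hn (Dvd.dvd.mul_right (hq.dvd_of_dvd_pow h) _)
      · exact hn (Dvd.dvd.mul_left h _)
  have h1 : orderOf (θ ⟨a, ha⟩) ∣ Nat.card A := by
    apply orderOf_dvd_of_pow_eq_one
    rw [← map_pow, pow_card_eq_one', map_one]
  have h2 : orderOf (θ ⟨a, ha⟩) ∣ Nat.totient (p ^ k) := hcard ▸ orderOf_dvd_natCard _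
  have h3 : θ ⟨a, ha⟩ = 1 := orderOf_eq_one_iff.1 (Nat.eq_one_of_dvd_coprimes hcop h1 h2)
  have h4 := conjAct_apply C A hA ⟨a, ha⟩ ⟨c, hc⟩
  rw [show conjAct C A hA = θ from rfl, h3] at h4
  simp only [MulAut.one_apply] at h4
  calc a * c = a * c * a⁻¹ * a := by group
    _ = c * a := by rw [← h4]

variable [Finite G]

/-- **BG 5.5(c)**, second half, from the central product decomposition of 4.9. -/
theorem card_eq_cube_of_cprod (p : ℕ) [Fact p.Prime] (R A : Subgroup G) (hR : IsPGroup p R)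
    (hA : A ≤ normalizer (R : Set G)) (hq : (Nat.card A).Prime)
    (hn : ¬ Nat.card A ∣ p * (p - 1)) (hRA : ⁅R, A⁆ = R)
    (R₁ R₂ : Subgroup G) (hsup : R₁ ⊔ R₂ = R) (hcomm : ∀ a ∈ R₁, ∀ b ∈ R₂, a * b = b * a)
    (hna : ¬ IsMulCommutative R₁) (hc1 : Nat.card R₁ = p ^ 3) (hcyc : IsCyclic R₂)
    (hΩ : closure {x : G | x ∈ R₂ ∧ x ^ p = 1} = ⁅R₁, R₁⁆) : Nat.card R = p ^ 3 := by
  have hpp : p.Prime := Fact.out
  have hR₁ : R₁ ≤ R := hsup ▸ le_sup_left
  have hR₂ : R₂ ≤ R := hsup ▸ le_sup_right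
  -- `R₂` is central in `R`
  have hcent : ∀ b ∈ R₂, ∀ r ∈ R, b * r = r * b := by
    intro b hb r hr
    rw [← hsup] at hr
    have h1 : R₁ ⊔ R₂ ≤ centralizer ({b} : Set G) := by
      apply sup_le
      · intro a ha
        exact Subgroup.mem_centralizer_singleton_iff.2 (hcomm a ha b hb)
      · intro b' hb'
        rw [Subgroup.mem_centralizer_singleton_iff]
        letI := IsCyclic.commGroup (α := ↥R₂)
        exact congrArg Subtype.val (mul_comm (⟨b', hb'⟩ : ↥R₂) ⟨b, hb⟩)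
    exact (Subgroup.mem_centralizer_singleton_iff.1 (h1 hr)).symm
  have hdec : ∀ r ∈ R, ∃ a ∈ R₁, ∃ b ∈ R₂, r = a * b := fun r hr =>
    exists_mul_of_mem_sup hcomm (hsup ▸ hr)
  -- the centre of `R` is `R₂`
  have hna' : ¬ ∀ a b : ↥R₁, a * b = b * a := fun h => hna ⟨⟨h⟩⟩
  obtain ⟨-, hcz, -⟩ := Cfsg.Agent.Lib.Helper86.nonabelian_basic p hc1 hna'
  have hZ : ∀ z ∈ R, (∀ r ∈ R, z * r = r * z) → z ∈ R₂ := by
    intro z hz hzc
    obtain ⟨a, ha, b, hb, rfl⟩ := hdec z hz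
    have h1 : (⟨a, ha⟩ : ↥R₁) ∈ center ↥R₁ := by
      rw [Subgroup.mem_center_iff]
      rintro ⟨r, hr⟩
      apply Subtype.ext
      show r * a = a * r
      have e1 := hzc r (hR₁ hr)
      have e2 := hcomm r hr b hb
      calc r * a = r * (a * b) * b⁻¹ := by group
        _ = a * b * r * b⁻¹ := by rw [← e1]
        _ = a * (b * r) * b⁻¹ := by group
        _ = a * (r * b) * b⁻¹ := by rw [e2]
        _ = a * r := by group
    rw [← hcz] at h1
    have h2 : a ∈ (commutator ↥R₁).map R₁.subtype := ⟨⟨a, ha⟩, h1, rfl⟩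
    rw [Subgroup.map_subtype_commutator, ← hΩ] at h2
    have h3 : closure {x : G | x ∈ R₂ ∧ x ^ p = 1} ≤ R₂ := by
      rw [Subgroup.closure_le]
      exact fun x hx => hx.1
    exact R₂.mul_mem (h3 h2) hb
  -- `A` normalizes `R₂`
  have hA₂ : A ≤ normalizer (R₂ : Set G) := by
    intro a ha
    have key : ∀ a ∈ A, ∀ b ∈ R₂, a * b * a⁻¹ ∈ R₂ := by
      intro a ha b hb
      have hn := Subgroup.mem_normalizer_iff.1 (hA ha)
      apply hZ _ ((hn b).1 (hR₂ hb))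
      intro r hr
      have hr' : a⁻¹ * r * a ∈ R := by
        rw [hn (a⁻¹ * r * a)]
        have : a * (a⁻¹ * r * a) * a⁻¹ = r := by group
        rwa [this]
      calc a * b * a⁻¹ * r = a * (b * (a⁻¹ * r * a)) * a⁻¹ := by group
        _ = a * ((a⁻¹ * r * a) * b) * a⁻¹ := by rw [hcent b hb _ hr']
        _ = r * (a * b * a⁻¹) := by group
    rw [Subgroup.mem_normalizer_iff]
    intro b
    refine ⟨fun hb => key a ha b hb, fun hb => ?_⟩
    have := key a⁻¹ (A.inv_mem ha) _ hb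
    have e : a⁻¹ * (a * b * a⁻¹) * a⁻¹⁻¹ = b := by group
    rwa [e] at this
  -- `A` centralizes `R₂`
  have hAc := commute_of_cyclic p R₂ A (hR.to_le hR₂) hcyc hA₂ hq hn
  have hR₂c : R₂ ≤ R ⊓ centralizer (A : Set G) := by
    intro b hb
    refine ⟨hR₂ hb, ?_⟩
    show b ∈ centralizer (A : Set G)
    rw [Subgroup.mem_centralizer_iff]
    intro a ha
    exact hAc a ha b hb
  -- `C_R(A) ≤ R'`
  haveI : Fact (Nat.card A).Prime := ⟨hq⟩
  have hAq : IsPGroup (Nat.card A) ↥A := IsPGroup.of_card (n := 1) (pow_one _).symm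
  have hqp : Nat.card A ≠ p := fun h => hn (h ▸ Dvd.intro _ rfl)
  have hFtop : Cfsg.fittingSubgroup ↥R = ⊤ := by
    rw [eq_top_iff]
    apply Cfsg.Agent.Lib.Helper22.le_fittingSubgroup inferInstance
    exact (hR.to_subgroup ⊤).isNilpotent
  have hF6 : R ⊓ centralizer (A : Set G) ≤ ⁅R, R⁆ := by
    apply Cfsg.Agent.Lib.Helper22.inf_centralizer_le_commutator A hAq R hA _ _ hRA
    · rw [hFtop, top_sup_eq]
    · rw [hFtop, Subgroup.card_top]
      obtain ⟨k, hk⟩ := hR.exists_card_eq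
      rw [hk]
      exact ((Nat.coprime_primes hq hpp).2 hqp).symm.pow_left k
  -- `R' ≤ R₁`
  have hF7 : ⁅R, R⁆ ≤ R₁ := by
    rw [Subgroup.commutator_le]
    intro g₁ hg₁ g₂ hg₂
    obtain ⟨a, ha, b, hb, rfl⟩ := hdec g₁ hg₁
    obtain ⟨a', ha', b', hb', rfl⟩ := hdec g₂ hg₂
    have e1 : ⁅a * b, a' * b'⁆ = ⁅a, a'⁆ := by
      rw [commutatorElement_def, commutatorElement_def]
      have c1 := hcent b hb _ hg₂
      have c2 := hcent b' hb' a⁻¹ (R.inv_mem (hR₁ ha))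
      calc a * b * (a' * b') * (a * b)⁻¹ * (a' * b')⁻¹
          = a * (b * (a' * b')) * b⁻¹ * a⁻¹ * b'⁻¹ * a'⁻¹ := by group
        _ = a * ((a' * b') * b) * b⁻¹ * a⁻¹ * b'⁻¹ * a'⁻¹ := by rw [c1]
        _ = a * a' * (b' * a⁻¹) * b'⁻¹ * a'⁻¹ := by group
        _ = a * a' * (a⁻¹ * b') * b'⁻¹ * a'⁻¹ := by rw [c2]
        _ = a * a' * a⁻¹ * a'⁻¹ := by group
    rw [e1]
    exact R₁.mul_mem (R₁.mul_mem (R₁.mul_mem ha ha') (R₁.inv_mem ha)) (R₁.inv_mem ha')
  have hfin : R₂ ≤ R₁ := hR₂c.trans (hF6.trans hF7)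
  have : R = R₁ := by rw [← hsup]; exact sup_eq_left.2 hfin
  rw [this, hc1]

end Cfsg.Agent.Lib.Helper32.Narrow

namespace Cfsg.Agent.Lib.Helper32.Narrow

open Subgroup Cfsg
open scoped commutatorElement

/-- **Bender–Glauberman 5.5**, assembled; the structure theorem 4.9 for `R` enters as a
hypothesis. -/
theorem narrow_main {G : Type*} [Group G] [Finite G] (p : ℕ) [Fact p.Prime] (hp : p ≠ 2)
    (R A : Subgroup G) (hR : IsPGroup p R) (hRn : IsNarrow p R)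
    (hA : A ≤ normalizer (R : Set G)) (hAs : Group.IsSolvable A) (hAodd : Odd (Nat.card A))
    (hfaith : A ⊓ centralizer (R : Set G) = ⊥)
    (h49 : R ≠ ⊥ → PRankLE p 2 R → (Nat.card A).Coprime p → ⁅R, A⁆ = R →
      (IsMulCommutative R ∨ ∃ R₁ R₂ : Subgroup G, R₁ ⊔ R₂ = R ∧
        (∀ a ∈ R₁, ∀ b ∈ R₂, a * b = b * a) ∧
        ¬ IsMulCommutative R₁ ∧ Nat.card R₁ = p ^ 3 ∧ Monoid.exponent R₁ = p ∧ IsCyclic R₂ ∧
        closure {x : G | x ∈ R₂ ∧ x ^ p = 1} = ⁅R₁, R₁⁆)) :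
    (commutator ↥A ≤ pCore p ↥A ∧ ((pCore p ↥A).index).Coprime p) ∧
      (¬ PRankLE p 2 R → ∀ a ∈ A, (orderOf a).Coprime p → orderOf a ∣ p - 1) ∧
      ((Nat.card A).Prime → ¬ Nat.card A ∣ p * (p - 1) →
        2 * Nat.card A ∣ p + 1 ∧ (⁅R, A⁆ = R → ¬ IsMulCommutative R → Nat.card R = p ^ 3)) := by
  have hpp : p.Prime := Fact.out
  have ha := commutator_le_pCore_of_narrow p hp R A hR hRn hA hAs hAodd hfaith
  refine ⟨⟨ha, index_pCore_coprime_of_commutator_le p ha⟩, ?_, ?_⟩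
  · intro hr a haA hcop
    exact orderOf_dvd_of_narrow p hp R A hR hRn hA hfaith hr a haA hcop
  · intro hq hn
    obtain ⟨hr, h2⟩ := two_mul_card_dvd_of_narrow p hp R A hR hRn hA hAodd hfaith hq hn
    refine ⟨h2, ?_⟩
    intro hRA hnab
    have hqp : Nat.card A ≠ p := fun h => hn (h ▸ Dvd.intro _ rfl)
    have hcop : (Nat.card A).Coprime p := (Nat.coprime_primes hq hpp).2 hqp
    have hR1 : R ≠ ⊥ := by
      rintro rfl
      apply hnab
      refine ⟨⟨fun a b => ?_⟩⟩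
      apply Subtype.ext
      have ha1 : (a : G) = 1 := Subgroup.mem_bot.1 a.2
      have hb1 : (b : G) = 1 := Subgroup.mem_bot.1 b.2
      simp [ha1, hb1]
    rcases h49 hR1 hr hcop hRA with h | ⟨R₁, R₂, hsup, hcomm, hna, hc1, -, hcyc, hΩ⟩
    · exact absurd h hnab
    · exact card_eq_cube_of_cprod p R A hR hA hq hn hRA R₁ R₂ hsup hcomm hna hc1 hcyc hΩ

end Cfsg.Agent.Lib.Helper32.Narrow
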