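import Mathlib
import Cfsg.Agent.S1450
import Cfsg.Agent.Lib.Helper32.NarrowDef
import Cfsg.Agent.Lib.Helper32.PPrimeP

set_option autoImplicit false
set_option linter.style.haveILetI false

/-! Solvable groups of odd order with Sylow `p`-subgroups of rank at most two have
`p`-length one: `G = O_{p'}(G) N_G(S)`. -/

namespace Cfsg.Agent.Lib.Helper32.Rank2

open Subgroup Cfsg

/-- a `p`-subgroup lies in every normal subgroup of index prime to `p` -/
theorem isPGroup_le_of_coprime_index {G : Type*} [Group G] [Finite G] {p : ℕ} [hp : Fact p.Prime]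
    (P : Subgroup G) (hP : IsPGroup p P) (K : Subgroup G) [K.Normal] (hK : K.index.Coprime p) :
    P ≤ K := by
  intro x hx
  obtain ⟨k, hk⟩ := (IsPGroup.iff_orderOf.mp hP) ⟨x, hx⟩
  have hk' : orderOf x = p ^ k := by
    rw [← hk]
    exact (Subgroup.orderOf_mk x hx).symm
  have h1 : orderOf (QuotientGroup.mk x : G ⧸ K) ∣ p ^ k := by
    rw [← hk']
    exact orderOf_map_dvd (QuotientGroup.mk' K) x
  have h2 : orderOf (QuotientGroup.mk x : G ⧸ K) ∣ K.index := by
    rw [Subgroup.index_eq_card]
    exact orderOf_dvd_natCard _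
  have hcop : Nat.Coprime (p ^ k) K.index := (hK.symm).pow_left k
  have h3 : orderOf (QuotientGroup.mk x : G ⧸ K) = 1 := Nat.eq_one_of_dvd_coprimes hcop h1 h2
  rw [orderOf_eq_one_iff] at h3
  exact (QuotientGroup.eq_one_iff x).mp h3

/-- **`p`-length one for rank two**: in a solvable group `X` of odd order whose Sylow
`p`-subgroup `S` has no elementary abelian subgroup of order `p ^ 3`, `X = O_{p'}(X) N_X(S)`
and `O_{p'}(X) S` is normal. -/
theorem pPrimeCore_sup_normalizer_of_rank_two {X : Type*} [Group X] [Finite X]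
    [Group.IsSolvable X] (hodd : Odd (Nat.card X)) (p : ℕ) [Fact p.Prime] (S : Sylow p X)
    (hr : PRankLE p 2 ↥(S : Subgroup X)) :
    pPrimeCore p X ⊔ (S : Subgroup X) = pPrimePCore p X ∧
      pPrimeCore p X ⊔ normalizer ((S : Subgroup X) : Set X) = ⊤ := by
  have hp : p.Prime := Fact.out
  haveI hNn : (pPrimePCore p X).Normal := by
    unfold pPrimePCore
    haveI : (pCore p (X ⧸ pPrimeCore p X)).Normal :=
      Subgroup.sSup_normal _ (fun _ h => h.1)
    exact Subgroup.normal_comap _
  have hSN : (S : Subgroup X) ≤ pPrimePCore p X := by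
    by_cases hpX : p ∣ Nat.card X
    · have hrX : PRankLE p 2 X := Narrow.pRankLE_of_sylow p S hr
      obtain ⟨-, -, -, -, -, hidx⟩ := Cfsg.Agent.S1450.result hodd p hpX hrX
      exact isPGroup_le_of_coprime_index _ S.2 _ hidx
    · have h1 : Nat.card (S : Subgroup X) ∣ Nat.card X := Subgroup.card_subgroup_dvd_card _
      obtain ⟨k, hk⟩ := (S.2).exists_card_eq
      have hk0 : k = 0 := by
        by_contra hk0
        apply hpX
        rw [hk] at h1
        exact (dvd_pow_self p hk0).trans h1
      rw [hk0, pow_zero] at hk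
      have : (S : Subgroup X) = ⊥ := Subgroup.card_eq_one.1 hk
      rw [this]
      exact bot_le
  have h2 : pPrimeCore p X ⊔ (S : Subgroup X) = pPrimePCore p X := by
    have := pPrimeCore_sup_sylow_inf (G := X) (p := p) S
    rwa [inf_of_le_left hSN] at this
  refine ⟨h2, ?_⟩
  have h1 : normalizer ((S : Subgroup X) : Set X) ⊔ pPrimePCore p X = ⊤ :=
    Sylow.normalizer_sup_eq_top' S hSN
  rw [← h2, ← sup_assoc] at h1
  rw [eq_top_iff, ← h1]
  apply sup_le (sup_le le_sup_right le_sup_left)
  exact le_normalizer.trans le_sup_right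

end Cfsg.Agent.Lib.Helper32.Rank2
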