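import Cfsg.Agent.Lib.Helper32.SignalizerCore
import Cfsg.Agent.Lib.Helper54.Balance
import Cfsg.Agent.Lib.Helper62.Subnormal
import Cfsg.Agent.Lib.Helper33.SylowSub
import Cfsg.Prelude.Def_OddOrderLocal

set_option autoImplicit false

/-!
# The transitivity hypothesis (Bender–Glauberman §7) from the signalizer lemma
-/

namespace Cfsg.Agent.Lib.Helper32

open Subgroup Cfsg

universe u

section trans

variable {G : Type u} [Group G] [Finite G]

/-- For `A ≤ X`, `O_π(X)` (as a subgroup of `G`) is an `A`-invariant `π`-subgroup of `X`. -/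
theorem piCoreOf_mem_invSubgroups (π : Set ℕ) (X A : Subgroup G) (hAX : A ≤ X) :
    piCoreOf π X ∈ invSubgroups X A π := by
  refine ⟨map_subtype_le _, ?_, ?_⟩
  · intro q hq hqd
    have h1 : Nat.card (piCoreOf π X) = Nat.card (piCore π ↥X) := by
      unfold piCoreOf
      exact Nat.card_congr
        ((piCore π ↥X).equivMapOfInjective X.subtype X.subtype_injective).symm.toEquiv
    rw [h1] at hqd
    exact Cfsg.Agent.Lib.Helper62.isPi_piCore π q hq hqd
  · intro a ha
    rw [mem_normalizer_iff]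
    intro y
    unfold piCoreOf
    constructor
    · rintro ⟨z, hz, rfl⟩
      refine ⟨⟨a, hAX ha⟩ * z * ⟨a, hAX ha⟩⁻¹, ?_, by simp⟩
      exact (piCore_normal π ↥X).conj_mem z hz _
    · rintro ⟨z, hz, hzy⟩
      refine ⟨⟨a, hAX ha⟩⁻¹ * z * ⟨a, hAX ha⟩, ?_, ?_⟩
      · have := (piCore_normal π ↥X).conj_mem z hz (⟨a, hAX ha⟩⁻¹)
        simpa using this
      · simp only [Subgroup.subtype_apply, Subgroup.coe_mul, Subgroup.coe_inv]
        have : (z : G) = a * y * a⁻¹ := hzy
        rw [this]; group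

/-- If every member of `И_X(A; π)` lies in `O_π(X)` then the join of `И_X(A;π)` is `O_π(X)`. -/
theorem sSup_invSubgroups_eq (π : Set ℕ) (X A : Subgroup G) (hAX : A ≤ X)
    (h : ∀ Y ∈ invSubgroups X A π, Y ≤ piCoreOf π X) :
    sSup (invSubgroups X A π) = piCoreOf π X :=
  le_antisymm (sSup_le h) (le_sSup (piCoreOf_mem_invSubgroups π X A hAX))

/-- In a finite group, a `p`-group `A ≠ 1`: the primes not dividing `|A|` are the primes `≠ p`. -/
theorem mem_primesNotDvd_card_iff {p : ℕ} [Fact p.Prime] {A : Subgroup G} (hAp : IsPGroup p A)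
    (hA : A ≠ ⊥) (q : ℕ) : q ∈ primesNotDvd (Nat.card A) ↔ q.Prime ∧ q ≠ p := by
  have hpp : p.Prime := Fact.out
  obtain ⟨k, hk⟩ := IsPGroup.iff_card.mp hAp
  have hk0 : k ≠ 0 := by
    rintro rfl
    rw [pow_zero] at hk
    exact hA (Subgroup.card_eq_one.mp hk)
  show (q.Prime ∧ ¬ q ∣ Nat.card A) ↔ _
  rw [hk]
  constructor
  · rintro ⟨hq, hnd⟩
    refine ⟨hq, ?_⟩
    rintro rfl
    exact hnd (dvd_pow_self _ hk0)
  · rintro ⟨hq, hne⟩
    refine ⟨hq, fun hd => hne ?_⟩
    exact (Nat.prime_dvd_prime_iff_eq hq hpp).mp (hq.dvd_of_dvd_pow hd)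

/-- Main tool: if `X` is solvable, `p` odd, `A ≤ X` a nontrivial `p`-subgroup containing every
element of order `p` of `C_X(A)`, then `И_X(A; p')` generates `O_{p'}(X)`. -/
theorem sSup_invSubgroups_eq_of_solvable {p : ℕ} [Fact p.Prime] (hp : p ≠ 2) (X A : Subgroup G)
    (hX : Group.IsSolvable ↥X) (hAX : A ≤ X) (hAp : IsPGroup p A) (hA : A ≠ ⊥)
    (hΩ : ∀ x ∈ X, x ∈ centralizer (A : Set G) → orderOf x = p → x ∈ A) :
    sSup (invSubgroups X A (primesNotDvd (Nat.card A))) =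
      piCoreOf (primesNotDvd (Nat.card A)) X := by
  have hpp : p.Prime := Fact.out
  apply sSup_invSubgroups_eq _ X A hAX
  rintro Y ⟨hYX, hYπ, hAY⟩
  have hcon : IsPConstrained p ↥X :=
    (Cfsg.Agent.Lib.Helper22.isPConstrained_iff_centralizer_le p).mpr
      (Cfsg.Agent.Lib.Helper54.centralizer_pCore_quotient_le_of_isSolvable p)
  have hAp' : IsPGroup p (A.subgroupOf X) := hAp.comap_subtype
  have hΩ' : ∀ x ∈ centralizer ((A.subgroupOf X : Subgroup ↥X) : Set ↥X), orderOf x = p →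
      x ∈ A.subgroupOf X := by
    intro x hx ho
    rw [mem_subgroupOf]
    apply hΩ x x.2
    · rw [mem_centralizer_iff]
      intro a ha
      have h1 := (mem_centralizer_iff.mp hx) ⟨a, hAX ha⟩ (mem_subgroupOf.mpr ha)
      exact congrArg Subtype.val h1
    · rw [Subgroup.orderOf_coe]; exact ho
  have hpA : p ∣ Nat.card A := by
    obtain ⟨k, hk⟩ := IsPGroup.iff_card.mp hAp
    have hk0 : k ≠ 0 := by
      rintro rfl
      rw [pow_zero] at hk
      exact hA (Subgroup.card_eq_one.mp hk)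
    rw [hk]; exact dvd_pow_self _ hk0
  have hcardY : Nat.card (Y.subgroupOf X) = Nat.card Y :=
    Nat.card_congr (Subgroup.subgroupOfEquivOfLe hYX).toEquiv
  have hY' : ¬ p ∣ Nat.card (Y.subgroupOf X) := by
    rw [hcardY]
    intro hd
    exact (hYπ p hpp hd).2 hpA
  have hAQ' : A.subgroupOf X ≤ normalizer ((Y.subgroupOf X : Subgroup ↥X) : Set ↥X) := by
    intro a ha
    rw [mem_normalizer_iff]
    intro y
    rw [mem_subgroupOf, mem_subgroupOf]
    have := mem_normalizer_iff.mp (hAY (mem_subgroupOf.mp ha)) (y : G)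
    simpa using this
  have hle := signalizer_le_pPrimeCore hp hcon (A.subgroupOf X) hAp' hΩ' (Y.subgroupOf X) hY' hAQ'
  have hle2 : pPrimeCore p ↥X ≤ piCore (primesNotDvd (Nat.card A)) ↥X := by
    apply Cfsg.Agent.Lib.Helper62.le_piCore (pPrimeCore_normal p ↥X)
    intro q hq hqd
    rw [mem_primesNotDvd_card_iff hAp hA]
    refine ⟨hq, ?_⟩
    rintro rfl
    have hc : (Nat.card (pPrimeCore q ↥X)).Coprime q :=
      Cfsg.Agent.Lib.Helper33.pPrimeCore_card_coprime' q
    have : q ∣ Nat.gcd (Nat.card (pPrimeCore q ↥X)) q := Nat.dvd_gcd hqd dvd_rfl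
    rw [Nat.Coprime] at hc
    rw [hc, Nat.dvd_one] at this
    exact hq.one_lt.ne' this
  intro y hy
  unfold piCoreOf
  exact ⟨⟨y, hYX hy⟩, hle2 (hle (mem_subgroupOf.mpr hy)), rfl⟩

end trans

end Cfsg.Agent.Lib.Helper32
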