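import Cfsg.Agent.S3737
import Cfsg.Agent.Lib.Helper22.PConstrained
import Cfsg.Agent.Lib.Helper33.PPrimeCore

set_option autoImplicit false

/-!
# `A`-invariant `p'`-subgroups of `p`-constrained groups (`p` odd)

If `A` is a `p`-subgroup containing every element of order `p` of `C_X(A)`, then
every `A`-invariant `p'`-subgroup of the `p`-constrained group `X` lies in `O_{p'}(X)`.
-/

namespace Cfsg.Agent.Lib.Helper32

open Subgroup

universe u

section core

variable {Y : Type u} [Group Y] [Finite Y] {p : ℕ} [Fact p.Prime]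

/-- `A ∩ R` centralizes an `A`-invariant `p'`-subgroup `Q` when `R` is a normal `p`-subgroup. -/
theorem commute_of_mem_inf_normal (R A Q : Subgroup Y) [R.Normal] (hR : IsPGroup p R)
    (hQ : (Nat.card Q).Coprime p) (hAQ : A ≤ normalizer (Q : Set Y))
    {a : Y} (haA : a ∈ A) (haR : a ∈ R) {x : Y} (hx : x ∈ Q) : a * x = x * a := by
  have h1 : a * x * a⁻¹ * x⁻¹ ∈ Q :=
    Q.mul_mem ((mem_normalizer_iff.mp (hAQ haA) x).mp hx) (Q.inv_mem hx)
  have h2 : a * x * a⁻¹ * x⁻¹ ∈ R := by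
    have : a * x * a⁻¹ * x⁻¹ = a * (x * a⁻¹ * x⁻¹) := by group
    rw [this]
    exact R.mul_mem haR (‹R.Normal›.conj_mem _ (R.inv_mem haR) x)
  have hbot : R ⊓ Q = ⊥ := by
    obtain ⟨k, hk⟩ := IsPGroup.iff_card.mp hR
    refine (Subgroup.disjoint_of_coprime_natCard ?_).eq_bot
    rw [hk]
    exact (Nat.Coprime.pow_left k hQ.symm)
  have h3 : a * x * a⁻¹ * x⁻¹ ∈ R ⊓ Q := ⟨h2, h1⟩
  rw [hbot, mem_bot] at h3
  calc a * x = (a * x * a⁻¹ * x⁻¹) * (x * a) := by group
    _ = x * a := by rw [h3, one_mul]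

/-- Core lemma: `p` odd, `R` a normal `p`-subgroup, `A` a `p`-subgroup normalizing the `p'`-subgroup `Q`,
and every element of order `p` of `C_R(A)` lies in `A`. Then `Q` centralizes `R`. -/
theorem signalizer_core_aux (hp : p ≠ 2) (R A Q : Subgroup Y) [R.Normal] (hR : IsPGroup p R)
    (hAp : IsPGroup p A) (hQ : (Nat.card Q).Coprime p) (hAQ : A ≤ normalizer (Q : Set Y))
    (hΩ : ∀ x ∈ R, x ∈ centralizer (A : Set Y) → orderOf x = p → x ∈ A) (n : ℕ) :
    ∀ G : Subgroup Y, Nat.card G = n → G ≤ R → A ⊔ Q ≤ normalizer (G : Set Y) → ⁅G, Q⁆ = ⊥ := by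
  have hpp : p.Prime := Fact.out
  induction n using Nat.strong_induction_on with
  | _ n ih =>
  intro G hn hGR hBG
  by_contra hnt
  have hGp : IsPGroup p G := hR.to_le hGR
  have hmin : ∀ U : Subgroup Y, U < G → A ⊔ Q ≤ normalizer (U : Set Y) → ⁅U, Q⁆ = ⊥ := by
    intro U hU hBU
    have hlt : Nat.card U < n := by
      rw [← hn]
      rcases lt_or_eq_of_le (Subgroup.card_le_of_le hU.le) with h | h
      · exact h
      · exact absurd (Subgroup.eq_of_le_of_card_ge hU.le h.ge) hU.ne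
    exact ih _ hlt U rfl (hU.le.trans hGR) hBU
  obtain ⟨-, -, -, hexp⟩ := Cfsg.Agent.S3736.result (A ⊔ Q) Q G hGp hBG le_sup_right
    (sup_le hAQ le_normalizer) hQ hnt hmin
  have hexp' := hexp hp
  have hC : G ⊓ centralizer (A : Set Y) ≤ centralizer (Q : Set Y) := by
    rintro x ⟨hxG, hxA⟩
    have hxA' : x ∈ centralizer (A : Set Y) := hxA
    show x ∈ centralizer (Q : Set Y)
    by_cases hx1 : x = 1
    · rw [hx1]; exact Subgroup.one_mem _
    have ho : orderOf x = p := orderOf_eq_prime (hexp' x hxG) hx1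
    have hxAA : x ∈ A := hΩ x (hGR hxG) hxA' ho
    rw [mem_centralizer_iff]
    intro y hy
    exact (commute_of_mem_inf_normal R A Q hR hQ hAQ hxAA (hGR hxG) hy).symm
  have hcent : Q ≤ centralizer (G : Set Y) :=
    Cfsg.Agent.S3737.result hp A Q G hAp hQ hAQ hGp (le_sup_left.trans hBG)
      (le_sup_right.trans hBG) hC
  apply hnt
  rw [commutator_eq_bot_iff_le_centralizer, le_centralizer_iff]
  exact hcent

theorem signalizer_core (hp : p ≠ 2) (R A Q : Subgroup Y) [R.Normal] (hR : IsPGroup p R)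
    (hAp : IsPGroup p A) (hQ : (Nat.card Q).Coprime p) (hAQ : A ≤ normalizer (Q : Set Y))
    (hΩ : ∀ x ∈ R, x ∈ centralizer (A : Set Y) → orderOf x = p → x ∈ A) :
    Q ≤ centralizer (R : Set Y) := by
  have h := signalizer_core_aux hp R A Q hR hAp hQ hAQ hΩ _ R rfl le_rfl
    (by rw [normalizer_eq_top]; exact le_top)
  rw [commutator_eq_bot_iff_le_centralizer, le_centralizer_iff] at h
  exact h

end core

section quotient

variable {X : Type u} [Group X] [Finite X] {p : ℕ} [Fact p.Prime]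

/-- Lifting an element of order `p` of the image of a subgroup `C` modulo a normal `p'`-subgroup `N`
to an element of order `p` of `C`. -/
theorem exists_orderOf_eq_prime_lift (N C : Subgroup X) [N.Normal] (hN : (Nat.card N).Coprime p)
    {y : X ⧸ N} (hy : y ∈ C.map (QuotientGroup.mk' N)) (hyo : orderOf y = p) :
    ∃ x ∈ C, orderOf x = p ∧ QuotientGroup.mk' N x = y := by
  have hpp : p.Prime := Fact.out
  obtain ⟨x, hxC, rfl⟩ := hy
  have hn0 : orderOf x ≠ 0 := (orderOf_pos x).ne'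
  obtain ⟨k, m, hm, hkm⟩ := Nat.exists_eq_pow_mul_and_not_dvd hn0 p hpp.ne_one
  have hcop : Nat.Coprime m p := ((Nat.Prime.coprime_iff_not_dvd hpp).mpr hm).symm
  obtain ⟨j, -, hj⟩ := Nat.exists_mul_mod_eq_one_of_coprime hcop hpp.one_lt
  set x' := x ^ (m * j) with hx'
  have hx'C : x' ∈ C := C.pow_mem hxC _
  have hπ : QuotientGroup.mk' N x' = QuotientGroup.mk' N x := by
    rw [hx', map_pow, ← pow_mod_orderOf, hyo, hj, pow_one]
  have hx'pk : x' ^ (p ^ k) = 1 := by
    rw [hx', ← pow_mul]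
    have : m * j * p ^ k = orderOf x * j := by rw [hkm]; ring
    rw [this, pow_mul, pow_orderOf_eq_one, one_pow]
  have hx'pN : x' ^ p ∈ N := by
    rw [← QuotientGroup.eq_one_iff, ← QuotientGroup.mk'_apply, map_pow, hπ, ← hyo, pow_orderOf_eq_one]
  have hx'p : x' ^ p = 1 := by
    have h1 : orderOf (x' ^ p) ∣ p ^ k := by
      apply orderOf_dvd_of_pow_eq_one
      rw [← pow_mul, mul_comm, pow_mul, hx'pk, one_pow]
    have h2 : orderOf (x' ^ p) ∣ Nat.card N := by
      have := orderOf_dvd_natCard (⟨x' ^ p, hx'pN⟩ : N)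
      rwa [Subgroup.orderOf_mk] at this
    have h3 : orderOf (x' ^ p) ∣ Nat.gcd (p ^ k) (Nat.card N) := Nat.dvd_gcd h1 h2
    have h4 : Nat.gcd (p ^ k) (Nat.card N) = 1 := Nat.Coprime.pow_left k hN.symm
    rw [h4, Nat.dvd_one] at h3
    exact orderOf_eq_one_iff.mp h3
  have hx'1 : x' ≠ 1 := by
    intro h1
    rw [h1, map_one] at hπ
    rw [← hπ, orderOf_one] at hyo
    exact hpp.one_lt.ne hyo
  exact ⟨x', hx'C, orderOf_eq_prime hx'p hx'1, hπ⟩

/-- Let `X` be `p`-constrained, `p` odd, `A` a `p`-subgroup containing every element of order `p`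
of `C_X(A)`. Then every `A`-invariant `p'`-subgroup lies in `O_{p'}(X)`. -/
theorem signalizer_le_pPrimeCore (hp : p ≠ 2) (hX : Cfsg.IsPConstrained p X) (A : Subgroup X)
    (hAp : IsPGroup p A) (hΩ : ∀ x ∈ centralizer (A : Set X), orderOf x = p → x ∈ A)
    (Q : Subgroup X) (hQ : ¬ p ∣ Nat.card Q) (hAQ : A ≤ normalizer (Q : Set X)) :
    Q ≤ Cfsg.pPrimeCore p X := by
  have hpp : p.Prime := Fact.out
  set N := Cfsg.pPrimeCore p X with hNdef
  have hNcop : (Nat.card N).Coprime p := Cfsg.Agent.Lib.Helper33.pPrimeCore_card_coprime' p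
  have hcent := (Cfsg.Agent.Lib.Helper22.isPConstrained_iff_centralizer_le p).mp hX
  set R := Cfsg.pCore p (X ⧸ N) with hRdef
  have hRp : IsPGroup p R := Cfsg.Agent.Lib.Helper22.pCore_isPGroup' p (X ⧸ N)
  set π := QuotientGroup.mk' N with hπdef
  have hAbar : IsPGroup p (A.map π) := hAp.map π
  have hQcop : (Nat.card Q).Coprime p := ((Nat.Prime.coprime_iff_not_dvd hpp).mpr hQ).symm
  have hQbar : (Nat.card (Q.map π)).Coprime p :=
    Nat.Coprime.coprime_dvd_left (Subgroup.card_map_dvd Q π) hQcop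
  have hAQbar : A.map π ≤ normalizer ((Q.map π : Subgroup (X ⧸ N)) : Set (X ⧸ N)) :=
    (Subgroup.map_mono hAQ).trans (Subgroup.le_normalizer_map π)
  have hAsolv : Group.IsSolvable A := by
    have := hAp.isNilpotent
    infer_instance
  have hAN : (Nat.card A).Coprime (Nat.card N) := by
    obtain ⟨k, hk⟩ := IsPGroup.iff_card.mp hAp
    rw [hk]
    exact Nat.Coprime.pow_left k hNcop.symm
  have hmapC := Cfsg.Agent.Lib.Helper22.map_centralizer_mk'_of_coprime N A hAN (Or.inr hAsolv)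
  have hΩbar : ∀ y ∈ R, y ∈ centralizer ((A.map π : Subgroup (X ⧸ N)) : Set (X ⧸ N)) →
      orderOf y = p → y ∈ A.map π := by
    intro y _ hyC hyo
    rw [← hmapC] at hyC
    obtain ⟨x, hxC, hxo, hxy⟩ := exists_orderOf_eq_prime_lift N _ hNcop hyC hyo
    exact ⟨x, hΩ x hxC hxo, hxy⟩
  have hcore := signalizer_core hp R (A.map π) (Q.map π) hRp hAbar hQbar hAQbar hΩbar
  have hQR : Q.map π ≤ R := hcore.trans hcent
  have hQbot : Q.map π = ⊥ := by
    have h1 : IsPGroup p (Q.map π) := hRp.to_le hQR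
    obtain ⟨k, hk⟩ := IsPGroup.iff_card.mp h1
    rw [hk] at hQbar
    apply Subgroup.card_eq_one.mp
    rw [hk]
    rcases Nat.eq_zero_or_pos k with h0 | h0
    · rw [h0, pow_zero]
    · exfalso
      have : p ∣ Nat.gcd (p ^ k) p := Nat.dvd_gcd (dvd_pow_self p h0.ne') dvd_rfl
      rw [Nat.Coprime] at hQbar
      rw [hQbar, Nat.dvd_one] at this
      exact hpp.one_lt.ne' this
  intro x hx
  have h1 : π x ∈ Q.map π := ⟨x, hx, rfl⟩
  rw [hQbot, mem_bot] at h1
  exact (QuotientGroup.eq_one_iff x).mp h1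

end quotient

end Cfsg.Agent.Lib.Helper32
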