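import Cfsg.Agent.Lib.Helper32.TransHyp
import Cfsg.Agent.Lib.Helper24.SylowInv
import Cfsg.Agent.Lib.Helper22.Signalizer
import Cfsg.Agent.Lib.Helper33.SylowSub
import Cfsg.Prelude.Def_OddOrder

set_option autoImplicit false

/-!
# Thompson's transitivity theorem (Bender–Glauberman Theorems 7.2–7.4)
-/

namespace Cfsg.Agent.Lib.Helper32

open Subgroup Cfsg Cfsg.Agent.Lib.Helper33 Cfsg.Agent.Lib.Helper24

universe u

section general

variable {G : Type u} [Group G] [Finite G]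

theorem piCoreOf_le (π : Set ℕ) (X : Subgroup G) : piCoreOf π X ≤ X :=
  (piCoreOf_mem_invSubgroups π X X le_rfl).1

theorem isPi_piCoreOf (π : Set ℕ) (X : Subgroup G) :
    Cfsg.Agent.Lib.Helper62.IsPi π (piCoreOf π X) :=
  (piCoreOf_mem_invSubgroups π X X le_rfl).2.1

theorem le_normalizer_piCoreOf (π : Set ℕ) (X : Subgroup G) :
    X ≤ normalizer ((piCoreOf π X : Subgroup G) : Set G) :=
  (piCoreOf_mem_invSubgroups π X X le_rfl).2.2

/-- A `π`-subgroup `W ≤ X` normalized by `X` lies in `O_π(X)`. -/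
theorem le_piCoreOf {π : Set ℕ} {W X : Subgroup G} (hWX : W ≤ X)
    (hN : X ≤ normalizer (W : Set G)) (hW : Cfsg.Agent.Lib.Helper62.IsPi π W) :
    W ≤ piCoreOf π X := by
  have hn : (W.subgroupOf X).Normal := (normal_subgroupOf_iff_le_normalizer hWX).mpr hN
  have hcard : Nat.card (W.subgroupOf X) = Nat.card W :=
    Nat.card_congr (Subgroup.subgroupOfEquivOfLe hWX).toEquiv
  have hpi : Cfsg.Agent.Lib.Helper62.IsPi π (W.subgroupOf X) := by
    intro r hr hrd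
    rw [hcard] at hrd
    exact hW r hr hrd
  have h1 := Cfsg.Agent.Lib.Helper62.le_piCore hn hpi
  have h2 : (W.subgroupOf X).map X.subtype ≤ (piCore π ↥X).map X.subtype := map_mono h1
  rw [map_subgroupOf_eq_of_le hWX] at h2
  exact h2

theorem coprime_of_isPi {A W : Subgroup G}
    (hW : Cfsg.Agent.Lib.Helper62.IsPi (primesNotDvd (Nat.card A)) W) :
    (Nat.card A).Coprime (Nat.card W) :=
  Nat.coprime_of_dvd (fun k hk hkA hkW => (hW k hk hkW).2 hkA)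

/-- members of `И_X(A;π)` lie in `O_π(X)` under the transitivity hypothesis -/
theorem transHyp_le_piCoreOf {A : Subgroup G} (hA : TransitivityHypothesis A)
    {X Y : Subgroup G} (hX : X ≠ ⊤) (hAX : A ≤ X) (hYX : Y ≤ X)
    (hYπ : Cfsg.Agent.Lib.Helper62.IsPi (primesNotDvd (Nat.card A)) Y)
    (hAY : A ≤ normalizer (Y : Set G)) :
    Y ≤ piCoreOf (primesNotDvd (Nat.card A)) X := by
  rw [← hA.2.2 X hX hAX]
  exact le_sSup ⟨hYX, hYπ, hAY⟩

theorem normalizer_ne_top_of_simple [IsSimpleGroup G] {D : Subgroup G} (h0 : D ≠ ⊥) (h1 : D ≠ ⊤) :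
    normalizer (D : Set G) ≠ ⊤ := by
  intro h
  have hn : D.Normal := normalizer_eq_top_iff.mp h
  rcases hn.eq_bot_or_eq_top with h | h
  · exact h0 h
  · exact h1 h

/-- `K`-conjugacy of subgroups. -/
def KConj (K Q Q' : Subgroup G) : Prop := ∃ k ∈ K, Q' = cj k Q

omit [Finite G] in
theorem KConj.refl (K Q : Subgroup G) : KConj K Q Q := ⟨1, K.one_mem, (cj_one Q).symm⟩

omit [Finite G] in
theorem KConj.symm {K Q Q' : Subgroup G} (h : KConj K Q Q') : KConj K Q' Q := by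
  obtain ⟨k, hk, rfl⟩ := h
  exact ⟨k⁻¹, K.inv_mem hk, (cj_inv_cj k Q).symm⟩

omit [Finite G] in
theorem KConj.trans {K Q Q' Q'' : Subgroup G} (h : KConj K Q Q') (h' : KConj K Q' Q'') :
    KConj K Q Q'' := by
  obtain ⟨k, hk, rfl⟩ := h
  obtain ⟨k', hk', rfl⟩ := h'
  exact ⟨k' * k, K.mul_mem hk' hk, by rw [cj_mul]⟩

end general

section transitivity

variable {G : Type u} [Group G] [Finite G]

/-- a member of `И_G(A; q)` is a `q`-group -/
theorem isPGroup_of_mem_invSubgroups {A R : Subgroup G} {q : ℕ} (hq : q.Prime)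
    (hR : R ∈ invSubgroups ⊤ A {q}) : IsPGroup q R := by
  haveI : Fact q.Prime := ⟨hq⟩
  have h : ∀ {d : ℕ}, d.Prime → d ∣ Nat.card R → d = q := fun hd hdd => hR.2.1 _ hd hdd
  have := Nat.eq_prime_pow_of_unique_prime_dvd (Nat.card_pos (α := R)).ne' h
  exact IsPGroup.of_card this

theorem mem_invSubgroups_of_isPGroup {A R : Subgroup G} {q : ℕ} (hq : q.Prime)
    (hR : IsPGroup q R) (hAR : A ≤ normalizer (R : Set G)) : R ∈ invSubgroups ⊤ A {q} := by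
  haveI : Fact q.Prime := ⟨hq⟩
  refine ⟨le_top, ?_, hAR⟩
  intro r hr hrd
  obtain ⟨k, hk⟩ := IsPGroup.iff_card.mp hR
  rw [hk] at hrd
  exact (Nat.prime_dvd_prime_iff_eq hr hq).mp (hr.dvd_of_dvd_pow hrd)

/-- every member of `И_G(A;q)` lies in a maximal one -/
theorem exists_maxInv_ge {A R : Subgroup G} {q : ℕ} (hR : R ∈ invSubgroups ⊤ A {q}) :
    ∃ Q ∈ maxInvSubgroups ⊤ A {q}, R ≤ Q := by
  set S : Set (Subgroup G) := {Y | Y ∈ invSubgroups ⊤ A {q} ∧ R ≤ Y} with hS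
  have hne : S.Nonempty := ⟨R, hR, le_rfl⟩
  obtain ⟨M, hMS, hmax⟩ := (Set.toFinite S).exists_maximal hne
  refine ⟨M, ⟨hMS.1, ?_⟩, hMS.2⟩
  intro R' hR' hle
  exact le_antisymm (hmax ⟨hR', hMS.2.trans hle⟩ hle) hle

/-- conjugation by an element centralizing `A` preserves `И*_G(A;q)` -/
theorem cj_mem_maxInv {A Q : Subgroup G} {q : ℕ} {k : G} (hk : k ∈ centralizer (A : Set G))
    (hQ : Q ∈ maxInvSubgroups ⊤ A {q}) : cj k Q ∈ maxInvSubgroups ⊤ A {q} := by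
  have hkN : k ∈ normalizer (A : Set G) := (centralizer_le_normalizer _) hk
  have key : ∀ (g : G), g ∈ normalizer (A : Set G) → ∀ R ∈ invSubgroups ⊤ A {q},
      cj g R ∈ invSubgroups ⊤ A {q} := by
    intro g hg R hR
    refine ⟨le_top, ?_, ?_⟩
    · intro r hr hrd
      rw [card_cj] at hrd
      exact hR.2.1 r hr hrd
    · rw [normalizer_cj]
      have h1 : cj g A ≤ cj g (normalizer (R : Set G)) := cj_mono hR.2.2
      rwa [cj_eq_self_iff.mpr hg] at h1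
  refine ⟨key k hkN Q hQ.1, ?_⟩
  intro R' hR' hle
  have h1 : Q ≤ cj k⁻¹ R' := cj_le_iff.mp hle
  have h2 := hQ.2 (cj k⁻¹ R') (key k⁻¹ (inv_mem hkN) R' hR') h1
  rw [← h2, cj_cj_inv]

variable (hG : IsMinSimpleOddOrder G) {A : Subgroup G} (hA : TransitivityHypothesis A)
include hG hA

/-- `C_{O_π(X)}(A) ≤ O_π(C_G(A))` for every proper `X ≥ A`. -/
theorem centralizer_inf_piCoreOf_le {X : Subgroup G} (hX : X ≠ ⊤) (hAX : A ≤ X) :
    piCoreOf (primesNotDvd (Nat.card A)) X ⊓ centralizer (A : Set G) ≤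
      piCoreOf (primesNotDvd (Nat.card A)) (centralizer (A : Set G)) := by
  haveI : IsSimpleGroup G := hG.2.1
  set π := primesNotDvd (Nat.card A) with hπ
  set N := normalizer (A : Set G) with hN
  have hNtop : N ≠ ⊤ := normalizer_ne_top_of_simple hA.1 hA.2.1
  have hAN : A ≤ N := le_normalizer
  set D := piCoreOf π X ⊓ centralizer (A : Set G) with hD
  have hDN : D ≤ N := inf_le_right.trans (centralizer_le_normalizer _)
  have hDπ : Cfsg.Agent.Lib.Helper62.IsPi π D := (isPi_piCoreOf π X).mono inf_le_left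
  have hAD : A ≤ normalizer (D : Set G) := by
    intro a ha
    rw [mem_normalizer_iff]
    intro d
    have hcomm : ∀ b ∈ A, ∀ e ∈ D, b * e * b⁻¹ = e := by
      intro b hb e he
      have := (mem_centralizer_iff.mp he.2) b hb
      rw [this]; group
    constructor
    · intro hd; rw [hcomm a ha d hd]; exact hd
    · intro hd
      have h2 := hcomm a⁻¹ (A.inv_mem ha) _ hd
      have e : d = a * d * a⁻¹ :=
        calc d = a⁻¹ * (a * d * a⁻¹) * a⁻¹⁻¹ := by group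
          _ = a * d * a⁻¹ := h2
      rw [e]; exact hd
  have hDV : D ≤ piCoreOf π N := transHyp_le_piCoreOf hA hNtop hAN hDN hDπ hAD
  set V := piCoreOf π N with hV
  have hVN : V ≤ N := piCoreOf_le π N
  have hNV : N ≤ normalizer (V : Set G) := le_normalizer_piCoreOf π N
  have hVπ : Cfsg.Agent.Lib.Helper62.IsPi π V := isPi_piCoreOf π N
  have hVA : V ⊓ A = ⊥ :=
    (Subgroup.disjoint_of_coprime_natCard (coprime_of_isPi hVπ).symm).eq_bot
  have hVC : V ≤ centralizer (A : Set G) := by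
    intro v hv
    rw [mem_centralizer_iff]
    intro a ha
    have h1 : v * a * v⁻¹ * a⁻¹ ∈ A :=
      A.mul_mem ((mem_normalizer_iff.mp (hVN hv) a).mp ha) (A.inv_mem ha)
    have h2 : v * a * v⁻¹ * a⁻¹ ∈ V := by
      have h3 : a * v⁻¹ * a⁻¹ ∈ V :=
        (mem_normalizer_iff.mp (hNV (hAN ha)) v⁻¹).mp (V.inv_mem hv)
      have e : v * a * v⁻¹ * a⁻¹ = v * (a * v⁻¹ * a⁻¹) := by group
      rw [e]; exact V.mul_mem hv h3
    have h4 : v * a * v⁻¹ * a⁻¹ ∈ V ⊓ A := ⟨h2, h1⟩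
    rw [hVA, mem_bot] at h4
    calc a * v = (v * a * v⁻¹ * a⁻¹)⁻¹ * (v * a) := by group
      _ = v * a := by rw [h4, inv_one, one_mul]
  have hVK : V ≤ piCoreOf π (centralizer (A : Set G)) :=
    le_piCoreOf hVC ((centralizer_le_normalizer _).trans hNV) hVπ
  exact hDV.trans hVK

/-- The bridge: two `A`-invariant `q`-subgroups of a proper subgroup `X ≥ A` lie in maximal
`A`-invariant `q`-subgroups that are conjugate under `K = O_π(C_G(A))`. -/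
theorem exists_bridge {q : ℕ} (hq : q.Prime) (hqA : ¬ q ∣ Nat.card A) {X : Subgroup G}
    (hX : X ≠ ⊤) (hAX : A ≤ X) {R₁ R₂ : Subgroup G} (hR₁ : R₁ ∈ invSubgroups ⊤ A {q})
    (hR₂ : R₂ ∈ invSubgroups ⊤ A {q}) (h₁X : R₁ ≤ X) (h₂X : R₂ ≤ X) :
    ∃ Q₃ ∈ maxInvSubgroups ⊤ A {q},
      ∃ c ∈ piCoreOf (primesNotDvd (Nat.card A)) (centralizer (A : Set G)),
        R₁ ≤ Q₃ ∧ R₂ ≤ cj c Q₃ ∧ cj c Q₃ ∈ maxInvSubgroups ⊤ A {q} := by
  haveI : Fact q.Prime := ⟨hq⟩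
  set π := primesNotDvd (Nat.card A) with hπ
  have hqπ : q ∈ π := ⟨hq, hqA⟩
  have hpi : ∀ R ∈ invSubgroups ⊤ A {q}, Cfsg.Agent.Lib.Helper62.IsPi π R := by
    intro R hR r hr hrd
    have : r = q := hR.2.1 r hr hrd
    rw [this]; exact hqπ
  set W := piCoreOf π X with hW
  have hR₁W : R₁ ≤ W := transHyp_le_piCoreOf hA hX hAX h₁X (hpi R₁ hR₁) hR₁.2.2
  have hR₂W : R₂ ≤ W := transHyp_le_piCoreOf hA hX hAX h₂X (hpi R₂ hR₂) hR₂.2.2
  have hAW : A ≤ normalizer (W : Set G) := hAX.trans (le_normalizer_piCoreOf π X)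
  have hcop : (Nat.card A).Coprime (Nat.card W) := coprime_of_isPi (isPi_piCoreOf π X)
  have hsolv : Group.IsSolvable A := hG.2.2.2 A hA.2.1
  obtain ⟨P₁, hP₁, hAP₁⟩ := invariant_pSubgroup_le_sylow A W hAW hcop (Or.inl hsolv) R₁ hR₁W
    (isPGroup_of_mem_invSubgroups hq hR₁) hR₁.2.2
  obtain ⟨P₂, hP₂, hAP₂⟩ := invariant_pSubgroup_le_sylow A W hAW hcop (Or.inl hsolv) R₂ hR₂W
    (isPGroup_of_mem_invSubgroups hq hR₂) hR₂.2.2
  obtain ⟨c, hc, hcP⟩ := invariant_sylow_conj A W hAW hcop (Or.inl hsolv) P₁ P₂ hAP₁ hAP₂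
  have hcK : c ∈ piCoreOf π (centralizer (A : Set G)) :=
    centralizer_inf_piCoreOf_le hG hA hX hAX hc
  have hS₁ : ((P₁ : Subgroup W).map W.subtype) ∈ invSubgroups ⊤ A {q} :=
    mem_invSubgroups_of_isPGroup hq (sylow_map_facts W P₁).2.1 hAP₁
  obtain ⟨Q₃, hQ₃, hSQ₃⟩ := exists_maxInv_ge hS₁
  refine ⟨Q₃, hQ₃, c, hcK, hP₁.trans hSQ₃, ?_, cj_mem_maxInv hc.2 hQ₃⟩
  calc R₂ ≤ (P₂ : Subgroup W).map W.subtype := hP₂
    _ = cj c ((P₁ : Subgroup W).map W.subtype) := hcP.symm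
    _ ≤ cj c Q₃ := cj_mono hSQ₃

/-- Two maximal `A`-invariant `q`-subgroups with nontrivial intersection are `K`-conjugate. -/
theorem kconj_of_inf_ne_bot {q : ℕ} (hq : q.Prime) (hqA : ¬ q ∣ Nat.card A) (n : ℕ) :
    ∀ Q₁ ∈ maxInvSubgroups ⊤ A {q}, ∀ Q₂ ∈ maxInvSubgroups ⊤ A {q}, Q₁ ⊓ Q₂ ≠ ⊥ →
      Nat.card G - Nat.card (Q₁ ⊓ Q₂ : Subgroup G) = n →
      KConj (piCoreOf (primesNotDvd (Nat.card A)) (centralizer (A : Set G))) Q₁ Q₂ := by
  haveI : IsSimpleGroup G := hG.2.1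
  haveI : Fact q.Prime := ⟨hq⟩
  induction n using Nat.strong_induction_on with
  | _ n ih =>
  intro Q₁ hQ₁ Q₂ hQ₂ hne hn
  set K := piCoreOf (primesNotDvd (Nat.card A)) (centralizer (A : Set G)) with hK
  set D := Q₁ ⊓ Q₂ with hD
  by_cases hD1 : D = Q₁
  · have hle : Q₁ ≤ Q₂ := hD1 ▸ inf_le_right
    have := hQ₁.2 Q₂ hQ₂.1 hle
    rw [this]; exact KConj.refl K Q₁
  by_cases hD2 : D = Q₂
  · have hle : Q₂ ≤ Q₁ := hD2 ▸ inf_le_left
    have := hQ₂.2 Q₁ hQ₁.1 hle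
    rw [this]; exact KConj.refl K Q₂
  have hDlt₁ : D < Q₁ := lt_of_le_of_ne inf_le_left hD1
  have hDlt₂ : D < Q₂ := lt_of_le_of_ne inf_le_right hD2
  have hQ₁p : IsPGroup q Q₁ := isPGroup_of_mem_invSubgroups hq hQ₁.1
  have hQ₂p : IsPGroup q Q₂ := isPGroup_of_mem_invSubgroups hq hQ₂.1
  have hN₁ : D < Q₁ ⊓ normalizer (D : Set G) := normalizer_growth hQ₁p hDlt₁
  have hN₂ : D < Q₂ ⊓ normalizer (D : Set G) := normalizer_growth hQ₂p hDlt₂
  have hAD : A ≤ normalizer (D : Set G) := by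
    intro a ha
    rw [← cj_eq_self_iff, hD, cj_inf, cj_eq_self_iff.mpr (hQ₁.1.2.2 ha),
      cj_eq_self_iff.mpr (hQ₂.1.2.2 ha)]
  have hDtop : D ≠ ⊤ := fun h => by
    rw [h] at hDlt₁
    exact not_top_lt hDlt₁
  have hXtop : normalizer (D : Set G) ≠ ⊤ := normalizer_ne_top_of_simple hne hDtop
  have hN₁I : Q₁ ⊓ normalizer (D : Set G) ∈ invSubgroups ⊤ A {q} := by
    apply mem_invSubgroups_of_isPGroup hq (hQ₁p.to_le inf_le_left)
    rw [inf_comm]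
    exact Cfsg.Agent.Lib.Helper22.le_normalizer_normalizer_inf A D Q₁ hAD hQ₁.1.2.2
  have hN₂I : Q₂ ⊓ normalizer (D : Set G) ∈ invSubgroups ⊤ A {q} := by
    apply mem_invSubgroups_of_isPGroup hq (hQ₂p.to_le inf_le_left)
    rw [inf_comm]
    exact Cfsg.Agent.Lib.Helper22.le_normalizer_normalizer_inf A D Q₂ hAD hQ₂.1.2.2
  obtain ⟨Q₃, hQ₃, c, hcK, h13, h24, hQ₄⟩ := exists_bridge hG hA hq hqA hXtop hAD hN₁I hN₂I
    inf_le_right inf_le_right
  have hcardlt : ∀ E : Subgroup G, D < E → Nat.card G - Nat.card E < n := by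
    intro E hE
    have h1 : Nat.card D < Nat.card E := by
      rcases lt_or_eq_of_le (Subgroup.card_le_of_le hE.le) with h | h
      · exact h
      · exact absurd (Subgroup.eq_of_le_of_card_ge hE.le h.ge) hE.ne
    have h2 : Nat.card E ≤ Nat.card G := Subgroup.card_le_card_group E
    omega
  -- Q₁ ~ Q₃
  have hD13 : D < Q₁ ⊓ Q₃ := lt_of_lt_of_le hN₁ (le_inf inf_le_left h13)
  have hc13 : KConj K Q₁ Q₃ :=
    ih _ (hcardlt _ hD13) Q₁ hQ₁ Q₃ hQ₃ (ne_bot_of_gt hD13) rfl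
  -- Q₄ ~ Q₂
  have hD42 : D < cj c Q₃ ⊓ Q₂ := lt_of_lt_of_le hN₂ (le_inf h24 inf_le_left)
  have hc42 : KConj K (cj c Q₃) Q₂ :=
    ih _ (hcardlt _ hD42) (cj c Q₃) hQ₄ Q₂ hQ₂ (ne_bot_of_gt hD42) rfl
  exact (hc13.trans ⟨c, hcK, rfl⟩).trans hc42

/-- Bender–Glauberman Theorem 7.2. -/
theorem transitivity_72 {q : ℕ} (hq : q.Prime) (hqA : ¬ q ∣ Nat.card A)
    {Q₁ Q₂ : Subgroup G} (h₁ : Q₁ ∈ maxInvSubgroups ⊤ A {q}) (h₂ : Q₂ ∈ maxInvSubgroups ⊤ A {q})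
    {H : Subgroup G} (hH : H ≠ ⊤) (hAH : A ≤ H) (hH₁ : H ⊓ Q₁ ≠ ⊥) (hH₂ : H ⊓ Q₂ ≠ ⊥) :
    KConj (piCoreOf (primesNotDvd (Nat.card A)) (centralizer (A : Set G))) Q₁ Q₂ := by
  haveI : Fact q.Prime := ⟨hq⟩
  have hQ₁p : IsPGroup q Q₁ := isPGroup_of_mem_invSubgroups hq h₁.1
  have hQ₂p : IsPGroup q Q₂ := isPGroup_of_mem_invSubgroups hq h₂.1
  have hAHn : A ≤ normalizer (H : Set G) := hAH.trans le_normalizer
  have hinv : ∀ Q : Subgroup G, A ≤ normalizer (Q : Set G) →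
      A ≤ normalizer ((H ⊓ Q : Subgroup G) : Set G) := by
    intro Q hQ a ha
    rw [← cj_eq_self_iff, cj_inf, cj_eq_self_iff.mpr (hAHn ha), cj_eq_self_iff.mpr (hQ ha)]
  have hR₁ : H ⊓ Q₁ ∈ invSubgroups ⊤ A {q} :=
    mem_invSubgroups_of_isPGroup hq (hQ₁p.to_le inf_le_right) (hinv Q₁ h₁.1.2.2)
  have hR₂ : H ⊓ Q₂ ∈ invSubgroups ⊤ A {q} :=
    mem_invSubgroups_of_isPGroup hq (hQ₂p.to_le inf_le_right) (hinv Q₂ h₂.1.2.2)
  obtain ⟨Q₃, hQ₃, c, hcK, h13, h24, hQ₄⟩ := exists_bridge hG hA hq hqA hH hAH hR₁ hR₂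
    inf_le_left inf_le_left
  have hne13 : Q₁ ⊓ Q₃ ≠ ⊥ := by
    intro h
    apply hH₁
    rw [eq_bot_iff, ← h]
    exact le_inf inf_le_right h13
  have hne42 : cj c Q₃ ⊓ Q₂ ≠ ⊥ := by
    intro h
    apply hH₂
    rw [eq_bot_iff, ← h]
    exact le_inf h24 inf_le_right
  have hc13 := kconj_of_inf_ne_bot hG hA hq hqA _ Q₁ h₁ Q₃ hQ₃ hne13 rfl
  have hc42 := kconj_of_inf_ne_bot hG hA hq hqA _ (cj c Q₃) hQ₄ Q₂ h₂ hne42 rfl
  exact (hc13.trans ⟨c, hcK, rfl⟩).trans hc42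

end transitivity

end Cfsg.Agent.Lib.Helper32
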