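import Cfsg.Agent.Lib.Helper32.BG95Sig
import Cfsg.Agent.Lib.Helper56.BG95Hub
import Cfsg.Agent.Lib.Helper64.BG95Asm2
import Cfsg.Agent.Lib.Helper23.BG95NoHub
import Cfsg.Agent.Lib.Helper50.Linking

/-!
# BG Lemma 9.5: final assembly modulo `exists_E` and `linking`  -- helper32
-/

set_option autoImplicit false
set_option linter.style.haveILetI false

namespace Cfsg.Agent.Lib.Helper32.BG95

open Cfsg Subgroup

universe u

variable {G : Type u} [Group G] [Finite G]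

/-- `hub_sig` modulo `exists_E`. -/
theorem hub_sig_of (hG : Cfsg.IsMinSimpleOddOrder G) {p : ℕ} [Fact p.Prime] (P : Sylow p G)
    {A : Subgroup G} (hA : Cfsg.IsSCN (P : Subgroup G) A) (hA3 : ¬ Cfsg.PRankLE p 2 ↥A)
    (hExE : ∀ {H : Subgroup G}, IsCoatom H → A ≤ H → ∀ {t : ℕ}, t.Prime → t ≠ p →
      ¬ Cfsg.PRankLE t 2 ↥(Cfsg.fittingOf H) →
      ∃ E : Subgroup G, E ≤ H ∧ H ≤ normalizer (E : Set G) ∧ IsPGroup t E ∧
        (∀ x ∈ E, x ^ t = 1) ∧ ¬ IsCyclic E ∧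
        ∀ U : Subgroup G, U ≤ E → ¬ IsCyclic U → ∀ M, IsCoatom M → U ≤ M → M = H)
    {H : Subgroup G} (hH : IsCoatom H) (hAH : A ≤ H) {t : ℕ} (ht : t.Prime) (htp : t ≠ p)
    (hHt : ¬ Cfsg.PRankLE t 2 ↥(Cfsg.fittingOf H))
    (hother : ∀ M : Subgroup G, IsCoatom M → A ≤ M → M ≠ H → ⁅M, M⁆ ≤ Cfsg.fittingOf M) :
    ∀ s : ℕ, s.Prime → s ≠ p → ∀ S ∈ Cfsg.maxInvSubgroups ⊤ A {s}, S ≤ H := by
  haveI : Fact t.Prime := ⟨ht⟩
  have hp : p.Prime := Fact.out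
  have hAp : IsPGroup p A := scn_isPGroup P hA
  have hAc := scn_comm P hA
  have hAcm : IsMulCommutative A := Cfsg.Agent.Lib.Helper64.BG9.scn_abelian hA
  have hTrans : Cfsg.TransitivityHypothesis A := scn_transHyp hG P hA hA3
  obtain ⟨n, hn⟩ := IsPGroup.iff_card.mp hAp
  have htA : ¬ t ∣ Nat.card A := by
    rw [hn]
    intro h
    exact htp ((Nat.prime_dvd_prime_iff_eq ht hp).mp (ht.dvd_of_dvd_pow h))
  obtain ⟨B, hBA, hBe, hB3⟩ := Cfsg.Agent.Lib.Helper56.BG95.exists_elemAb_of_not_pRankLE hA3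
  obtain ⟨E, hEH, hEn, hEt, hEe, hEnc, hU⟩ := hExE hH hAH ht htp hHt
  have hU' : ∀ B' H' : Subgroup G, B' ≤ E → ¬ IsCyclic B' → B' ≤ H' → H' ≠ ⊤ → H' ≤ H := by
    intro B' H' hB' hnc hBH hH'
    obtain ⟨X, hX, hHX⟩ := Cfsg.Agent.Lib.Helper64.BG9.exists_coatom_ge hH'
    have := hU B' hB' hnc X hX (hBH.trans hHX)
    exact this ▸ hHX
  have hCH : centralizer (A : Set G) ≤ H :=
    Cfsg.Agent.Lib.Helper64.centralizer_le_of_uniq hG (Ne.symm htp) hBA hBe hB3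
      (hAH.trans hEn) hEt hEe hEnc hU'
  have hinf : A ⊓ centralizer (A : Set G) = A :=
    inf_of_le_left (Cfsg.Agent.Lib.Helper64.BG9.self_le_centralizer hAcm)
  have hZ : ¬ Cfsg.RankLE 2 ↥(A ⊓ centralizer (A : Set G)) := by
    rw [hinf]
    intro h
    exact hA3 (h p hp)
  have hKC : Cfsg.piCoreOf (Cfsg.primesNotDvd (Nat.card A)) (centralizer (A : Set G)) ≤
      centralizer (A : Set G) := Subgroup.map_subtype_le _
  have hKH := hKC.trans hCH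
  have hI := Cfsg.Agent.Lib.Helper47.BG95.inv_pSubgroup_le hG hTrans hZ ht htA hKH hEt
      (hAH.trans hEn) (fun H' hEH' hH' => hU' E H' le_rfl hEnc hEH' hH')
  exact hub_sig_of_E hG hAc hA3 hH hAH htp hEn hEe hEnc hU hI hother

/-- **BG Lemma 9.5** modulo `exists_E` and `linking`. -/
theorem bg95_of_E_link (hG : Cfsg.IsMinSimpleOddOrder G) {p : ℕ} [Fact p.Prime] (P : Sylow p G)
    {A : Subgroup G} (hA : Cfsg.IsSCN (P : Subgroup G) A) (hA3 : ¬ Cfsg.PRankLE p 2 ↥A)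
    (hExE : ∀ {H : Subgroup G}, IsCoatom H → A ≤ H → ∀ {t : ℕ}, t.Prime → t ≠ p →
      ¬ Cfsg.PRankLE t 2 ↥(Cfsg.fittingOf H) →
      ∃ E : Subgroup G, E ≤ H ∧ H ≤ normalizer (E : Set G) ∧ IsPGroup t E ∧
        (∀ x ∈ E, x ^ t = 1) ∧ ¬ IsCyclic E ∧
        ∀ U : Subgroup G, U ≤ E → ¬ IsCyclic U → ∀ M, IsCoatom M → U ≤ M → M = H)
    (hLink : ∀ {t1 t2 : ℕ}, t1.Prime → t2.Prime → p ≠ t1 → p ≠ t2 → t1 ≠ t2 →
      ∀ (B M1 M2 Z1 Z2 : Subgroup G), B ≤ A → Cfsg.IsElementaryAbelian p B →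
      p ^ 3 ≤ Nat.card B →
      centralizer (A : Set G) ≤ M1 → centralizer (A : Set G) ≤ M2 →
      M1 ≤ normalizer (Z1 : Set G) → IsPGroup t1 Z1 → (∀ x ∈ Z1, x ^ t1 = 1) → ¬ IsCyclic Z1 →
      (∀ B' H' : Subgroup G, B' ≤ Z1 → ¬ IsCyclic B' → B' ≤ H' → H' ≠ ⊤ → H' ≤ M1) →
      (∀ N : Subgroup G, IsPGroup t1 N → A ≤ normalizer (N : Set G) → N ≤ M1) →
      M2 ≤ normalizer (Z2 : Set G) → IsPGroup t2 Z2 → (∀ x ∈ Z2, x ^ t2 = 1) → ¬ IsCyclic Z2 →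
      (∀ B' H' : Subgroup G, B' ≤ Z2 → ¬ IsCyclic B' → B' ≤ H' → H' ≠ ⊤ → H' ≤ M2) →
      (∀ N : Subgroup G, IsPGroup t2 N → A ≤ normalizer (N : Set G) → N ≤ M2) →
      Z1 ≤ M2 ∨ Z2 ≤ M1) :
    Cfsg.InUniqueMaximal A := by
  apply Cfsg.Agent.Lib.Helper64.bg95_of_hub hG P hA hA3
  · intro H L hH hL hAH hAL t s ht hs htp hsp hHt hLs
    haveI : Fact t.Prime := ⟨ht⟩
    haveI : Fact s.Prime := ⟨hs⟩
    exact Cfsg.Agent.Lib.Helper56.BG95.hub_unique_of hG P hA hA3 hExE hLink hH hL hAH hAL htp hsp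
      hHt hLs
  · intro H hH hAH t ht htp hHt hother
    exact hub_sig_of hG P hA hA3 hExE hH hAH ht htp hHt hother
  · exact Cfsg.Agent.Lib.Helper23.BG95.no_hub hG P hA hA3

/-- **BG Lemma 9.5** modulo `exists_E`. -/
theorem bg95_of_E (hG : Cfsg.IsMinSimpleOddOrder G) {p : ℕ} [Fact p.Prime] (P : Sylow p G)
    {A : Subgroup G} (hA : Cfsg.IsSCN (P : Subgroup G) A) (hA3 : ¬ Cfsg.PRankLE p 2 ↥A)
    (hExE : ∀ {H : Subgroup G}, IsCoatom H → A ≤ H → ∀ {t : ℕ}, t.Prime → t ≠ p →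
      ¬ Cfsg.PRankLE t 2 ↥(Cfsg.fittingOf H) →
      ∃ E : Subgroup G, E ≤ H ∧ H ≤ normalizer (E : Set G) ∧ IsPGroup t E ∧
        (∀ x ∈ E, x ^ t = 1) ∧ ¬ IsCyclic E ∧
        ∀ U : Subgroup G, U ≤ E → ¬ IsCyclic U → ∀ M, IsCoatom M → U ≤ M → M = H) :
    Cfsg.InUniqueMaximal A := by
  have hAp : IsPGroup p A := scn_isPGroup P hA
  have hAcm : IsMulCommutative A := Cfsg.Agent.Lib.Helper64.BG9.scn_abelian hA
  have hTrans : Cfsg.TransitivityHypothesis A := scn_transHyp hG P hA hA3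
  apply bg95_of_E_link hG P hA hA3 hExE
  intro t1 t2 ht1 ht2 h1 h2 h3 B M1 M2 Z1 Z2 hBA hB hB3
  haveI := Fact.mk ht1
  haveI := Fact.mk ht2
  exact Cfsg.Agent.Lib.Helper50.linking hG h1 h2 h3 A B hAp hAcm hTrans hBA hB hB3 M1 M2 Z1 Z2

end Cfsg.Agent.Lib.Helper32.BG95
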