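import Mathlib
import Cfsg.Agent.Lib.Helper32.Rank2Fit
import Cfsg.Agent.Lib.Helper62.Subnormal
import Cfsg.Prelude.Def_OddOrderLocal

set_option autoImplicit false
set_option linter.style.haveILetI false

namespace Cfsg.Agent.Lib.Helper32.FitDer

open Subgroup Cfsg
open scoped commutatorElement

/-- `g` is a `π`-element for `π = {q | p < q}` -/
def IsBigElt {G : Type*} [Group G] (p : ℕ) (g : G) : Prop :=
  ∀ r : ℕ, r.Prime → r ∣ orderOf g → p < r

/-- `g` is a `π'`-element for `π = {q | p < q}` -/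
def IsSmallElt {G : Type*} [Group G] (p : ℕ) (g : G) : Prop :=
  ∀ r : ℕ, r.Prime → r ∣ orderOf g → r ≤ p

theorem eq_one_of_isBigElt_of_isSmallElt {G : Type*} [Group G] {p : ℕ} {g : G}
    (h1 : IsBigElt p g) (h2 : IsSmallElt p g) : g = 1 := by
  rw [← orderOf_eq_one_iff]
  by_contra hne
  obtain ⟨r, hr, hrd⟩ := Nat.exists_prime_and_dvd hne
  have := h1 r hr hrd
  have := h2 r hr hrd
  omega

theorem IsBigElt.pow {G : Type*} [Group G] {p : ℕ} {g : G} (h : IsBigElt p g) (n : ℕ) :
    IsBigElt p (g ^ n) :=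
  fun r hr hrd => h r hr (hrd.trans (orderOf_pow_dvd n))

/-- the `π`-torsion subgroup of a commutative group -/
def bigTorsion (A : Type*) [CommGroup A] (p : ℕ) : Subgroup A where
  carrier := {a | IsBigElt p a}
  one_mem' := by
    intro r hr hrd
    rw [orderOf_one] at hrd
    exact absurd (Nat.dvd_one.1 hrd) hr.ne_one
  mul_mem' := by
    intro a b ha hb r hr hrd
    have h1 : orderOf (a * b) ∣ orderOf a * orderOf b :=
      ((Commute.all a b).orderOf_mul_dvd_lcm).trans (Nat.lcm_dvd_mul _ _)
    rcases (Nat.Prime.dvd_mul hr).1 (hrd.trans h1) with h | h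
    · exact ha r hr h
    · exact hb r hr h
  inv_mem' := by
    intro a ha r hr hrd
    rw [orderOf_inv] at hrd
    exact ha r hr hrd

section tower

variable {G : Type*} [Group G] [Finite G]

/-- the product of the `O_r(G)` for `r ≤ p` -/
def smallFit (G : Type*) [Group G] (p : ℕ) : Subgroup G :=
  ⨆ (r : Nat.Primes) (_ : (r : ℕ) ≤ p), pCore (r : ℕ) G

instance smallFit_normal (p : ℕ) : (smallFit G p).Normal := by
  unfold smallFit
  infer_instance

omit [Finite G] in
theorem pCore_le_smallFit {p r : ℕ} (hr : r.Prime) (hrp : r ≤ p) : pCore r G ≤ smallFit G p :=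
  le_iSup₂ (f := fun (r : Nat.Primes) (_ : (r : ℕ) ≤ p) => pCore (r : ℕ) G) ⟨r, hr⟩ hrp

theorem smallFit_le_fitting (p : ℕ) : smallFit G p ≤ fittingSubgroup G := by
  apply iSup₂_le
  intro r _
  haveI : Fact (r : ℕ).Prime := ⟨r.2⟩
  exact Cfsg.Agent.Lib.Helper54.pCore_le_fittingSubgroup (r : ℕ)

theorem isSmallElt_of_mem_smallFit {p : ℕ} {a : G} (ha : a ∈ smallFit G p) : IsSmallElt p a := by
  have hle : smallFit G p ≤ piCore {r | r.Prime ∧ r ≤ p} G := by
    apply iSup₂_le
    intro r hrp
    haveI : Fact (r : ℕ).Prime := ⟨r.2⟩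
    apply Cfsg.Agent.Lib.Helper62.le_piCore inferInstance
    intro s hs hsd
    obtain ⟨n, hn⟩ := IsPGroup.iff_card.1 (Cfsg.Agent.Lib.Helper55.pCore_isPGroup (G := G) (r : ℕ))
    rw [hn] at hsd
    have : s = (r : ℕ) := (Nat.prime_dvd_prime_iff_eq hs r.2).1 (hs.dvd_of_dvd_pow hsd)
    exact ⟨hs, this ▸ hrp⟩
  intro s hs hsd
  have h1 := Cfsg.Agent.Lib.Helper62.isPi_piCore (G := G) {r | r.Prime ∧ r ≤ p} s hs
    (hsd.trans (Subgroup.orderOf_dvd_natCard _ (hle ha)))
  exact h1.2

theorem mem_smallFit_of_isSmallElt {p : ℕ} {y : G} (hy : y ∈ fittingSubgroup G)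
    (hs : IsSmallElt p y) : y ∈ smallFit G p := by
  apply mem_of_forall_primary' _ y
  rintro x hx ⟨q, k, hq, hqy, hxk⟩
  haveI : Fact q.Prime := ⟨hq⟩
  have hxF : x ∈ fittingSubgroup G := (zpowers_le.2 hy) hx
  exact pCore_le_smallFit hq (hs q hq hqy)
    (Cfsg.Agent.Lib.Helper21.bl_mem_pCore_of_mem_fitting hxF hxk)

variable (hDF : commutator G ≤ fittingSubgroup G)
  (hcentr : ∀ r q : ℕ, r.Prime → q.Prime → r < q → ∀ (x : G) (k : ℕ), x ^ (q ^ k) = 1 →
    x ∈ centralizer (pCore r G : Set G))

include hcentr in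
theorem mem_centralizer_smallFit_of_isBigElt {p : ℕ} {g : G} (hg : IsBigElt p g) :
    g ∈ centralizer (smallFit G p : Set G) := by
  have hle : smallFit G p ≤ centralizer ({g} : Set G) := by
    apply iSup₂_le
    intro r hrp a ha
    rw [Subgroup.mem_centralizer_singleton_iff]
    have hg' : g ∈ centralizer (pCore (r : ℕ) G : Set G) := by
      apply mem_of_forall_primary' _ g
      rintro x _ ⟨q, k, hq, hqg, hxk⟩
      exact hcentr r q r.2 hq (lt_of_le_of_lt hrp (hg q hq hqg)) x k hxk
    exact Subgroup.mem_centralizer_iff.1 hg' a ha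
  rw [Subgroup.mem_centralizer_iff]
  intro a ha
  have := hle ha
  rw [Subgroup.mem_centralizer_singleton_iff] at this
  exact this

/-- the ambient subgroup in which the Hall subgroup is found -/
def towerAmbient (G : Type*) [Group G] (p : ℕ) : Subgroup G :=
  centralizer (smallFit G p : Set G) ⊓ (bigTorsion (Abelianization G) p).comap Abelianization.of

omit [Finite G] in
theorem mem_towerAmbient {p : ℕ} {g : G} : g ∈ towerAmbient G p ↔
    g ∈ centralizer (smallFit G p : Set G) ∧ IsBigElt p (Abelianization.of g) := Iff.rfl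

/-- the central subgroup of the ambient group -/
def towerCentral (G : Type*) [Group G] (p : ℕ) : Subgroup ↥(towerAmbient G p) :=
  (smallFit G p).subgroupOf (towerAmbient G p)

omit [Finite G] in
theorem towerCentral_le_center (p : ℕ) :
    towerCentral G p ≤ center ↥(towerAmbient G p) := by
  intro z hz
  rw [Subgroup.mem_center_iff]
  intro x
  apply Subtype.ext
  rw [Subgroup.coe_mul, Subgroup.coe_mul]
  have h1 : (z : G) ∈ smallFit G p := Subgroup.mem_subgroupOf.1 hz
  have h2 : (x : G) ∈ centralizer (smallFit G p : Set G) := x.2.1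
  exact (Subgroup.mem_centralizer_iff.1 h2 _ h1).symm

open scoped IsMulCommutative in
/-- the transfer into the central subgroup, a power map -/
noncomputable def towerHom (G : Type*) [Group G] [Finite G] (p : ℕ) :
    ↥(towerAmbient G p) →* center ↥(towerAmbient G p) :=
  MonoidHom.transfer (Subgroup.inclusion (towerCentral_le_center (G := G) p))

open scoped IsMulCommutative in
theorem towerHom_apply (p : ℕ) (x : ↥(towerAmbient G p)) :
    ((towerHom G p x : center ↥(towerAmbient G p)) : ↥(towerAmbient G p)) =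
      x ^ (towerCentral G p).index ∧ x ^ (towerCentral G p).index ∈ towerCentral G p := by
  have key : ∀ (k : ℕ) (g₀ : ↥(towerAmbient G p)),
      g₀⁻¹ * x ^ k * g₀ ∈ towerCentral G p → g₀⁻¹ * x ^ k * g₀ = x ^ k := by
    intro k g₀ hk
    have hc := Subgroup.mem_center_iff.1 (towerCentral_le_center p hk) g₀
    calc g₀⁻¹ * x ^ k * g₀ = g₀ * (g₀⁻¹ * x ^ k * g₀) * g₀⁻¹ := by rw [hc]; group
      _ = x ^ k := by group
  have h := MonoidHom.transfer_eq_pow
    (Subgroup.inclusion (towerCentral_le_center (G := G) p)) x key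
  refine ⟨?_, MonoidHom.transfer_eq_pow_aux x key⟩
  unfold towerHom
  rw [h]
  rfl

include hDF in
/-- the index of the central subgroup is a `π`-number -/
theorem lt_of_dvd_index_towerCentral {p r : ℕ} (hr : r.Prime)
    (hrd : r ∣ (towerCentral G p).index) : p < r := by
  by_contra hle
  push Not at hle
  haveI : Fact r.Prime := ⟨hr⟩
  haveI : (towerCentral G p).Normal := by unfold towerCentral; infer_instance
  rw [Subgroup.index_eq_card] at hrd
  obtain ⟨xb, hxb⟩ := exists_prime_orderOf_dvd_card' r hrd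
  obtain ⟨x, rfl⟩ := QuotientGroup.mk_surjective xb
  have hxr : x ^ r ∈ towerCentral G p := by
    rw [← QuotientGroup.eq_one_iff, QuotientGroup.mk_pow]
    have := pow_orderOf_eq_one (x : ↥(towerAmbient G p) ⧸ towerCentral G p)
    rwa [hxb] at this
  have hxn : x ∉ towerCentral G p := by
    intro h
    have : (x : ↥(towerAmbient G p) ⧸ towerCentral G p) = 1 := (QuotientGroup.eq_one_iff _).2 h
    rw [this, orderOf_one] at hxb
    exact hr.one_lt.ne hxb
  -- pass to `G`
  have hgA : ((x : G)) ^ r ∈ smallFit G p := by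
    have := Subgroup.mem_subgroupOf.1 hxr
    simpa using this
  have hbig : IsBigElt p (Abelianization.of (x : G)) := x.2.2
  set n := orderOf (Abelianization.of (x : G)) with hn
  have hgn : (x : G) ^ n ∈ fittingSubgroup G := by
    apply hDF
    rw [← Abelianization.ker_of, MonoidHom.mem_ker, map_pow, hn, pow_orderOf_eq_one]
  have hcop : r.Coprime n := by
    rw [Nat.Prime.coprime_iff_not_dvd hr]
    intro hrn
    have := hbig r hr hrn
    omega
  have hgF : (x : G) ∈ fittingSubgroup G :=
    Cfsg.Agent.Lib.Helper24.mem_of_pow_mem_of_coprime _ _ hcop (smallFit_le_fitting p hgA) hgn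
  have hsmall : IsSmallElt p (x : G) := by
    intro s hs hsd
    have h1 : orderOf (x : G) ∣ r * orderOf ((x : G) ^ r) := by
      apply orderOf_dvd_of_pow_eq_one
      rw [pow_mul, pow_orderOf_eq_one]
    rcases (Nat.Prime.dvd_mul hs).1 (hsd.trans h1) with h | h
    · rw [(Nat.prime_dvd_prime_iff_eq hs hr).1 h]; exact hle
    · exact isSmallElt_of_mem_smallFit hgA s hs h
  exact hxn (Subgroup.mem_subgroupOf.2 (mem_smallFit_of_isSmallElt hgF hsmall))

/-- the Hall subgroup -/
noncomputable def towerHall (G : Type*) [Group G] [Finite G] (p : ℕ) : Subgroup G :=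
  (towerHom G p).ker.map (towerAmbient G p).subtype

include hDF hcentr in
theorem mem_towerHall_iff {p : ℕ} (g : G) : g ∈ towerHall G p ↔ IsBigElt p g := by
  constructor
  · rintro ⟨x, hx, rfl⟩
    have h1 := (towerHom_apply p x).1
    rw [MonoidHom.mem_ker.1 hx] at h1
    have h2 : ((x : G)) ^ (towerCentral G p).index = 1 := by
      have := congrArg (fun y : ↥(towerAmbient G p) => (y : G)) h1
      simpa using this.symm
    intro r hr hrd
    exact lt_of_dvd_index_towerCentral hDF hr (hrd.trans (orderOf_dvd_of_pow_eq_one h2))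
  · intro hg
    have hgC := mem_centralizer_smallFit_of_isBigElt hcentr hg
    have hgT : IsBigElt p (Abelianization.of g) :=
      fun r hr hrd => hg r hr (hrd.trans (orderOf_map_dvd _ g))
    have hgA : g ∈ towerAmbient G p := mem_towerAmbient.2 ⟨hgC, hgT⟩
    refine ⟨⟨g, hgA⟩, ?_, rfl⟩
    show towerHom G p ⟨g, hgA⟩ = 1
    apply Subtype.ext
    obtain ⟨h1, h2⟩ := towerHom_apply p (⟨g, hgA⟩ : ↥(towerAmbient G p))
    rw [h1]
    have h3 : g ^ (towerCentral G p).index ∈ smallFit G p := by
      have := Subgroup.mem_subgroupOf.1 h2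
      simpa using this
    have h4 : g ^ (towerCentral G p).index = 1 :=
      eq_one_of_isBigElt_of_isSmallElt (hg.pow _) (isSmallElt_of_mem_smallFit h3)
    apply Subtype.ext
    simpa using h4

include hDF hcentr in
/-- **Sylow tower, part (c).** -/
theorem exists_characteristic_hall (p : ℕ) :
    ∃ N : Subgroup G, N.Characteristic ∧ Cfsg.IsPiHall {q | q.Prime ∧ p < q} N := by
  refine ⟨towerHall G p, ?_, ?_, ?_⟩
  · rw [Subgroup.characteristic_iff_map_le]
    rintro φ _ ⟨x, hx, rfl⟩
    have hx' : x ∈ towerHall G p := hx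
    rw [mem_towerHall_iff hDF hcentr] at hx' ⊢
    intro r hr hrd
    apply hx' r hr
    rw [MulEquiv.coe_toMonoidHom, MulEquiv.orderOf_eq] at hrd
    exact hrd
  · intro r hr hrd
    haveI : Fact r.Prime := ⟨hr⟩
    obtain ⟨x, hx⟩ := exists_prime_orderOf_dvd_card' r hrd
    have hxb := (mem_towerHall_iff hDF hcentr (x : G)).1 x.2
    refine ⟨hr, hxb r hr ?_⟩
    rw [Subgroup.orderOf_coe, hx]
  · rintro r hr ⟨_, hpr⟩
    haveI : Fact r.Prime := ⟨hr⟩
    let S : Sylow r G := default
    have hSN : (S : Subgroup G) ≤ towerHall G p := by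
      intro x hx
      rw [mem_towerHall_iff hDF hcentr]
      obtain ⟨k, hk⟩ := S.2 ⟨x, hx⟩
      have hk' : x ^ (r ^ k) = 1 := by
        have := congrArg Subtype.val hk
        simpa using this
      intro s hs hsd
      have : s ∣ r ^ k := hsd.trans (orderOf_dvd_of_pow_eq_one hk')
      rw [(Nat.prime_dvd_prime_iff_eq hs hr).1 (hs.dvd_of_dvd_pow this)]
      exact hpr
    intro hdvd
    exact S.not_dvd_index (hdvd.trans (Subgroup.index_dvd_of_le hSN))

end tower

end Cfsg.Agent.Lib.Helper32.FitDer
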