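import Mathlib
import Cfsg.Prelude.Def_OddOrderLocal
import Cfsg.Agent.S1399
import Cfsg.Agent.S1400
import Cfsg.Agent.S1401
import Cfsg.Agent.S1443
import Cfsg.Agent.Lib.Helper64.BG9c
import Cfsg.Agent.Lib.Helper23.LargeFitD
import Cfsg.Agent.Lib.Helper10.Thompson

/-!
# Bender–Glauberman Lemma 9.5, part A  -- helper32

Basic tools about uniqueness subgroups and the lemma `t1`: a coprime operator group `D` with
noncyclic fixed points on a `t`-group `R` of rank at least three (inside a maximal subgroup `H`,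
all abelian `t`-subgroups of rank three being uniqueness subgroups) centralizes a uniqueness
subgroup whose maximal subgroup is `H`.
-/

set_option autoImplicit false
set_option linter.style.haveILetI false
set_option linter.unusedSectionVars false

namespace Cfsg.Agent.Lib.Helper32.BG95

open Subgroup Cfsg

variable {G : Type*} [Group G] [Finite G]

/-- uniqueness subgroups: overgroups -/
theorem unique_mono {X Y : Subgroup G} (hX : InUniqueMaximal X) (hXY : X ≤ Y) (hY : Y ≠ ⊤) :
    InUniqueMaximal Y := by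
  obtain ⟨M, ⟨hM, hXM⟩, huniq⟩ := hX
  obtain ⟨M', hM', hYM'⟩ := Cfsg.Agent.Lib.Helper64.BG9.exists_coatom_ge hY
  have hMM' : M' = M := huniq M' ⟨hM', hXY.trans hYM'⟩
  refine ⟨M, ⟨hM, hMM' ▸ hYM'⟩, ?_⟩
  rintro M'' ⟨h1, h2⟩
  exact huniq M'' ⟨h1, hXY.trans h2⟩

/-- if `B` is a uniqueness subgroup inside the maximal subgroup `H`, every proper overgroup of `B`
lies in `H` -/
theorem le_of_unique {B H X : Subgroup G} (hB : InUniqueMaximal B) (hH : IsCoatom H)
    (hBH : B ≤ H) (hX : X ≠ ⊤) (hBX : B ≤ X) : X ≤ H := by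
  obtain ⟨M', hM', hXM'⟩ := Cfsg.Agent.Lib.Helper64.BG9.exists_coatom_ge hX
  have := hB.unique ⟨hM', hBX.trans hXM'⟩ ⟨hH, hBH⟩
  exact this ▸ hXM'

/-- a subgroup of exponent `t` is a `t`-group -/
theorem isPGroup_of_exp {t : ℕ} {E : Subgroup G} (h : ∀ a ∈ E, a ^ t = 1) : IsPGroup t E := by
  intro a
  refine ⟨1, ?_⟩
  apply Subtype.ext
  simpa using h a.1 a.2

/-- extraction of an elementary abelian subgroup of order more than `t ^ 2` -/
theorem exists_elemAb_of_not_pRankLE {t : ℕ} {R : Subgroup G} (h : ¬ PRankLE t 2 ↥R) :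
    ∃ E : Subgroup G, E ≤ R ∧ IsElementaryAbelian t E ∧ t ^ 2 < Nat.card E := by
  unfold PRankLE at h
  push Not at h
  obtain ⟨E', hE'c, hE'e, hE'card⟩ := h
  refine ⟨E'.map R.subtype, Subgroup.map_subtype_le E', ⟨inferInstance, ?_⟩, ?_⟩
  · rintro _ ⟨a, ha, rfl⟩
    have := hE'e a ha
    simpa using congrArg Subtype.val this
  · rw [Subgroup.card_map_of_injective (Subgroup.subtype_injective _)]
    exact hE'card

theorem not_pRankLE_mono {t : ℕ} {R S : Subgroup G} (h : ¬ PRankLE t 2 ↥R) (hRS : R ≤ S) :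
    ¬ PRankLE t 2 ↥S := by
  intro hS
  apply h
  intro E hEc hEe
  have := hS ((E.map R.subtype).subgroupOf S) ?_ ?_
  · rw [Nat.card_congr (Subgroup.subgroupOfEquivOfLe ((Subgroup.map_subtype_le E).trans hRS)).toEquiv,
      Subgroup.card_map_of_injective (Subgroup.subtype_injective _)] at this
    exact this
  · refine ⟨⟨fun a b => ?_⟩⟩
    obtain ⟨a', ha', ha⟩ := a.2
    obtain ⟨b', hb', hb⟩ := b.2
    apply Subtype.ext
    apply Subtype.ext
    have hab := hEc.is_comm.comm ⟨a', ha'⟩ ⟨b', hb'⟩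
    have h2 : (a' : G) * b' = b' * a' := by
      have := congrArg Subtype.val (congrArg Subtype.val hab)
      simpa using this
    simp only [Subgroup.coe_subtype] at ha hb
    show ((a.1 : S) : G) * ((b.1 : S) : G) = ((b.1 : S) : G) * ((a.1 : S) : G)
    rw [← ha, ← hb]
    exact h2
  · intro a ha
    obtain ⟨a', ha', haa⟩ := ha
    apply Subtype.ext
    have := hEe a' ha'
    have h2 : (a' : G) ^ t = 1 := by
      have := congrArg Subtype.val this
      simpa using this
    simp only [Subgroup.coe_subtype] at haa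
    show ((a : S) : G) ^ t = 1
    rw [← haa]
    exact h2

/-- odd order: a prime dividing the order of a subgroup is odd -/
theorem ne_two_of_dvd (hG : IsMinSimpleOddOrder G) {t : ℕ} {R : Subgroup G}
    (h : t ∣ Nat.card R) : t ≠ 2 := by
  rintro rfl
  have h2G : 2 ∣ Nat.card G := h.trans (Subgroup.card_subgroup_dvd_card R)
  have hodd := hG.1
  rw [Nat.odd_iff] at hodd
  omega

theorem dvd_card_of_not_pRankLE {t : ℕ} [ht : Fact t.Prime] {R : Subgroup G}
    (h : ¬ PRankLE t 2 ↥R) : t ∣ Nat.card R := by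
  obtain ⟨E, hER, hEe, hEc⟩ := exists_elemAb_of_not_pRankLE h
  obtain ⟨k, hk⟩ := IsPGroup.iff_card.mp (isPGroup_of_exp hEe.2)
  have hk0 : k ≠ 0 := by
    rintro rfl
    rw [pow_zero] at hk
    rw [hk] at hEc
    have : 1 ≤ t ^ 2 := Nat.one_le_pow _ _ ht.out.pos
    omega
  have h1 : t ∣ Nat.card E := by rw [hk]; exact dvd_pow_self t hk0
  exact h1.trans (Subgroup.card_dvd_of_le hER)

/-- **(T1)**: a coprime operator group `D` with noncyclic fixed points on a `t`-group `R ≤ H` of rank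
at least three centralizes a uniqueness subgroup of `H`. -/
theorem t1 (hG : IsMinSimpleOddOrder G) {H : Subgroup G} (hH : IsCoatom H) {t : ℕ}
    [ht : Fact t.Prime]
    (hU3 : ∀ E : Subgroup G, IsPGroup t E → IsMulCommutative E → ¬ PRankLE t 2 ↥E →
      InUniqueMaximal E)
    {R D : Subgroup G} (hR : IsPGroup t R) (hRH : R ≤ H) (hR3 : ¬ PRankLE t 2 ↥R)
    (hD : (Nat.card D).Coprime t) (hDR : D ≤ normalizer (R : Set G))
    (hnc : ¬ IsCyclic ↥(R ⊓ centralizer (D : Set G))) :
    ∃ B : Subgroup G, InUniqueMaximal B ∧ B ≤ H ∧ B ≤ centralizer (D : Set G) := by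
  have htp : t.Prime := ht.out
  have ht2 : t ≠ 2 := ne_two_of_dvd hG (dvd_card_of_not_pRankLE hR3)
  obtain ⟨E₃, hE₃R, hE₃e, hE₃c⟩ := exists_elemAb_of_not_pRankLE hR3
  have hE₃3 : t ^ 3 ≤ Nat.card E₃ := by
    obtain ⟨k, hk⟩ := IsPGroup.iff_card.mp (isPGroup_of_exp hE₃e.2)
    rw [hk] at hE₃c ⊢
    have : 2 < k := (Nat.pow_lt_pow_iff_right htp.one_lt).mp hE₃c
    exact Nat.pow_le_pow_right htp.pos this
  have hE₃comm : ∀ x ∈ E₃, ∀ y ∈ E₃, x * y = y * x := fun x hx y hy =>
    congrArg Subtype.val (hE₃e.1.is_comm.comm ⟨x, hx⟩ ⟨y, hy⟩)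
  have hE₃U : InUniqueMaximal E₃ :=
    hU3 E₃ (isPGroup_of_exp hE₃e.2) hE₃e.1
      (Cfsg.Agent.Lib.Helper23.not_pRankLE_two_of_elemAb le_rfl hE₃comm hE₃e.2 hE₃3)
  have hRtop : R ≠ ⊤ := fun h => hH.1 (top_le_iff.mp (h ▸ hRH))
  have hRU : InUniqueMaximal R := unique_mono hE₃U hE₃R hRtop
  by_cases hDc : D ≤ centralizer (R : Set G)
  · exact ⟨R, hRU, hRH, Cfsg.Agent.Lib.Helper64.BG9.centralizer_symm hDc⟩
  -- a normal elementary abelian subgroup of order `t ^ 2` in the fixed points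
  have hCp : IsPGroup t ↥(R ⊓ centralizer (D : Set G)) := hR.to_le inf_le_left
  rcases Cfsg.Agent.Lib.Helper52.normal_rank_two t hCp with ⟨N, hNn, hNc, hNe⟩ | hc | ⟨h2, -, -⟩
  · set E : Subgroup G := N.map (R ⊓ centralizer (D : Set G)).subtype with hEdef
    have hEle : E ≤ R ⊓ centralizer (D : Set G) := Subgroup.map_subtype_le N
    have hEcard : Nat.card E = t ^ 2 := by
      rw [hEdef, Subgroup.card_map_of_injective (Subgroup.subtype_injective _)]
      exact hNc
    have hNcomm : IsMulCommutative N := IsPGroup.isMulCommutative_of_card_eq_prime_sq hNc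
    have hEe : IsElementaryAbelian t E := by
      refine ⟨inferInstance, ?_⟩
      rintro _ ⟨a, ha, rfl⟩
      have := hNe a ha
      simpa using congrArg Subtype.val this
    have hEcomm : ∀ x ∈ E, ∀ y ∈ E, x * y = y * x := fun x hx y hy =>
      congrArg Subtype.val (hEe.1.is_comm.comm ⟨x, hx⟩ ⟨y, hy⟩)
    -- apply S1443
    have key : ∃ x ∈ R ⊓ centralizer (E : Set G), orderOf x = t ∧
        ¬ D ≤ centralizer ({x} : Set G) := by
      by_contra hcon
      push Not at hcon
      exact hDc (Cfsg.Agent.S1443.result t ht2 R E D hR (hEle.trans inf_le_left) hEe hDR hD hcon)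
    obtain ⟨x, hx, hxo, hxD⟩ := key
    have hxE : x ∉ E := by
      intro hxE
      apply hxD
      intro d hd
      rw [mem_centralizer_iff]
      intro y hy
      rw [Set.mem_singleton_iff] at hy
      subst hy
      have := (hEle hxE).2
      exact (mem_centralizer_iff.mp this d hd).symm
    have hxt : x ^ t = 1 := by rw [← hxo]; exact pow_orderOf_eq_one x
    have hxc : ∀ e ∈ E, e * x = x * e := fun e he => mem_centralizer_iff.mp hx.2 e he
    -- the subgroup `E ⊔ ⟨x⟩`
    have hE'e : IsElementaryAbelian t (E ⊔ zpowers x) :=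
      Cfsg.Agent.Lib.Helper10.elemAb_sup_zpowers hEe hxc hxt
    have hlt : E < E ⊔ zpowers x := by
      refine lt_of_le_of_ne le_sup_left ?_
      intro h
      apply hxE
      rw [h]
      exact mem_sup_right (mem_zpowers x)
    have hcardlt : Nat.card E < Nat.card ↥(E ⊔ zpowers x) := by
      have h1 := Subgroup.card_le_of_le hlt.le
      rcases Nat.lt_or_ge (Nat.card E) (Nat.card ↥(E ⊔ zpowers x)) with h | h
      · exact h
      · exact absurd (Subgroup.eq_of_le_of_card_ge hlt.le h) hlt.ne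
    have hE'3 : t ^ 3 ≤ Nat.card ↥(E ⊔ zpowers x) := by
      obtain ⟨k, hk⟩ := IsPGroup.iff_card.mp (isPGroup_of_exp hE'e.2)
      rw [hEcard, hk] at hcardlt
      rw [hk]
      have : 2 < k := (Nat.pow_lt_pow_iff_right htp.one_lt).mp hcardlt
      exact Nat.pow_le_pow_right htp.pos this
    have hE'comm : ∀ a ∈ E ⊔ zpowers x, ∀ b ∈ E ⊔ zpowers x, a * b = b * a := fun a ha b hb =>
      congrArg Subtype.val (hE'e.1.is_comm.comm ⟨a, ha⟩ ⟨b, hb⟩)
    have hE'cent : E ⊔ zpowers x ≤ centralizer (E : Set G) := by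
      intro a ha
      rw [mem_centralizer_iff]
      intro e he
      exact hE'comm e (mem_sup_left he) a ha
    have hcent3 : ¬ PRankLE t 2 ↥(centralizer (E : Set G)) :=
      Cfsg.Agent.Lib.Helper23.not_pRankLE_two_of_elemAb hE'cent hE'comm hE'e.2 hE'3
    have hEnc : ¬ IsCyclic E := by
      apply Cfsg.Agent.Lib.Helper64.BG9.not_isCyclic_of_exp htp E hEe.2
      rw [hEcard]
      calc t = t ^ 1 := (pow_one t).symm
        _ < t ^ 2 := Nat.pow_lt_pow_right htp.one_lt (by norm_num)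
    have hEU : InUniqueMaximal E :=
      Cfsg.Agent.S1400.result hG t E₃ E (isPGroup_of_exp hE₃e.2) hE₃e.1
        (Cfsg.Agent.Lib.Helper23.not_pRankLE_two_of_elemAb le_rfl hE₃comm hE₃e.2 hE₃3) hE₃U
        (isPGroup_of_exp hEe.2) hEnc hcent3
    exact ⟨E, hEU, (hEle.trans inf_le_left).trans hRH, hEle.trans inf_le_right⟩
  · exact absurd hc hnc
  · exact absurd h2 ht2

end Cfsg.Agent.Lib.Helper32.BG95
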