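import Cfsg.Agent.Lib.Helper56.BG125
import Cfsg.Agent.Lib.Helper64.SylowMax
import Cfsg.Agent.S1403
import Cfsg.Agent.S1404
import Cfsg.Agent.S1405
import Cfsg.Agent.S1408
import Cfsg.Agent.S1414
import Cfsg.Agent.S1350

set_option autoImplicit false
set_option linter.style.haveILetI false
set_option linter.unusedSectionVars false

/-!
# Bender–Glauberman Lemma 12.3

`M ≠ M*` maximal, `A ≤ M` elementary abelian of order `p²`, `A₀ ≤ A` of order `p` with
`N_G(A₀) ≤ M*`.  Then `A` centralizes `M_σ ∩ M*` if `p ∉ σ(M)` and `M_α ∩ M*` if `p ∉ α(M)`.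

The proof uses B&G 11.4 and 11.7 for exceptional maximal subgroups (hypotheses `h114`, `h117`
in the shape of the fields `uniq`, `norm` of `Helper56.BG125.Sec11`), the Uniqueness Theorem
(S1403), Theorem 10.1(a) (S1404), 10.2 (S1405), 10.5 (S1408), 10.8 (S1414) and S1350.
-/

namespace Cfsg.Agent.Lib.Helper32.BG12

open Subgroup Cfsg Cfsg.Agent.Lib.Helper33 Cfsg.Agent.Lib.Helper24 Cfsg.Agent.Lib.Helper47.BG11
open Cfsg.Agent.Lib.Helper56.BG125 Cfsg.Agent.Lib.Helper63 Cfsg.Agent.Lib.Helper23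
open Cfsg.Agent.Lib.Helper24.BG
open scoped commutatorElement

universe u

variable {G : Type u} [Group G] [Finite G]

/-- membership in `σ(M)` in terms of subgroups of `G` -/
theorem mem_sigma_iff' {M : Subgroup G} {p : ℕ} [Fact p.Prime] :
    p ∈ sigma M ↔ p ∣ Nat.card M ∧ ∃ Q : Subgroup G, Q ≤ M ∧ IsPGroup p Q ∧ ¬ p ∣ Q.relIndex M ∧
      normalizer (Q : Set G) ≤ M := by
  constructor
  · rintro ⟨-, hd, P, hP⟩
    obtain ⟨h1, h2, h3⟩ := sylow_map_facts M P
    exact ⟨hd, _, h1, h2, h3, hP⟩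
  · rintro ⟨hd, Q, hQM, hQ, hQi, hN⟩
    obtain ⟨P, hP⟩ := exists_sylow_map_eq M Q hQM hQ hQi
    exact ⟨Fact.out, hd, P, by rw [hP]; exact hN⟩

/-- `σ(M^g) ⊆ σ(M)` -/
theorem mem_sigma_of_mem_sigma_cj {M : Subgroup G} {p : ℕ} [Fact p.Prime] {g : G}
    (h : p ∈ sigma (cj g M)) : p ∈ sigma M := by
  rw [mem_sigma_iff'] at h ⊢
  obtain ⟨hd, Q, hQM, hQ, hQi, hN⟩ := h
  have hMM : cj g⁻¹ (cj g M) = M := by rw [← cj_mul, inv_mul_cancel, cj_one]
  refine ⟨by rwa [card_cj] at hd, cj g⁻¹ Q, ?_, isPGroup_cj hQ, ?_, ?_⟩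
  · rw [← hMM]; exact cj_mono hQM
  · rw [← hMM, relIndex_cj]; exact hQi
  · rw [normalizer_cj, ← hMM]; exact cj_mono hN

/-- (T3) via a normal `q`-complement: if `K` has a normal `q`-complement, `A ≤ K` has order prime
to `q` and normalizes the `q`-subgroup `X ≤ K`, then `[X, A] = 1`. -/
theorem commutator_eq_bot_of_npc {K A X : Subgroup G} {q : ℕ} [Fact q.Prime]
    (hK : HasNormalPComplement q ↥K) (hAK : A ≤ K) (hqA : ¬ q ∣ Nat.card A) (hXK : X ≤ K)
    (hX : IsPGroup q X) (hAX : A ≤ normalizer (X : Set G)) : ⁅X, A⁆ = ⊥ := by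
  have hq : q.Prime := Fact.out
  obtain ⟨P, N, hNn, hNP⟩ := hK
  haveI := hNn
  have hidx : N.index = Nat.card (P : Subgroup ↥K) := hNP.symm.index_eq_card
  have hcardN : Nat.card N = (P : Subgroup ↥K).index := hNP.index_eq_card.symm
  have hqN : ¬ q ∣ Nat.card N := by rw [hcardN]; exact P.not_dvd_index
  -- `A ≤ N`
  have hAN : ∀ a ∈ A, ∃ h : a ∈ K, (⟨a, h⟩ : ↥K) ∈ N := by
    intro a ha
    refine ⟨hAK ha, ?_⟩
    apply mem_of_coprime_index N
    rw [hidx]
    obtain ⟨k, hk⟩ := IsPGroup.iff_card.mp P.2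
    rw [hk]
    apply Nat.Coprime.pow_right
    have h1 : orderOf (⟨a, hAK ha⟩ : ↥K) = orderOf (⟨a, ha⟩ : ↥A) := by
      rw [← Subgroup.orderOf_coe, ← Subgroup.orderOf_coe]
    rw [h1]
    have h2 : orderOf (⟨a, ha⟩ : ↥A) ∣ Nat.card A := orderOf_dvd_natCard _
    rw [Nat.coprime_comm, Nat.Prime.coprime_iff_not_dvd hq]
    exact fun h => hqA (h.trans h2)
  have hle1 : ⁅X, A⁆ ≤ N.map K.subtype := by
    rw [Subgroup.commutator_le]
    intro x hx a ha
    obtain ⟨haK, haN⟩ := hAN a ha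
    have h1 : (⟨x, hXK hx⟩ : ↥K) * ⟨a, haK⟩ * (⟨x, hXK hx⟩ : ↥K)⁻¹ ∈ N :=
      hNn.conj_mem _ haN _
    have h2 : ⁅(⟨x, hXK hx⟩ : ↥K), ⟨a, haK⟩⁆ ∈ N := by
      rw [commutatorElement_def]
      exact N.mul_mem h1 (N.inv_mem haN)
    exact ⟨_, h2, rfl⟩
  have hle2 : ⁅X, A⁆ ≤ X := commutator_le_of_le_normalizer X A hAX
  have hcop : (Nat.card (N.map K.subtype)).Coprime (Nat.card X) := by
    rw [card_map_of_injective K.subtype_injective]
    obtain ⟨k, hk⟩ := IsPGroup.iff_card.mp hX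
    rw [hk]
    apply Nat.Coprime.pow_right
    rw [Nat.coprime_comm, Nat.Prime.coprime_iff_not_dvd hq]
    exact hqN
  rw [eq_bot_iff, ← Subgroup.inf_eq_bot_of_coprime hcop]
  exact le_inf hle1 hle2

/-- If `q ∈ σ(M)` and the maximal subgroup `L` has an elementary abelian `q`-subgroup of order
more than `q²`, then `L` is conjugate to `M`. -/
theorem exists_cj_eq_of_rank (hG : IsMinSimpleOddOrder G) {M L : Subgroup G} (hM : IsCoatom M)
    (hL : IsCoatom L) {q : ℕ} [Fact q.Prime] (hq : q ∈ sigma M) (hr : ¬ PRankLE q 2 L) :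
    ∃ g : G, L = cj g M := by
  have hqp : q.Prime := Fact.out
  obtain ⟨B, hBL, hB, hBc⟩ := BG10.exists_of_not_pRankLE hr
  have hBp : IsPGroup q B := BG10.isPGroup_of_elemAb hB
  have hBtop : B ≠ ⊤ := fun h => hL.1 (top_le_iff.mp (h ▸ hBL))
  have hqq : q < q ^ 2 := by
    calc q = q ^ 1 := (pow_one q).symm
      _ < q ^ 2 := Nat.pow_lt_pow_right hqp.one_lt (by norm_num)
  have hBU : InUniqueMaximal B := Cfsg.Agent.S1403.result hG B hBtop
    (BG10.not_rankLE_one_of_elemAb hB le_rfl (hqq.trans hBc))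
    (Or.inl (BG10.not_rankLE_two_of_elemAb hB le_rfl hBc))
  obtain ⟨Q₀⟩ : Nonempty (Sylow q ↥M) := inferInstance
  obtain ⟨hQM, hQp, hQi⟩ := sylow_map_facts M Q₀
  have hQidx : ¬ q ∣ ((Q₀ : Subgroup ↥M).map M.subtype).index :=
    not_dvd_index_of_sigma hq hQM hQp hQi
  obtain ⟨S, hBS⟩ := hBp.exists_le_sylow
  obtain ⟨g, hg⟩ := sylow_exists_cj (hQp.toSylow hQidx) S
  rw [IsPGroup.toSylow_coe] at hg
  refine ⟨g, ?_⟩
  have hBg : B ≤ cj g M := by
    refine hBS.trans ?_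
    rw [← hg]
    exact cj_mono hQM
  obtain ⟨L₀, _, huniq⟩ := hBU
  rw [huniq L ⟨hL, hBL⟩, huniq (cj g M) ⟨Cfsg.Agent.Lib.Helper64.isCoatom_map_conj hM g, hBg⟩]

/-- the Uniqueness Theorem in the form used by the §10 libraries -/
theorem uniqStmt (hG : IsMinSimpleOddOrder G) : BG10.UniqStmt G :=
  fun K hK h1 h2 => Cfsg.Agent.S1403.result hG K hK h1 h2

theorem sigmaHallIn (hG : IsMinSimpleOddOrder G) {M : Subgroup G} (hM : IsCoatom M) :
    SigmaHallIn M := (Cfsg.Agent.S1350.result hG M hM).1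

/-- B&G 11.4 in the shape of `Sec11.uniq` -/
def Stmt114 (G : Type u) [Group G] : Prop :=
  ∀ {M A₀ A : Subgroup G} {p : ℕ} [Fact p.Prime], Exc M p A₀ A →
    ∀ H : Subgroup G, IsCoatom H → A ≤ H → Cfsg.sigmaCore H ⊓ Cfsg.sigmaCore M ≠ ⊥ → H = M

/-- B&G 11.7 in the shape of `Sec11.norm` -/
def Stmt117 (G : Type u) [Group G] : Prop :=
  ∀ {M A₀ A : Subgroup G} {p : ℕ} [Fact p.Prime], Exc M p A₀ A →
    M ≤ normalizer ((Cfsg.sigmaCore M ⊔ A : Subgroup G) : Set G)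

/-- data `(L, p, A₀, A)` with `N_G(A₀) ≤ L` and `p ∉ σ(L)` is exceptional -/
theorem exc_of_not_sigma (hG : IsMinSimpleOddOrder G) {L A A₀ : Subgroup G} (hL : IsCoatom L)
    {p : ℕ} [Fact p.Prime] (hpσ : p ∉ sigma L) (hAL : A ≤ L) (hAe : IsElementaryAbelian p A)
    (hAc : Nat.card A = p ^ 2) (hA₀ : A₀ ≤ A) (hA₀c : Nat.card A₀ = p)
    (hN : normalizer (A₀ : Set G) ≤ L) : Exc L p A₀ A := by
  have hr2 : PRankLE p 2 L := by
    by_contra h
    exact hpσ (Cfsg.Agent.Lib.Helper23.alpha_subset_sigma hG (uniqStmt hG) hL ⟨Fact.out, h⟩)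
  exact ⟨hL, hpσ, hAL, hAe, hAc, hA₀, hA₀c, hN,
    fun B hB hAB => BG10.max_elemAb hG (uniqStmt hG) hL hr2 hAL hAe hAc hB hAB⟩

/-- Step 0 of 12.3: `[K, A] ≤ L_σ` for every `A`-invariant `p'`-subgroup `K` of `L`. -/
theorem commutator_le_sigmaCore (hG : IsMinSimpleOddOrder G) (h117 : Stmt117 G)
    {L A A₀ : Subgroup G} (hL : IsCoatom L)
    {p : ℕ} [Fact p.Prime] (hAL : A ≤ L) (hAe : IsElementaryAbelian p A)
    (hAc : Nat.card A = p ^ 2) (hA₀ : A₀ ≤ A) (hA₀c : Nat.card A₀ = p)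
    (hN : normalizer (A₀ : Set G) ≤ L) {K : Subgroup G} (hKL : K ≤ L)
    (hAK : A ≤ normalizer (K : Set G)) (hcop : (Nat.card K).Coprime (Nat.card A)) :
    ⁅K, A⁆ ≤ sigmaCore L := by
  have hAp : IsPGroup p A := BG10.isPGroup_of_elemAb hAe
  by_cases hpσ : p ∈ sigma L
  · have hAσ : A ≤ sigmaCore L := le_sigmaCore_of_sigma (sigmaHallIn hG hL) hpσ hAL hAp
    rw [Subgroup.commutator_le]
    intro d hd a ha
    have hdn : d ∈ normalizer ((sigmaCore L : Subgroup G) : Set G) :=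
      BG.le_normalizer_sigmaCore L (hKL hd)
    have h1 : d * a * d⁻¹ ∈ sigmaCore L := (mem_normalizer_iff.mp hdn a).mp (hAσ ha)
    rw [commutatorElement_def]
    exact (sigmaCore L).mul_mem h1 ((sigmaCore L).inv_mem (hAσ ha))
  · have e := exc_of_not_sigma hG hL hpσ hAL hAe hAc hA₀ hA₀c hN
    have hn := h117 e
    have h1 : ⁅K, A⁆ ≤ A ⊔ sigmaCore L := by
      rw [Subgroup.commutator_le]
      intro d hd a ha
      have hdn := hn (hKL hd)
      have haL : a ∈ sigmaCore L ⊔ A := (le_sup_right : A ≤ sigmaCore L ⊔ A) ha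
      have h1 : d * a * d⁻¹ ∈ sigmaCore L ⊔ A := (mem_normalizer_iff.mp hdn a).mp haL
      rw [commutatorElement_def, sup_comm]
      exact Subgroup.mul_mem _ h1 (Subgroup.inv_mem _ haL)
    have h0 : A ⊓ sigmaCore L = ⊥ := Subgroup.inf_eq_bot_of_coprime (e.coprime_card le_rfl)
    have hle : ⁅K, A⁆ ≤ K := commutator_le_of_le_normalizer K A hAK
    exact le_of_le_sup_of_coprime e.le_normalizer_sigmaCore h0 h1
      (Nat.Coprime.coprime_dvd_left (card_dvd_of_le hle) hcop)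

/-- Core of B&G Lemma 12.3: `A` centralizes `H ∩ L` for every `A`-invariant `p'`-subgroup `H` of
`M_σ`. -/
theorem le_centralizer_of_le_sigmaCore (hG : IsMinSimpleOddOrder G) (h114 : Stmt114 G)
    (h117 : Stmt117 G) {M L A A₀ H : Subgroup G} (hM : IsCoatom M) (hL : IsCoatom L)
    (hne : L ≠ M) {p : ℕ} [Fact p.Prime] (hAM : A ≤ M) (hAe : IsElementaryAbelian p A)
    (hAc : Nat.card A = p ^ 2) (hA₀ : A₀ ≤ A) (hA₀c : Nat.card A₀ = p)
    (hN : normalizer (A₀ : Set G) ≤ L) (hHσ : H ≤ sigmaCore M)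
    (hAH : A ≤ normalizer (H : Set G)) (hpH : ¬ p ∣ Nat.card H) :
    H ⊓ L ≤ centralizer (A : Set G) := by
  have hp : p.Prime := Fact.out
  have hAp : IsPGroup p A := BG10.isPGroup_of_elemAb hAe
  have hAL : A ≤ L := fun a ha => hN (centralizer_le_normalizer _
    ((BG10.le_centralizer_of_elemAb hA₀ hAe) ha))
  set D := H ⊓ L with hD
  have hAD : A ≤ normalizer (D : Set G) := le_normalizer_inf hAH (hAL.trans le_normalizer)
  have hpD : ¬ p ∣ Nat.card D := fun h => hpH (h.trans (card_dvd_of_le inf_le_left))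
  have hcopD : (Nat.card A).Coprime (Nat.card D) := by
    rw [hAc]
    exact Nat.Coprime.pow_left 2 ((Nat.Prime.coprime_iff_not_dvd hp).mpr hpD)
  haveI : Group.IsSolvable ↥A :=
    isSolvable_of_ne_top hG (fun h => hM.1 (top_le_iff.mp (h ▸ hAM)))
  by_contra hcon
  have hCD : (D ⊓ centralizer (A : Set G)).relIndex D ≠ 1 := by
    intro h
    exact hcon ((Subgroup.relIndex_eq_one.mp h).trans inf_le_right)
  obtain ⟨q, hq, hqd⟩ := Nat.exists_prime_and_dvd hCD
  haveI : Fact q.Prime := ⟨hq⟩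
  obtain ⟨P, hP⟩ := exists_invariant_sylow (p := q) A D hAD hcopD (Or.inl inferInstance)
  obtain ⟨hXD, hXq, hXi⟩ := sylow_map_facts D P
  set X := (P : Subgroup ↥D).map D.subtype with hX
  have hcopX : (Nat.card A).Coprime (Nat.card X) :=
    Nat.Coprime.coprime_dvd_right (card_dvd_of_le hXD) hcopD
  -- the claim: `A` centralizes `X`
  have hXc : X ≤ centralizer (A : Set G) := by
    have hdec := commutator_sup_centralizer_eq A X hP hcopX (Or.inl inferInstance)
    suffices hW : ⁅X, A⁆ = ⊥ by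
      rw [hW, bot_sup_eq] at hdec
      rw [← hdec]
      exact inf_le_right
    by_contra hWne
    have hWX : ⁅X, A⁆ ≤ X := commutator_le_of_le_normalizer X A hP
    have hAW : A ≤ normalizer ((⁅X, A⁆ : Subgroup G) : Set G) :=
      le_normalizer_commutator_right X A hP
    have hWW : ⁅⁅X, A⁆, A⁆ = ⁅X, A⁆ :=
      commutator_commutator_eq A X hP hcopX (Or.inl inferInstance)
    have hWq : IsPGroup q (⁅X, A⁆ : Subgroup G) := hXq.to_le hWX
    have hWL : ⁅X, A⁆ ≤ L := hWX.trans (hXD.trans inf_le_right)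
    have hWσM : ⁅X, A⁆ ≤ sigmaCore M := hWX.trans (hXD.trans (inf_le_left.trans hHσ))
    have hWσL : ⁅X, A⁆ ≤ sigmaCore L :=
      commutator_le_sigmaCore hG h117 hL hAL hAe hAc hA₀ hA₀c hN (hXD.trans inf_le_right) hP
        hcopX.symm
    have hmeet : sigmaCore M ⊓ sigmaCore L ≠ ⊥ := by
      intro h
      apply hWne
      rw [eq_bot_iff, ← h]
      exact le_inf hWσM hWσL
    by_cases hpσ : p ∈ sigma L
    · have hAσ : A ≤ sigmaCore L := le_sigmaCore_of_sigma (sigmaHallIn hG hL) hpσ hAL hAp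
      have hqW : q ∣ Nat.card (⁅X, A⁆ : Subgroup G) := by
        obtain ⟨k, hk⟩ := IsPGroup.iff_card.mp hWq
        rcases Nat.eq_zero_or_pos k with rfl | hkpos
        · exfalso
          apply hWne
          rw [pow_zero] at hk
          exact Subgroup.card_eq_one.mp hk
        · rw [hk]
          exact dvd_pow_self q hkpos.ne'
      have hqL : q ∣ Nat.card L := hqW.trans (card_dvd_of_le hWL)
      have hqσM : q ∈ sigma M := mem_sigma_of_dvd_card_le hWσM hq hqW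
      have hqp : q ≠ p := by
        rintro rfl
        exact hpD (hqW.trans (card_dvd_of_le (hWX.trans hXD)))
      by_cases hqβ : q ∈ beta L
      · -- `L` is conjugate to `M`, which is impossible as `p ∈ σ(L)`
        obtain ⟨g, hg⟩ := exists_cj_eq_of_rank hG hM hL hqσM hqβ.1.2
        have hpσM : p ∈ sigma M := mem_sigma_of_mem_sigma_cj (g := g) (hg ▸ hpσ)
        have hA₀p : IsPGroup p A₀ := hAp.to_le hA₀
        have hA₀ne : A₀ ≠ ⊥ := by
          intro h
          rw [h, card_bot] at hA₀c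
          exact hp.one_lt.ne hA₀c
        have hA₀M : A₀ ≤ M := hA₀.trans hAM
        have hA₀L : A₀ ≤ L := hA₀.trans hAL
        have hconj : A₀.map (MulAut.conj g⁻¹).toMonoidHom ≤ M := by
          have : cj g⁻¹ A₀ ≤ M := by
            rw [cj_le_iff, inv_inv, ← hg]
            exact hA₀L
          exact this
        obtain ⟨m, hm, c, hc, hgmc⟩ :=
          (Cfsg.Agent.S1404.result hG M hM p hpσM A₀ hA₀p hA₀ne hA₀M).1 g⁻¹ hconj
        have hcL : c ∈ L := hN (centralizer_le_normalizer _ hc)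
        have hg' : g = c⁻¹ * m⁻¹ := by
          rw [← mul_inv_rev, ← hgmc, inv_inv]
        have h1 : L = cj c⁻¹ M := by
          rw [hg, hg', cj_mul, cj_eq_self_of_mem (M.inv_mem hm)]
        have h2 : cj c L = L := cj_eq_self_of_mem hcL
        have h3 : cj c L = M := by
          rw [h1, ← cj_mul, mul_inv_cancel, cj_one]
        exact hne (h2.symm.trans h3)
      · have hnpc := ((Cfsg.Agent.S1414.result hG L hL).2.2.2.2 q hq hqL hqβ).2.1
        have hqA : ¬ q ∣ Nat.card A := by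
          rw [hAc]
          intro h
          exact hqp ((Nat.prime_dvd_prime_iff_eq hq hp).mp (hq.dvd_of_dvd_pow h))
        have h0 := commutator_eq_bot_of_npc hnpc hAσ hqA hWσL hWq hAW
        exact hWne (hWW ▸ h0)
    · have e := exc_of_not_sigma hG hL hpσ hAL hAe hAc hA₀ hA₀c hN
      exact hne (h114 e M hM hAM hmeet).symm
  -- so `q` does not divide the index of `C_D(A)` in `D`
  have hXC : X ≤ D ⊓ centralizer (A : Set G) := le_inf hXD hXc
  have hmul := Subgroup.relIndex_mul_relIndex X (D ⊓ centralizer (A : Set G)) D hXC inf_le_left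
  exact hXi (dvd_trans hqd (Dvd.intro_left _ hmul))

/-- **B&G Lemma 12.3.** -/
theorem lemma_12_3 (hG : IsMinSimpleOddOrder G) (h114 : Stmt114 G) (h117 : Stmt117 G)
    (M Mstar : Subgroup G) (hM : IsCoatom M) (hMs : IsCoatom Mstar) (hne : Mstar ≠ M)
    (p : ℕ) [Fact p.Prime] (A A₀ : Subgroup G) (hAM : A ≤ M) (hAe : IsElementaryAbelian p A)
    (hAc : Nat.card A = p ^ 2) (hA₀ : A₀ ≤ A) (hA₀c : Nat.card A₀ = p)
    (hN : normalizer (A₀ : Set G) ≤ Mstar) :
    (p ∉ sigma M → ∀ x ∈ sigmaCore M ⊓ Mstar, ∀ a ∈ A, a * x = x * a) ∧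
      (p ∉ alpha M → ∀ x ∈ alphaCore M ⊓ Mstar, ∀ a ∈ A, a * x = x * a) := by
  have hp : p.Prime := Fact.out
  constructor
  · intro hpσ x hx a ha
    have h := le_centralizer_of_le_sigmaCore hG h114 h117 hM hMs hne hAM hAe hAc hA₀ hA₀c hN
      (le_refl (sigmaCore M)) (hAM.trans (BG.le_normalizer_sigmaCore M))
      (fun h => hpσ (mem_sigma_of_dvd_card_sigmaCore M hp h))
    exact mem_centralizer_iff.mp (h hx) a ha
  · intro hpα x hx a ha
    have hασ : alphaCore M ≤ sigmaCore M := (Cfsg.Agent.S1405.result hG M hM).2.2.1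
    have hnorm : M ≤ normalizer ((alphaCore M : Subgroup G) : Set G) :=
      le_normalizer_piCoreOf (alpha M) M
    have hpi : ¬ p ∣ Nat.card (alphaCore M) := fun h =>
      hpα (isPi_piCoreOf (alpha M) M p hp h)
    have h := le_centralizer_of_le_sigmaCore hG h114 h117 hM hMs hne hAM hAe hAc hA₀ hA₀c hN
      hασ (hAM.trans hnorm) hpi
    exact mem_centralizer_iff.mp (h hx) a ha

/-- **B&G Lemma 12.3**, conclusion in the form `… ≤ centralizer A`
(the shape of `Helper19.BG124.Stmt123`). -/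
theorem lemma_12_3_le (hG : IsMinSimpleOddOrder G) (h114 : Stmt114 G) (h117 : Stmt117 G)
    (M Mstar : Subgroup G) (hM : IsCoatom M) (hMs : IsCoatom Mstar) (hne : Mstar ≠ M)
    (p : ℕ) [Fact p.Prime] (A A₀ : Subgroup G) (hAM : A ≤ M) (hAe : IsElementaryAbelian p A)
    (hAc : Nat.card A = p ^ 2) (hA₀ : A₀ ≤ A) (hA₀c : Nat.card A₀ = p)
    (hN : normalizer (A₀ : Set G) ≤ Mstar) :
    (p ∉ sigma M → sigmaCore M ⊓ Mstar ≤ centralizer (A : Set G)) ∧
      (p ∉ alpha M → alphaCore M ⊓ Mstar ≤ centralizer (A : Set G)) := by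
  obtain ⟨h1, h2⟩ := lemma_12_3 hG h114 h117 M Mstar hM hMs hne p A A₀ hAM hAe hAc hA₀ hA₀c hN
  exact ⟨fun h x hx => mem_centralizer_iff.mpr (fun a ha => h1 h x hx a ha),
    fun h x hx => mem_centralizer_iff.mpr (fun a ha => h2 h x hx a ha)⟩

end Cfsg.Agent.Lib.Helper32.BG12
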