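import Cfsg.Agent.Lib.Helper32.BG95C
import Cfsg.Agent.Lib.Helper22.Signalizer
import Cfsg.Agent.Lib.Helper72.SylowUniq

/-!
# BG Lemma 9.5: the hub contains every `A`-invariant `p'`-subgroup (`hub_sig`)

Lemma Z and the simplified (P2) of the helper60 route, parametrized by the subgroup `E`
(output of `exists_E`) and by `hI` (every `A`-invariant `t`-subgroup lies in `H`).
-/

set_option autoImplicit false
set_option linter.style.haveILetI false

namespace Cfsg.Agent.Lib.Helper32.BG95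

open Cfsg Subgroup

variable {G : Type*} [Group G] [Finite G]

/-- a cyclic subgroup of exponent `t` has order dividing `t` -/
theorem card_dvd_of_isCyclic_of_exp {t : ℕ} {Z : Subgroup G} (hc : IsCyclic Z)
    (he : ∀ x ∈ Z, x ^ t = 1) : Nat.card Z ∣ t := by
  obtain ⟨g, hg⟩ := hc.exists_generator
  rw [← orderOf_eq_card_of_forall_mem_zpowers hg]
  apply orderOf_dvd_of_pow_eq_one
  apply Subtype.ext
  simpa using he g.1 g.2

/-- **Lemma Z**. -/
theorem lemmaZ (hG : IsMinSimpleOddOrder G) {A H E : Subgroup G}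
    (hAc : ∀ x ∈ A, ∀ y ∈ A, x * y = y * x)
    (hH : IsCoatom H) (hAH : A ≤ H) {t : ℕ} [ht : Fact t.Prime]
    (hHE : H ≤ normalizer (E : Set G))
    (hEexp : ∀ x ∈ E, x ^ t = 1) (hEnc : ¬ IsCyclic E)
    (hEU : ∀ U : Subgroup G, U ≤ E → ¬ IsCyclic U → ∀ M : Subgroup G, IsCoatom M → U ≤ M → M = H)
    (hI : ∀ N : Subgroup G, IsPGroup t N → A ≤ normalizer (N : Set G) → N ≤ H)
    (hother : ∀ M : Subgroup G, IsCoatom M → A ≤ M → M ≠ H → ⁅M, M⁆ ≤ fittingOf M)
    {c : G} (hcA : c ∈ A) (hc1 : c ≠ 1) (hcH : ¬ centralizer ({c} : Set G) ≤ H) :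
    IsCyclic ↥(E ⊓ centralizer ({c} : Set G)) ∧
      E ⊓ centralizer ({c} : Set G) ≤ centralizer (A : Set G) := by
  haveI := hG.2.1
  have hEt : IsPGroup t E := isPGroup_of_exp hEexp
  have hCne : centralizer ({c} : Set G) ≠ ⊤ :=
    Cfsg.Agent.Lib.Helper64.BG9.centralizer_singleton_ne_top hG hc1
  obtain ⟨M, hM, hCM⟩ := Cfsg.Agent.Lib.Helper64.BG9.exists_coatom_ge hCne
  have hAC : A ≤ centralizer ({c} : Set G) := by
    intro a ha
    rw [mem_centralizer_iff]
    intro x hx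
    rw [Set.mem_singleton_iff] at hx
    subst hx
    exact hAc x hcA a ha
  have hAM : A ≤ M := hAC.trans hCM
  have hMH : M ≠ H := by
    rintro rfl
    exact hcH hCM
  have hcyc : IsCyclic ↥(E ⊓ centralizer ({c} : Set G)) := by
    by_contra hnc
    exact hMH (hEU _ inf_le_left hnc M hM (inf_le_right.trans hCM))
  refine ⟨hcyc, ?_⟩
  intro z hz
  rw [mem_centralizer_iff]
  intro a ha
  by_contra hne
  -- the commutator `w = [a, z]`
  set w : G := a * z * a⁻¹ * z⁻¹ with hw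
  have hw1 : w ≠ 1 := by
    intro h
    apply hne
    have : a * z * a⁻¹ = z := by
      rw [hw] at h
      exact mul_inv_eq_one.mp h
    calc a * z = a * z * a⁻¹ * a := by group
      _ = z * a := by rw [this]
  have haz : a * z * a⁻¹ ∈ E := by
    have := hHE (hAH ha)
    rw [mem_normalizer_iff] at this
    exact (this z).mp hz.1
  have hwE : w ∈ E := E.mul_mem haz (E.inv_mem hz.1)
  have hzM : z ∈ M := hCM hz.2
  have haM : a ∈ M := hAM ha
  have hwM' : w ∈ ⁅M, M⁆ := by
    have := Subgroup.commutator_mem_commutator haM hzM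
    rwa [commutatorElement_def] at this
  have hwF : w ∈ fittingOf M := hother M hM hAM hMH hwM'
  -- `w ∈ Q := O_t(M)`
  set Q := pCoreOf t M with hQ
  have hwQ : w ∈ Q := by
    obtain ⟨y, hy, hyw⟩ := hwF
    refine ⟨y, ?_, hyw⟩
    apply Cfsg.Agent.Lib.Helper21.bl_mem_pCore_of_mem_fitting hy (k := 1)
    apply Subtype.ext
    have := hEexp w hwE
    rw [← hyw] at this
    simpa using this
  have hQt : IsPGroup t Q := pCoreOf_isPGroup t M
  have hMQ : M ≤ normalizer (Q : Set G) := le_normalizer_pCoreOf t M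
  have hQM : Q ≤ M := pCoreOf_le t M
  have hQH : Q ≤ H := hI Q hQt (hAM.trans hMQ)
  have hQbot : Q ≠ ⊥ := by
    intro h
    rw [h, mem_bot] at hwQ
    exact hw1 hwQ
  have hQtop : Q ≠ ⊤ := by
    intro h
    apply hH.1
    rw [eq_top_iff, ← h]
    exact hQH
  have hNQ : normalizer (Q : Set G) = M := by
    have hne' : normalizer (Q : Set G) ≠ ⊤ := by
      intro h
      have hn : Q.Normal := normalizer_eq_top_iff.mp h
      rcases hn.eq_bot_or_eq_top with h' | h'
      · exact hQbot h'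
      · exact hQtop h'
    exact (hM.le_iff_eq hne').mp hMQ
  have hEM : ¬ E ≤ M := fun h => hMH (hEU E le_rfl hEnc M hM h)
  -- the `t`-group `Q ⊔ E`
  have hQE : Q ≤ normalizer (E : Set G) := hQH.trans hHE
  have hT't : IsPGroup t ↥(Q ⊔ E) := IsPGroup.to_sup_of_normal_right' hQt hEt hQE
  have hlt : Q < Q ⊔ E := by
    refine lt_of_le_of_ne le_sup_left ?_
    intro h
    apply hEM
    have : E ≤ Q := by
      rw [h]
      exact le_sup_right
    exact this.trans hQM
  obtain ⟨y, hyT, hyN, hyQ⟩ := Cfsg.Agent.Lib.Helper72.exists_mem_normalizer_not_mem hT't hlt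
  have hyT' : y ∈ ((Q ⊔ E : Subgroup G) : Set G) := hyT
  rw [coe_mul_of_left_le_normalizer_right Q E hQE, Set.mem_mul] at hyT'
  obtain ⟨q, hq, e, he, hqe⟩ := hyT'
  have heN : e ∈ normalizer (Q : Set G) := by
    have : e = q⁻¹ * y := by rw [← hqe]; group
    rw [this]
    exact (normalizer (Q : Set G)).mul_mem ((normalizer (Q : Set G)).inv_mem (le_normalizer hq)) hyN
  have heQ : e ∉ Q := by
    intro h
    apply hyQ
    rw [← hqe]
    exact Q.mul_mem hq h
  rw [hNQ] at heN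
  -- `N = E ⊓ M` is cyclic of order `t`
  have hNcyc : IsCyclic ↥(E ⊓ M) := by
    by_contra hnc
    exact hMH (hEU _ inf_le_left hnc M hM inf_le_right)
  have hNdvd : Nat.card ↥(E ⊓ M) ∣ t :=
    card_dvd_of_isCyclic_of_exp hNcyc (fun x hx => hEexp x hx.1)
  have hwN : w ∈ E ⊓ M := ⟨hwE, hQM hwQ⟩
  have heN' : e ∈ E ⊓ M := ⟨he, heN⟩
  have hNcard : Nat.card ↥(E ⊓ M) = t := by
    rcases (Nat.dvd_prime ht.out).mp hNdvd with h | h
    · exfalso
      have hsub : Subsingleton ↥(E ⊓ M) := (Nat.card_eq_one_iff_unique.mp h).1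
      have : (⟨w, hwN⟩ : ↥(E ⊓ M)) = 1 := Subsingleton.elim _ _
      exact hw1 (congrArg Subtype.val this)
    · exact h
  have hmem : (⟨e, heN'⟩ : ↥(E ⊓ M)) ∈ zpowers (⟨w, hwN⟩ : ↥(E ⊓ M)) := by
    apply mem_zpowers_of_prime_card hNcard
    intro h
    exact hw1 (congrArg Subtype.val h)
  obtain ⟨k, hk⟩ := mem_zpowers_iff.mp hmem
  apply heQ
  have : e = w ^ k := by
    have := congrArg Subtype.val hk
    simpa using this.symm
  rw [this]
  exact Q.zpow_mem hwQ k

/-- a subgroup of an elementary abelian group is elementary abelian -/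
theorem elemAb_of_le {p : ℕ} {V B : Subgroup G} (hV : IsElementaryAbelian p V) (hBV : B ≤ V) :
    IsElementaryAbelian p B := by
  refine ⟨⟨⟨fun a b => ?_⟩⟩, fun a ha => hV.2 a (hBV ha)⟩
  apply Subtype.ext
  have := hV.1.is_comm.comm (⟨a.1, hBV a.2⟩ : ↥V) ⟨b.1, hBV b.2⟩
  have h2 := congrArg Subtype.val this
  simpa using h2

/-- a subgroup with more than one element has a nonidentity element -/
theorem exists_ne_one_of_one_lt_card {B : Subgroup G} (h : 1 < Nat.card B) : ∃ c ∈ B, c ≠ 1 := by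
  by_contra hcon
  push Not at hcon
  have : B = ⊥ := by
    rw [eq_bot_iff]
    intro x hx
    rw [mem_bot]
    exact hcon x hx
  rw [this] at h
  simp at h

/-- **(P2)**: every `A`-invariant `p'`-subgroup lies in the hub `H`. -/
theorem hub_sig_core (hG : IsMinSimpleOddOrder G) {p : ℕ} [hp : Fact p.Prime] {A H E : Subgroup G}
    (hAc : ∀ x ∈ A, ∀ y ∈ A, x * y = y * x) (hA3 : ¬ PRankLE p 2 ↥A)
    (hH : IsCoatom H) (hAH : A ≤ H) {t : ℕ} [ht : Fact t.Prime] (htp : t ≠ p)
    (hHE : H ≤ normalizer (E : Set G))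
    (hEexp : ∀ x ∈ E, x ^ t = 1) (hEnc : ¬ IsCyclic E)
    (hEU : ∀ U : Subgroup G, U ≤ E → ¬ IsCyclic U → ∀ M : Subgroup G, IsCoatom M → U ≤ M → M = H)
    (hI : ∀ N : Subgroup G, IsPGroup t N → A ≤ normalizer (N : Set G) → N ≤ H)
    (hother : ∀ M : Subgroup G, IsCoatom M → A ≤ M → M ≠ H → ⁅M, M⁆ ≤ fittingOf M)
    {S : Subgroup G} (hSp : ¬ p ∣ Nat.card S) (hAS : A ≤ normalizer (S : Set G)) : S ≤ H := by
  by_contra hSH
  have hpp : p.Prime := hp.out
  obtain ⟨V, hVA, hVe, hVc⟩ := exists_elemAb_of_not_pRankLE hA3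
  obtain ⟨B, hBV, hBcard, hBS⟩ :=
    Cfsg.Agent.Lib.Helper22.exists_hyperplane_centralizer_not_le p V hVe S H hSp
      (hVA.trans hAS) hSH
  have hBe : IsElementaryAbelian p B := elemAb_of_le hVe hBV
  have hBA : B ≤ A := hBV.trans hVA
  -- `p < |B|`
  have hpB : p < Nat.card B := by
    have h1 : p ^ 2 < Nat.card B * p := lt_of_lt_of_le hVc hBcard
    rw [pow_two] at h1
    exact lt_of_mul_lt_mul_right h1 (Nat.zero_le p)
  -- Lemma Z for all nonidentity elements of `B`
  have hZ : ∀ c ∈ B, c ≠ 1 → IsCyclic ↥(E ⊓ centralizer ({c} : Set G)) ∧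
      E ⊓ centralizer ({c} : Set G) ≤ centralizer (A : Set G) := by
    intro c hc hc1
    apply lemmaZ hG hAc hH hAH hHE hEexp hEnc hEU hI hother (hBA hc) hc1
    intro hle
    apply hBS
    refine le_trans ?_ hle
    refine inf_le_right.trans ?_
    apply centralizer_le
    intro x hx
    rw [Set.mem_singleton_iff] at hx
    subst hx
    exact hc
  have hEt : IsPGroup t E := isPGroup_of_exp hEexp
  have hEp : ¬ p ∣ Nat.card E := by
    obtain ⟨k, hk⟩ := IsPGroup.iff_card.mp hEt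
    rw [hk]
    intro h
    have := (Nat.prime_dvd_prime_iff_eq hpp ht.out).mp (hpp.dvd_of_dvd_pow h)
    exact htp this.symm
  -- `A` centralizes `E`
  have hEA : E ≤ centralizer (A : Set G) := by
    by_contra hcon
    obtain ⟨B', hB'B, hB'card, hB'E⟩ :=
      Cfsg.Agent.Lib.Helper22.exists_hyperplane_centralizer_not_le p B hBe E
        (centralizer (A : Set G)) hEp (hBA.trans (hAH.trans hHE)) hcon
    have h1 : 1 < Nat.card B' := by
      have h2 : p < Nat.card B' * p := lt_of_lt_of_le hpB hB'card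
      by_contra h3
      push Not at h3
      have : Nat.card B' * p ≤ 1 * p := Nat.mul_le_mul_right p h3
      omega
    obtain ⟨c, hc, hc1⟩ := exists_ne_one_of_one_lt_card h1
    apply hB'E
    refine le_trans ?_ (hZ c (hB'B hc) hc1).2
    refine inf_le_inf_left E ?_
    apply centralizer_le
    intro x hx
    rw [Set.mem_singleton_iff] at hx
    subst hx
    exact hc
  -- contradiction
  obtain ⟨c, hc, hc1⟩ := exists_ne_one_of_one_lt_card (lt_trans hpp.one_lt hpB)
  have hEc : E ⊓ centralizer ({c} : Set G) = E := by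
    apply inf_eq_left.mpr
    refine hEA.trans ?_
    apply centralizer_le
    intro x hx
    rw [Set.mem_singleton_iff] at hx
    subst hx
    exact hBA hc
  have := (hZ c hc hc1).1
  rw [hEc] at this
  exact hEnc this

/-- `hub_sig`, parametrized by `E` and `hI`. -/
theorem hub_sig_of_E (hG : IsMinSimpleOddOrder G) {p : ℕ} [hp : Fact p.Prime] {A H E : Subgroup G}
    (hAc : ∀ x ∈ A, ∀ y ∈ A, x * y = y * x) (hA3 : ¬ PRankLE p 2 ↥A)
    (hH : IsCoatom H) (hAH : A ≤ H) {t : ℕ} [ht : Fact t.Prime] (htp : t ≠ p)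
    (hHE : H ≤ normalizer (E : Set G))
    (hEexp : ∀ x ∈ E, x ^ t = 1) (hEnc : ¬ IsCyclic E)
    (hEU : ∀ U : Subgroup G, U ≤ E → ¬ IsCyclic U → ∀ M : Subgroup G, IsCoatom M → U ≤ M → M = H)
    (hI : ∀ N : Subgroup G, IsPGroup t N → A ≤ normalizer (N : Set G) → N ≤ H)
    (hother : ∀ M : Subgroup G, IsCoatom M → A ≤ M → M ≠ H → ⁅M, M⁆ ≤ fittingOf M) :
    ∀ s : ℕ, s.Prime → s ≠ p → ∀ S ∈ maxInvSubgroups ⊤ A {s}, S ≤ H := by
  intro s hs hsp S hS
  obtain ⟨⟨-, hSpi, hAS⟩, -⟩ := hS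
  apply hub_sig_core hG hAc hA3 hH hAH htp hHE hEexp hEnc hEU hI hother _ hAS
  intro h
  have := hSpi p hp.out h
  rw [Set.mem_singleton_iff] at this
  exact hsp this.symm

end Cfsg.Agent.Lib.Helper32.BG95
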