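import Cfsg.Agent.Lib.Helper24.BG121
import Cfsg.Agent.Lib.Helper64.BG9
import Cfsg.Agent.Lib.Helper32.BG95Sig

/-!
# Bender–Glauberman Corollary 12.6 (armed on 12.4(a) and 12.5)  -- helper32
-/

set_option autoImplicit false
set_option linter.style.haveILetI false

namespace Cfsg.Agent.Lib.Helper32.BG12

open Cfsg Subgroup

universe u

variable {G : Type u} [Group G] [Finite G]

/-- The conclusion of BG Theorem 12.5 (statement S1417) for `M`, `p`, `A`. -/
def Concl125 (M : Subgroup G) (p : ℕ) (A : Subgroup G) : Prop :=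
  Group.IsNilpotent (Cfsg.sigmaCore M) ∧
    (∀ P : Sylow p M, IsMulCommutative (P : Subgroup M) ∧
      (A ≤ (P : Subgroup M).map M.subtype →
        (∀ x ∈ (P : Subgroup M).map M.subtype, x ^ p = 1 ↔ x ∈ A) ∧
        ¬ Subgroup.normalizer ((((P : Subgroup M).map M.subtype : Subgroup G)) : Set G) ≤ M)) ∧
    M ≤ Subgroup.normalizer ((Cfsg.sigmaCore M ⊔ A : Subgroup G) : Set G) ∧
    Cfsg.sigmaCore M ⊓ Subgroup.centralizer (A : Set G) = ⊥ ∧
    (∀ Mstar : Subgroup G, IsCoatom Mstar → Mstar ≠ M → A ≤ Mstar → Cfsg.sigmaCore M ⊓ Mstar = ⊥) ∧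
    ∃ A₁ : Subgroup G, A₁ ≤ A ∧ Nat.card A₁ = p ∧ Cfsg.sigmaCore M ⊓ Subgroup.centralizer (A₁ : Set G) = ⊥

/-- a `p`-subgroup of `M` lies in (the image of) a Sylow `p`-subgroup of `M` -/
theorem exists_sylow_map_ge {M : Subgroup G} {p : ℕ} [Fact p.Prime] {B : Subgroup G}
    (hBM : B ≤ M) (hBp : IsPGroup p B) :
    ∃ P : Sylow p M, B ≤ (P : Subgroup M).map M.subtype := by
  have hB' : IsPGroup p (B.subgroupOf M) :=
    hBp.of_equiv (Subgroup.subgroupOfEquivOfLe hBM).symm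
  obtain ⟨P, hP⟩ := hB'.exists_le_sylow
  refine ⟨P, ?_⟩
  intro b hb
  exact ⟨⟨b, hBM hb⟩, hP (Subgroup.mem_subgroupOf.mpr hb), rfl⟩

/-- `E ∩ M_σ A = A` for `A ≤ E`. -/
theorem mem_of_mem_sup_sigmaCore {M E A : Subgroup G} (hE : Cfsg.IsComplIn E (Cfsg.sigmaCore M) M)
    (hAE : A ≤ E) {y : G} (hyE : y ∈ E) (hy : y ∈ Cfsg.sigmaCore M ⊔ A) : y ∈ A := by
  obtain ⟨hEM, hSM, hES, -⟩ := hE
  have hAS : A ≤ normalizer ((Cfsg.sigmaCore M : Subgroup G) : Set G) :=
    (hAE.trans hEM).trans (Cfsg.Agent.Lib.Helper24.BG.le_normalizer_sigmaCore M)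
  have hy' : y ∈ ((Cfsg.sigmaCore M ⊔ A : Subgroup G) : Set G) := hy
  rw [coe_mul_of_right_le_normalizer_left (Cfsg.sigmaCore M) A hAS, Set.mem_mul] at hy'
  obtain ⟨s, hs, a, ha, rfl⟩ := hy'
  have hsE : s ∈ E := by
    have : s = s * a * a⁻¹ := by group
    rw [this]
    exact E.mul_mem hyE (E.inv_mem (hAE ha))
  have : s ∈ E ⊓ Cfsg.sigmaCore M := ⟨hsE, hs⟩
  rw [hES, mem_bot] at this
  rw [this, one_mul]
  exact ha

/-- **BG Corollary 12.6**, from 12.4(a) (`C_G(A) ≤ M`) and the conclusion of 12.5. -/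
theorem bg126 (hG : Cfsg.IsMinSimpleOddOrder G) {M : Subgroup G} (hM : IsCoatom M) {E : Subgroup G}
    (hE : Cfsg.IsComplIn E (Cfsg.sigmaCore M) M) {p : ℕ} [hpf : Fact p.Prime]
    {A : Subgroup G} (hA : A ≤ E ∧ Cfsg.IsElementaryAbelian p A ∧ Nat.card A = p ^ 2)
    (hCA : Subgroup.centralizer (A : Set G) ≤ M) (h125 : Concl125 M p A) :
    (E ≤ Subgroup.normalizer (A : Set G) ∧ ∀ X : Subgroup G, X ≤ E → Nat.card X = p → X ≤ A) ∧
      (Subgroup.centralizer (A : Set G) ≤ M ⊓ Subgroup.normalizer (A : Set G) ∧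
        M ⊓ Subgroup.normalizer (A : Set G) = E ∧ ¬ Subgroup.normalizer (A : Set G) ≤ M) ∧
      ∀ X : Subgroup G, X ≤ A → Nat.card X = p →
        Cfsg.sigmaCore M ⊓ Subgroup.centralizer (X : Set G) ≠ ⊥ →
        (Subgroup.centralizer (X : Set G) ≤ M ∧
          ∀ L : Subgroup G, IsCoatom L → Subgroup.centralizer (X : Set G) ≤ L → L = M) := by
  have hp : p.Prime := hpf.out
  obtain ⟨hAE, hAe, hAcard⟩ := hA
  obtain ⟨-, h125b, h125c, h125d, h125e, -⟩ := h125
  have hEM : E ≤ M := hE.1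
  have hSM : Cfsg.sigmaCore M ≤ M := hE.2.1
  have hES : E ⊓ Cfsg.sigmaCore M = ⊥ := hE.2.2.1
  have hprod := hE.2.2.2
  have hAM : A ≤ M := hAE.trans hEM
  have hAp : IsPGroup p A := Cfsg.Agent.Lib.Helper32.BG95.isPGroup_of_exp hAe.2
  have hAc : ∀ x ∈ A, ∀ y ∈ A, x * y = y * x := fun x hx y hy =>
    by simpa using congrArg Subtype.val (hAe.1.is_comm.comm (⟨x, hx⟩ : ↥A) ⟨y, hy⟩)
  -- (a1) `A ⊴ E`
  have hEA : E ≤ Subgroup.normalizer (A : Set G) := by
    have key : ∀ e ∈ E, ∀ a ∈ A, e * a * e⁻¹ ∈ A := by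
      intro e he a ha
      apply mem_of_mem_sup_sigmaCore hE hAE (E.mul_mem (E.mul_mem he (hAE ha)) (E.inv_mem he))
      have := h125c (hEM he)
      rw [mem_normalizer_iff] at this
      exact (this a).mp (Subgroup.mem_sup_right ha)
    intro e he
    rw [mem_normalizer_iff]
    intro a
    constructor
    · exact key e he a
    · intro h
      have := key e⁻¹ (E.inv_mem he) _ h
      have h2 : e⁻¹ * (e * a * e⁻¹) * e⁻¹⁻¹ = a := by group
      rwa [h2] at this
  -- (a2) `A` contains all subgroups of order `p` of `E`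
  have hXA : ∀ X : Subgroup G, X ≤ E → Nat.card X = p → X ≤ A := by
    intro X hXE hXcard
    have hXp : IsPGroup p X := IsPGroup.of_card (n := 1) (by rw [hXcard, pow_one])
    have hXA' : X ≤ normalizer (A : Set G) := hXE.trans hEA
    have hsup : IsPGroup p ↥(X ⊔ A) := IsPGroup.to_sup_of_normal_right' hXp hAp hXA'
    obtain ⟨P, hP⟩ := exists_sylow_map_ge (sup_le (hXE.trans hEM) hAM) hsup
    have h1 := ((h125b P).2 (le_sup_right.trans hP)).1
    intro x hx
    apply (h1 x (hP (Subgroup.mem_sup_left hx))).mp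
    have : (⟨x, hx⟩ : ↥X) ^ p = 1 := by
      rw [← hXcard]
      exact pow_card_eq_one'
    simpa using congrArg Subtype.val this
  refine ⟨⟨hEA, hXA⟩, ⟨le_inf hCA (Subgroup.centralizer_le_normalizer _), ?_, ?_⟩, ?_⟩
  · -- `N_M(A) = E`
    apply le_antisymm
    · rintro m ⟨hmM, hmN⟩
      obtain ⟨e, he, s, hs, rfl⟩ := hprod m hmM
      have hsN : s ∈ normalizer (A : Set G) := by
        have : s = e⁻¹ * (e * s) := by group
        rw [this]
        exact (normalizer (A : Set G)).mul_mem ((normalizer (A : Set G)).inv_mem (hEA he)) hmN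
      have hsC : s ∈ Cfsg.sigmaCore M ⊓ centralizer (A : Set G) := by
        refine ⟨hs, ?_⟩
        change s ∈ centralizer (A : Set G)
        rw [mem_centralizer_iff]
        intro a ha
        -- `[s, a] ∈ A ∩ M_σ = 1`
        have h1 : s * a * s⁻¹ ∈ A := by
          rw [mem_normalizer_iff] at hsN
          exact (hsN a).mp ha
        have h2 : s * a * s⁻¹ * a⁻¹ ∈ A := A.mul_mem h1 (A.inv_mem ha)
        have h3 : s * a * s⁻¹ * a⁻¹ ∈ Cfsg.sigmaCore M := by
          have h4 : a * s⁻¹ * a⁻¹ ∈ Cfsg.sigmaCore M :=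
            Cfsg.Agent.Lib.Helper24.BG.sigmaCore_conj_mem M (hAM ha)
              ((Cfsg.sigmaCore M).inv_mem hs)
          have : s * a * s⁻¹ * a⁻¹ = s * (a * s⁻¹ * a⁻¹) := by group
          rw [this]
          exact (Cfsg.sigmaCore M).mul_mem hs h4
        have h5 : s * a * s⁻¹ * a⁻¹ ∈ E ⊓ Cfsg.sigmaCore M := ⟨hAE h2, h3⟩
        rw [hES, mem_bot] at h5
        have h6 : s * a * s⁻¹ = a := mul_inv_eq_one.mp h5
        calc a * s = s * a * s⁻¹ * s := by rw [h6]
          _ = s * a := by group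
      rw [h125d, mem_bot] at hsC
      rw [hsC, mul_one]
      exact he
    · exact le_inf hEM hEA
  · -- `N_G(A) ≰ M`
    obtain ⟨P, hP⟩ := exists_sylow_map_ge hAM hAp
    obtain ⟨h1, h2⟩ := (h125b P).2 hP
    intro hle
    apply h2
    refine le_trans ?_ hle
    have key : ∀ g ∈ normalizer ((((P : Subgroup M).map M.subtype : Subgroup G)) : Set G),
        ∀ a ∈ A, g * a * g⁻¹ ∈ A := by
      intro g hg a ha
      have hga : g * a * g⁻¹ ∈ (P : Subgroup M).map M.subtype := by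
        rw [mem_normalizer_iff] at hg
        exact (hg a).mp (hP ha)
      apply (h1 _ hga).mp
      rw [conj_pow, hAe.2 a ha]
      group
    intro g hg
    rw [mem_normalizer_iff]
    intro a
    constructor
    · exact key g hg a
    · intro h
      have := key g⁻¹ (Subgroup.inv_mem _ hg) _ h
      have h2 : g⁻¹ * (g * a * g⁻¹) * g⁻¹⁻¹ = a := by group
      rwa [h2] at this
  · -- (c)
    intro X hXA hXcard hXne
    have hAX : A ≤ centralizer (X : Set G) := by
      intro a ha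
      rw [mem_centralizer_iff]
      intro x hx
      exact hAc x (hXA hx) a ha
    have huniq : ∀ L : Subgroup G, IsCoatom L → Subgroup.centralizer (X : Set G) ≤ L → L = M := by
      intro L hL hXL
      by_contra hne
      apply hXne
      rw [eq_bot_iff, ← h125e L hL hne (hAX.trans hXL)]
      exact inf_le_inf_left _ hXL
    -- `C_G(X) ≠ ⊤`
    have hXtop : centralizer (X : Set G) ≠ ⊤ := by
      have h1 : 1 < Nat.card X := by rw [hXcard]; exact hp.one_lt
      obtain ⟨x, hx, hx1⟩ := Cfsg.Agent.Lib.Helper32.BG95.exists_ne_one_of_one_lt_card h1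
      intro htop
      apply Cfsg.Agent.Lib.Helper64.BG9.centralizer_singleton_ne_top hG hx1
      rw [eq_top_iff, ← htop]
      apply centralizer_le
      rw [Set.singleton_subset_iff]
      exact hx
    obtain ⟨L, hL, hXL⟩ := Cfsg.Agent.Lib.Helper64.BG9.exists_coatom_ge hXtop
    have := huniq L hL hXL
    exact ⟨this ▸ hXL, huniq⟩

end Cfsg.Agent.Lib.Helper32.BG12
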