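import Cfsg.Prelude.Def_OddOrderLocal

/-!
# BG Theorem 14.2 (S1430 / S1431): shared Prop-level interface

Hypothesis-style statements so that the pieces written by different seats compose.
-/

set_option autoImplicit false
universe u

namespace Cfsg.Agent.Lib.Helper32.BG142

open Subgroup Cfsg

variable (G : Type u) [Group G]

/-- BG 13.9, second clause of S1378: maximal subgroups with a common `σ`-prime are conjugate. -/
def SigmaDisj : Prop :=
  ∀ M N : Subgroup G, IsCoatom M → IsCoatom N → (sigma M ∩ sigma N).Nonempty →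
    ∃ g : G, N = M.map (MulAut.conj g).toMonoidHom

/-- S1428 = BG 13.4 verbatim, as a Prop. -/
def Stmt1428 : Prop :=
  ∀ (M : Subgroup G), IsCoatom M → ∀ (E : Subgroup G), IsComplIn E (sigmaCore M) M →
    ∀ (p : ℕ), p ∈ tau1 M → ∀ (P : Subgroup G), P ≤ E → Nat.card P = p →
    ∀ (R : Subgroup G), R ≤ E ⊓ centralizer (P : Set G) → (Nat.card R).Prime →
      sigmaCore M ⊓ centralizer (P : Set G) ≤ sigmaCore M ⊓ centralizer (R : Set G)

/-- (A) = BG 13.10/13.11 + 14.2 preamble: `κ(M) ⊆ τ₁(M)` for every maximal subgroup. -/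
def KappaTau1 : Prop :=
  ∀ M : Subgroup G, IsCoatom M → kappa M ⊆ tau1 M

/-- STEP A = BG 14.2(d) for `τ₁`-primes: a nonregular subgroup `X` of order `p ∈ τ₁(M)`
has `p ∈ σ(L)` for every maximal `L ≥ N_G(X)`. -/
def StepA : Prop :=
  ∀ (M : Subgroup G), IsCoatom M → ∀ (X : Subgroup G), X ≤ M → Nat.card X ∈ tau1 M →
    sigmaCore M ⊓ centralizer (X : Set G) ≠ ⊥ →
    ∀ L : Subgroup G, IsCoatom L → normalizer (X : Set G) ≤ L → Nat.card X ∈ sigma L

/-- Lemma E (helper30/helper70) = BG 14.2(d) for `τ₁ ∪ τ₃`; same shape as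
`Helper23.BG1310.StmtE`. -/
def StmtE : Prop :=
  ∀ M H : Subgroup G, IsCoatom M → IsCoatom H → ∀ p : ℕ, p ∈ tau1 M ∪ tau3 M →
    ∀ X : Subgroup G, Nat.card X = p → X ≤ M →
      sigmaCore M ⊓ centralizer (X : Set G) ≠ ⊥ → normalizer (X : Set G) ≤ H → p ∈ sigma H

/-- BG 13.10(b) (`tau13_regular`), helper23's target shape: a `τ₁(M)`-subgroup of prime order
of `E` moving a `τ₃(M)`-subgroup `Z` of prime order of `E` forces `C_{M_σ}(Z) = 1`. -/
def Stmt1310 : Prop :=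
  ∀ M E : Subgroup G, IsCoatom M → IsComplIn E (sigmaCore M) M →
    ∀ p : ℕ, p ∈ tau1 M → ∀ P : Subgroup G, P ≤ E → Nat.card P = p →
    ∀ q : ℕ, q ∈ tau3 M → ∀ Z : Subgroup G, Z ≤ E → Nat.card Z = q →
      ¬ Z ≤ centralizer (P : Set G) → sigmaCore M ⊓ centralizer (Z : Set G) = ⊥

/-- BG 13.12 (`tau12_regular`), helper10/helper47's shape. -/
def Stmt1312 : Prop :=
  ∀ M E : Subgroup G, IsCoatom M → IsComplIn E (sigmaCore M) M →
    ∀ p : ℕ, p ∈ tau1 M → ∀ P : Subgroup G, P ≤ E → Nat.card P = p →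
    ∀ q : ℕ, q ∈ tau2 M → ∀ A : Subgroup G, A ≤ E → IsElementaryAbelian q A →
      Nat.card A = q ^ 2 → A ⊓ centralizer (P : Set G) ≠ ⊥ →
      sigmaCore M ⊓ centralizer (P : Set G) = ⊥

/-- helper23's piece C (`pin_of_cent`, = helper30's (Z)), with the rank statement added. -/
def StmtPin : Prop :=
  ∀ M H : Subgroup G, IsCoatom M → IsCoatom H →
    (∀ g : G, H ≠ M.map (MulAut.conj g).toMonoidHom) →
    ∀ q : ℕ, q.Prime → q ∈ sigma H → ∀ Z : Subgroup G, Nat.card Z = q → Z ≤ H →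
      sigmaCore M ⊓ H ≤ centralizer (Z : Set G) →
    ∀ t : ℕ, t.Prime → ∀ S : Subgroup G, IsPGroup t S → S ≠ ⊥ → S ≤ sigmaCore M ⊓ H →
      IsCyclic S ∧ normalizer (S : Set G) ≤ M ∧ PRankLE t 1 ↥H

end Cfsg.Agent.Lib.Helper32.BG142
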