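import Mathlib
import Cfsg.Prelude.Def_OddOrderLocal
import Cfsg.Agent.Lib.Helper32.BG142Defs
import Cfsg.Agent.Lib.Helper63.BG13a
import Cfsg.Agent.Lib.Helper67.ZGroupConj
import Cfsg.Agent.Lib.Helper47.BG11e

/-!
# BG 14.2 (S1430): leaves G1, G2, G5 on `κ(M)`
-/

set_option autoImplicit false
set_option linter.style.haveILetI false
set_option linter.unusedSectionVars false
set_option linter.unusedVariables false

namespace Cfsg.Agent.Lib.Helper32.BG142

open Subgroup Cfsg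
open scoped Pointwise

universe u

variable {G : Type u} [Group G] [Finite G]

/-- if all Sylow `p`-subgroups are cyclic the `p`-rank is at most one -/
theorem pRankLE_one_of_sylow_cyclic {T : Type*} [Group T] [Finite T] {p : ℕ} (hp : p.Prime)
    (h : ∀ P : Sylow p T, IsCyclic P) : PRankLE p 1 T := by
  haveI : Fact p.Prime := ⟨hp⟩
  intro A _ hAe
  by_contra hcon
  push Not at hcon
  rw [pow_one] at hcon
  have hAp : IsPGroup p A := by
    intro a
    refine ⟨1, ?_⟩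
    rw [pow_one]
    exact Subtype.ext (hAe a a.2)
  obtain ⟨P, hP⟩ := hAp.exists_le_sylow
  haveI := h P
  have hAc : IsCyclic A := by
    have : IsCyclic (A.subgroupOf (P : Subgroup T)) := Subgroup.isCyclic _
    exact isCyclic_of_surjective (Subgroup.subgroupOfEquivOfLe hP).toMonoidHom
      (Subgroup.subgroupOfEquivOfLe hP).surjective
  exact Cfsg.Agent.Lib.Helper64.BG9.not_isCyclic_of_exp hp A hAe hcon hAc

/-- LEAF G1: `κ(M) ⊆ τ₁(M) ∪ τ₃(M)`. -/
theorem kappa_subset_tau13 (hG : IsMinSimpleOddOrder G) {M : Subgroup G} {p : ℕ}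
    (hp : p ∈ kappa M) : p ∈ tau1 M ∪ tau3 M := by
  obtain ⟨hpp, hpM, hpσ, hS⟩ := hp
  have hr : PRankLE p 1 ↥M := pRankLE_one_of_sylow_cyclic hpp (fun P => (hS P).1)
  by_cases hd : p ∣ Nat.card ↥⁅M, M⁆
  · exact Or.inr ⟨hpp, hpσ, hd, hr⟩
  · exact Or.inl ⟨hpp, hpσ, hpM, hd, hr⟩

/-- in a cyclic `p`-subgroup, a subgroup of order `p` is contained in `zpowers x` for `x ≠ 1` -/
theorem le_zpowers_of_isCyclic {p : ℕ} [hp : Fact p.Prime] {P X : Subgroup G} (hPc : IsCyclic P)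
    (hPp : IsPGroup p P) (hXP : X ≤ P) (hX : Nat.card X = p) {x : G} (hxP : x ∈ P) (hx1 : x ≠ 1) :
    X ≤ zpowers x := by
  obtain ⟨k, hk⟩ := (IsPGroup.iff_orderOf.mp hPp) ⟨x, hxP⟩
  rw [Subgroup.orderOf_mk] at hk
  have hk0 : k ≠ 0 := by
    rintro rfl
    rw [pow_zero, orderOf_eq_one_iff] at hk
    exact hx1 hk
  have hpd : p ∣ orderOf x := by rw [hk]; exact dvd_pow_self p hk0
  set x0 : G := x ^ (orderOf x / p) with hx0
  have hx0o : orderOf x0 = p := orderOf_pow_orderOf_div (orderOf_pos x).ne' hpd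
  have hx0P : zpowers x0 ≤ P := by
    rw [zpowers_le]; exact pow_mem hxP _
  haveI := hPc
  have heq : X = zpowers x0 :=
    Cfsg.Agent.Lib.Helper67.eq_of_le_isCyclic_of_card_eq P X (zpowers x0) hXP hx0P
      (by rw [hX, Nat.card_zpowers, hx0o])
  rw [heq, zpowers_le]
  exact pow_mem (mem_zpowers x) _

/-- LEAF G2: a subgroup of order `p ∈ κ(M)` of `M` is nonregular on `M_σ`. -/
theorem cent_ne_bot_of_kappa (hG : IsMinSimpleOddOrder G) {M X : Subgroup G} (hM : IsCoatom M)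
    {p : ℕ} (hp : p ∈ kappa M) (hXM : X ≤ M) (hX : Nat.card X = p) :
    sigmaCore M ⊓ centralizer (X : Set G) ≠ ⊥ := by
  obtain ⟨hpp, hpM, hpσ, hS⟩ := hp
  haveI : Fact p.Prime := ⟨hpp⟩
  have hXp : IsPGroup p (X.subgroupOf M) := by
    have : IsPGroup p X := IsPGroup.of_card (n := 1) (by rw [hX, pow_one])
    exact this.comap_subtype
  obtain ⟨P, hP⟩ := hXp.exists_le_sylow
  obtain ⟨hPc, x, hxP, hx1, y, hyW, hy1, hxy⟩ := hS P
  set P' : Subgroup G := (P : Subgroup M).map M.subtype with hP'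
  have hP'c : IsCyclic P' := by
    haveI := hPc
    exact isCyclic_of_surjective ((M.subtype).subgroupMap (P : Subgroup M))
      ((M.subtype).subgroupMap_surjective (P : Subgroup M))
  have hP'p : IsPGroup p P' := P.isPGroup'.map M.subtype
  have hXP' : X ≤ P' := by
    intro a ha
    exact ⟨⟨a, hXM ha⟩, hP (by rw [mem_subgroupOf]; exact ha), rfl⟩
  have hxP' : (x : G) ∈ P' := ⟨x, hxP, rfl⟩
  have hx1' : (x : G) ≠ 1 := fun h => hx1 (Subtype.ext h)
  have hXz := le_zpowers_of_isCyclic hP'c hP'p hXP' hX hxP' hx1'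
  intro hbot
  have hy : y ∈ sigmaCore M ⊓ centralizer (X : Set G) := by
    refine ⟨hyW, ?_⟩
    show y ∈ centralizer (X : Set G)
    rw [mem_centralizer_iff]
    intro a ha
    obtain ⟨k, rfl⟩ := mem_zpowers_iff.mp (hXz ha)
    exact ((show Commute (x : G) y from hxy).zpow_left k).eq
  rw [hbot, mem_bot] at hy
  exact hy1 hy

/-- LEAF G5: a rank-one prime `r ∉ σ(M)` with a nonregular subgroup of order `r` lies in `κ(M)`. -/
theorem mem_kappa_of_cent (hG : IsMinSimpleOddOrder G) {M R : Subgroup G} (hM : IsCoatom M)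
    {r : ℕ} (hr : r ∈ tau1 M ∪ tau3 M) (hRM : R ≤ M) (hR : Nat.card R = r)
    (hne : sigmaCore M ⊓ centralizer (R : Set G) ≠ ⊥) : r ∈ kappa M := by
  have hrp : r.Prime := by rcases hr with h | h <;> exact h.1
  haveI : Fact r.Prime := ⟨hrp⟩
  have hrσ : r ∉ sigma M := by rcases hr with h | h <;> exact h.2.1
  have hrk : PRankLE r 1 ↥M := by
    rcases hr with h | h
    · exact h.2.2.2.2
    · exact h.2.2.2
  have hrM : r ∣ Nat.card M := by rw [← hR]; exact Subgroup.card_dvd_of_le hRM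
  have hr2 : r ≠ 2 :=
    Cfsg.Agent.Lib.Helper63.BG10.ne_two_of_dvd hG (hrM.trans (Subgroup.card_subgroup_dvd_card M))
  refine ⟨hrp, hrM, hrσ, fun P => ?_⟩
  have hPc : IsCyclic (P : Subgroup M) := by
    apply Cfsg.Agent.Lib.Helper49.isCyclic_of_isPGroup_rankLEOne hr2 P.isPGroup'
    have hinj : PRankLE r 1 ↥(P : Subgroup M) :=
      Cfsg.Agent.Lib.Helper63.BG10.pRankLE_of_injective (P : Subgroup M).subtype (P : Subgroup M).subtype_injective hrk
    intro B hB hexp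
    have := hinj B hB hexp
    rwa [pow_one] at this
  refine ⟨hPc, ?_⟩
  -- a conjugate of `R` lies in `P`
  have hRp : IsPGroup r (R.subgroupOf M) := by
    have : IsPGroup r R := IsPGroup.of_card (n := 1) (by rw [hR, pow_one])
    exact this.comap_subtype
  obtain ⟨Q, hQ⟩ := hRp.exists_le_sylow
  obtain ⟨m, hm⟩ := MulAction.exists_smul_eq M Q P
  -- nontrivial elements
  obtain ⟨⟨y, hyW, hyR⟩, hy1⟩ := (Subgroup.ne_bot_iff_exists_ne_one).mp hne
  have hy1' : y ≠ 1 := fun h => hy1 (Subtype.ext h)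
  have hR1 : R ≠ ⊥ := by
    intro h; rw [h, Subgroup.card_bot] at hR; exact hrp.one_lt.ne hR
  obtain ⟨⟨x, hxR⟩, hx1⟩ := (Subgroup.ne_bot_iff_exists_ne_one).mp hR1
  have hx1' : x ≠ 1 := fun h => hx1 (Subtype.ext h)
  have hxM : x ∈ M := hRM hxR
  have hxQ : (⟨x, hxM⟩ : M) ∈ (Q : Subgroup M) := hQ (by rw [mem_subgroupOf]; exact hxR)
  -- conjugate by `m`
  have hmx : m * ⟨x, hxM⟩ * m⁻¹ ∈ (P : Subgroup M) := by
    rw [← hm]
    show m * ⟨x, hxM⟩ * m⁻¹ ∈ MulAut.conj m • (Q : Subgroup M)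
    have := Subgroup.smul_mem_pointwise_smul _ (MulAut.conj m) _ hxQ
    simpa [MulAut.smul_def, MulAut.conj_apply] using this
  refine ⟨m * ⟨x, hxM⟩ * m⁻¹, hmx, ?_, (m : G) * y * (m : G)⁻¹, ?_, ?_, ?_⟩
  · intro h
    apply hx1'
    have h2 : (⟨x, hxM⟩ : M) = 1 := by
      have := congrArg (fun z => m⁻¹ * z * m) h
      simpa [mul_assoc] using this
    exact congrArg Subtype.val h2
  · exact Cfsg.Agent.Lib.Helper24.BG.sigmaCore_conj_mem M m.2 hyW
  · intro h
    apply hy1'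
    have := congrArg (fun z => (m : G)⁻¹ * z * (m : G)) h
    simpa [mul_assoc] using this
  · have hxy : x * y = y * x := mem_centralizer_iff.mp hyR x hxR
    push_cast
    calc (m : G) * x * (m : G)⁻¹ * ((m : G) * y * (m : G)⁻¹)
        = (m : G) * (x * y) * (m : G)⁻¹ := by group
      _ = (m : G) * (y * x) * (m : G)⁻¹ := by rw [hxy]
      _ = (m : G) * y * (m : G)⁻¹ * ((m : G) * x * (m : G)⁻¹) := by group

/-- LEAF G0 (own copy): a Hall `κ(M)`-subgroup lies in a complement of `M_σ`. -/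
theorem exists_compl_ge_kappa' (hG : IsMinSimpleOddOrder G) {M K : Subgroup G} (hM : IsCoatom M)
    (hK : IsPiHallOf (kappa M) K M) : ∃ E : Subgroup G, IsComplIn E (sigmaCore M) M ∧ K ≤ E := by
  have hσ := Cfsg.Agent.Lib.Helper47.BG11.sigmaHallIn_of_coatom hG hM
  apply Cfsg.Agent.Lib.Helper63.BG13.exists_compl_ge hG hM.1 hσ hK.1
  apply Nat.coprime_of_dvd
  intro k hk hkK hkW
  have h1 : k ∈ kappa M := hK.2.1 k hk hkK
  exact h1.2.2.1 (hσ.2.1 k hk hkW)

/-- LEAF G4 (own copy): a subgroup of order `p ∈ σ(L)` of `L` lies in `L_σ`. -/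
theorem le_sigmaCore_of_card' (hG : IsMinSimpleOddOrder G) {L X : Subgroup G} (hL : IsCoatom L)
    {p : ℕ} (hp : p ∈ sigma L) (hX : Nat.card X = p) (hXL : X ≤ L) : X ≤ sigmaCore L := by
  haveI : Fact p.Prime := ⟨hp.1⟩
  exact Cfsg.Agent.Lib.Helper47.BG11.le_sigmaCore_of_sigma
    (Cfsg.Agent.Lib.Helper47.BG11.sigmaHallIn_of_coatom hG hL) hp hXL
    (IsPGroup.of_card (n := 1) (by rw [hX, pow_one]))

end Cfsg.Agent.Lib.Helper32.BG142
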