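import Mathlib
import Cfsg.Prelude.Def_OddOrderLocal
import Cfsg.Agent.Lib.Helper10.BG139T12
import Cfsg.Agent.Lib.Helper32.BG142Defs
import Cfsg.Agent.S1428

/-!
# BG 14.2, piece SP: a Hall `κ(M)`-subgroup acts semiprimely on `M_σ` (given `κ ⊆ τ₁` and 13.4)
-/

set_option autoImplicit false
set_option linter.style.haveILetI false
set_option linter.unusedSectionVars false
set_option linter.unusedVariables false

namespace Cfsg.Agent.Lib.Helper32.BG142

open Subgroup Cfsg
open Cfsg.Agent.Lib.Helper33 (cj cj_def mem_cj mem_cj' card_cj cj_eq_self_iff conj_mem_cj)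
open Cfsg.Agent.Lib.Helper63
open scoped commutatorElement
open Cfsg.Agent.Lib.Helper19.BG124 (sigmaHallIn uniqStmt)

universe u

variable {G : Type u} [Group G] [Finite G]

/-- helper10's `semiprime_tau1`, for any commutative `τ₁(M)`-subgroup `T` of `E`. -/
theorem semiprime_of_comm (hG : IsMinSimpleOddOrder G) (h28 : Stmt1428 G) {M E T : Subgroup G}
    (hM : IsCoatom M) (hE : IsComplIn E (sigmaCore M) M) (hTE : T ≤ E)
    (hTcomm : ∀ a ∈ T, ∀ b ∈ T, a * b = b * a)
    (hTτ : ∀ p : ℕ, p.Prime → p ∣ Nat.card T → p ∈ tau1 M) :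
    ∀ x ∈ T, x ≠ 1 → sigmaCore M ⊓ centralizer ({x} : Set G) =
      sigmaCore M ⊓ centralizer (T : Set G) := by
  intro x hxT hx1
  apply le_antisymm
  · rintro a ⟨haσ, hax⟩
    refine ⟨haσ, ?_⟩
    have hax' : x * a = a * x := mem_centralizer_iff.mp hax x rfl
    -- the subgroup of order `p` of `⟨x⟩`
    have ho1 : orderOf x ≠ 1 := by
      rw [Ne, orderOf_eq_one_iff]; exact hx1
    obtain ⟨p, hp, hpd⟩ := Nat.exists_prime_and_dvd ho1
    haveI : Fact p.Prime := ⟨hp⟩
    set u : G := x ^ (orderOf x / p) with hu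
    have huo : orderOf u = p := orderOf_pow_orderOf_div (orderOf_pos x).ne' hpd
    have huT : u ∈ T := T.pow_mem hxT _
    have hua : u * a = a * u := ((show Commute x a from hax').pow_left _).eq
    have hpT : p ∣ Nat.card T := by
      have := orderOf_dvd_natCard (⟨u, huT⟩ : T)
      rwa [Subgroup.orderOf_mk, huo] at this
    have hpτ : p ∈ tau1 M := hTτ p hp hpT
    have hP0c : Nat.card (zpowers u) = p := by rw [Nat.card_zpowers, huo]
    have hP0E : zpowers u ≤ E := zpowers_le.mpr (hTE huT)
    have haP0 : a ∈ sigmaCore M ⊓ centralizer ((zpowers u : Subgroup G) : Set G) := by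
      refine ⟨haσ, ?_⟩
      show a ∈ centralizer ((zpowers u : Subgroup G) : Set G)
      rw [mem_centralizer_iff]
      intro h hh
      obtain ⟨k, rfl⟩ := mem_zpowers_iff.mp hh
      exact ((show Commute u a from hua).zpow_left k).eq
    show a ∈ centralizer (T : Set G)
    rw [mem_centralizer_iff]
    intro t ht
    -- `t ∈ C({a})`
    have key : t ∈ centralizer ({a} : Set G) := by
      apply Cfsg.Agent.Lib.Helper63.mem_of_prime_power_parts
      intro s k j hs hord
      haveI : Fact s.Prime := ⟨hs⟩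
      have ht'T : t ^ k ∈ T := T.pow_mem ht k
      rcases Nat.eq_zero_or_pos j with rfl | hj
      · rw [pow_zero, orderOf_eq_one_iff] at hord
        rw [hord]; exact one_mem _
      have ht'1 : t ^ k ≠ 1 := by
        intro h
        rw [h, orderOf_one] at hord
        have := Nat.one_lt_pow hj.ne' hs.one_lt
        omega
      have hsd : s ∣ orderOf (t ^ k) := by rw [hord]; exact dvd_pow_self s hj.ne'
      set z : G := (t ^ k) ^ (orderOf (t ^ k) / s) with hz
      have hzo : orderOf z = s := orderOf_pow_orderOf_div (orderOf_pos (t ^ k)).ne' hsd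
      have hzT : z ∈ T := T.pow_mem ht'T _
      have hz1 : z ≠ 1 := by
        intro h
        rw [h, orderOf_one] at hzo
        exact hs.one_lt.ne hzo
      have hsT : s ∣ Nat.card T := by
        have := orderOf_dvd_natCard (⟨z, hzT⟩ : T)
        rwa [Subgroup.orderOf_mk, hzo] at this
      have hsτ : s ∈ tau1 M := hTτ s hs hsT
      -- 13.4
      have hR0 : zpowers z ≤ E ⊓ centralizer ((zpowers u : Subgroup G) : Set G) := by
        rw [zpowers_le]
        refine ⟨hTE hzT, ?_⟩
        show z ∈ centralizer ((zpowers u : Subgroup G) : Set G)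
        rw [mem_centralizer_iff]
        intro h hh
        obtain ⟨i, rfl⟩ := mem_zpowers_iff.mp hh
        exact hTcomm _ (T.zpow_mem huT i) _ hzT
      have hR0p : (Nat.card (zpowers z)).Prime := by rw [Nat.card_zpowers, hzo]; exact hs
      have h134 := h28 M hM E hE p hpτ (zpowers u) hP0E hP0c (zpowers z) hR0 hR0p haP0
      have haz : a ∈ sigmaCore M ⊓ centralizer ({z} : Set G) := by
        refine ⟨haσ, ?_⟩
        have := h134.2
        rw [Cfsg.Agent.Lib.Helper10.BG13.centralizer_zpowers'] at this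
        exact this
      -- 13.3: pass to the Sylow subgroup
      have ht'E : t ^ k ∈ E := hTE ht'T
      have hZ : IsPGroup s ((zpowers (t ^ k)).subgroupOf E) := by
        have h1 : IsPGroup s (zpowers (t ^ k)) := by
          apply IsPGroup.of_card (n := j)
          rw [Nat.card_zpowers, hord]
        exact h1.comap_subtype
      obtain ⟨S, hS⟩ := hZ.exists_le_sylow
      have ht'S : (⟨t ^ k, ht'E⟩ : E) ∈ (S : Subgroup E) :=
        hS (by rw [mem_subgroupOf]; exact mem_zpowers _)
      have hS1 : (S : Subgroup E) ≠ ⊥ := by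
        intro h
        rw [h, mem_bot] at ht'S
        exact ht'1 (congrArg Subtype.val ht'S)
      have hsG : s ∣ Nat.card G := hsT.trans (Subgroup.card_subgroup_dvd_card T)
      have hs2 : s ≠ 2 := BG10.ne_two_of_dvd hG hsG
      have hSc : IsCyclic (S : Subgroup E) := by
        apply Cfsg.Agent.Lib.Helper49.isCyclic_of_isPGroup_rankLEOne hs2 S.isPGroup'
        have hinj : PRankLE s 1 ↥(S : Subgroup E) :=
          BG10.pRankLE_of_injective ((Subgroup.inclusion hE.1).comp (S : Subgroup E).subtype)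
            ((Subgroup.inclusion_injective hE.1).comp (S : Subgroup E).subtype_injective)
            hsτ.2.2.2.2
        intro B hB hexp
        have := hinj B hB hexp
        rwa [pow_one] at this
      have ht'S' : t ^ k ∈ (S : Subgroup E).map E.subtype := ⟨⟨t ^ k, ht'E⟩, ht'S, rfl⟩
      have hzS : z ∈ (S : Subgroup E).map E.subtype := pow_mem ht'S' _
      have h27 := Cfsg.Agent.S1427.result hG M hM E hE s S hS1 hSc z hzS hz1
      rw [h27] at haz
      have := mem_centralizer_iff.mp haz.2 (t ^ k) ht'S'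
      show t ^ k ∈ centralizer ({a} : Set G)
      rw [mem_centralizer_iff]
      intro h hh
      rw [Set.mem_singleton_iff] at hh
      rw [hh]
      exact this.symm
    exact (mem_centralizer_iff.mp key a rfl).symm
  · exact inf_le_inf_left _ (Subgroup.centralizer_le (Set.singleton_subset_iff.mpr hxT))

/-- (copy of leaf I1) `K` is abelian when `κ(M) ⊆ τ₁(M)`. -/
theorem semiprime_caseI_comm {M K : Subgroup G} (hK : IsPiHallOf (kappa M) K M)
    (hκ : kappa M ⊆ tau1 M) : ∀ a ∈ K, ∀ b ∈ K, a * b = b * a := by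
  intro a ha b hb
  set c : G := ⁅a, b⁆ with hc
  have hcK : c ∈ K := by
    rw [hc, commutatorElement_def]
    exact K.mul_mem (K.mul_mem (K.mul_mem ha hb) (K.inv_mem ha)) (K.inv_mem hb)
  have hcM : c ∈ ⁅M, M⁆ := Subgroup.commutator_mem_commutator (hK.1 ha) (hK.1 hb)
  have hc1 : c = 1 := by
    by_contra hne
    have ho1 : orderOf c ≠ 1 := by
      rw [Ne, orderOf_eq_one_iff]; exact hne
    obtain ⟨p, hp, hpd⟩ := Nat.exists_prime_and_dvd ho1
    have hpK : p ∣ Nat.card K := by
      have := orderOf_dvd_natCard (⟨c, hcK⟩ : K)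
      rw [Subgroup.orderOf_mk] at this
      exact hpd.trans this
    have hpM' : p ∣ Nat.card ↥⁅M, M⁆ := by
      have := orderOf_dvd_natCard (⟨c, hcM⟩ : ↥⁅M, M⁆)
      rw [Subgroup.orderOf_mk] at this
      exact hpd.trans this
    exact (hκ (hK.2.1 p hp hpK)).2.2.2.1 hpM'
  rw [hc, commutatorElement_def] at hc1
  calc a * b = (a * b * a⁻¹ * b⁻¹) * (b * a) := by group
    _ = b * a := by rw [hc1, one_mul]

/-- LEAF I2: `K` acts semiprimely (from `semiprime_of_comm`, S1427 + S1428). -/
theorem semiprime_caseI (hG : IsMinSimpleOddOrder G) {M E K : Subgroup G} (hM : IsCoatom M)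
    (hE : IsComplIn E (sigmaCore M) M) (hK : IsPiHallOf (kappa M) K M) (hKE : K ≤ E)
    (hκ : kappa M ⊆ tau1 M) :
    ∀ k ∈ K, k ≠ 1 → sigmaCore M ⊓ centralizer ({k} : Set G) =
      sigmaCore M ⊓ centralizer (K : Set G) :=
  semiprime_of_comm hG
    (fun M hM E hE p hp P hPE hP R hRE hR =>
      Cfsg.Agent.S1428.result hG M hM E hE p hp P hPE hP R hRE hR)
    hM hE hKE (semiprime_caseI_comm hK hκ) (fun p hp hpK => hκ (hK.2.1 p hp hpK))

end Cfsg.Agent.Lib.Helper32.BG142
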