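import Mathlib
import Cfsg.Prelude.Def_OddOrderLocal
import Cfsg.Agent.Lib.Helper32.BG142Defs
import Cfsg.Agent.Lib.Helper32.BG142A
import Cfsg.Agent.Lib.Helper32.BG142SP
import Cfsg.Agent.Lib.Helper70.BG142L6
import Cfsg.Agent.Lib.Helper24.BG142II
import Cfsg.Agent.Lib.Helper30.BG142I4
import Cfsg.Agent.Lib.Helper81.BG142G3
import Cfsg.Agent.Lib.Helper64.BG142I3
import Cfsg.Agent.Lib.Helper19.BG142L1
import Cfsg.Agent.Lib.Helper19.BG142L2
import Cfsg.Agent.Lib.Helper19.BG142L5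
import Cfsg.Agent.Lib.Helper19.BG142L7
import Cfsg.Agent.Lib.Helper62.BG142L8

/-!
# BG Theorem 14.2(a)-(d) = S1430 : assembly from the leaves

Leaves by helper19, helper24, helper30, helper62, helper64, helper70, helper81, helper96 (see
`tools/helper32/BG142Skel.lean.txt`).  Hypotheses (Prop-level, `BG142Defs`): `SigmaDisj` (S1378b),
`StmtE` (Lemma E), `Stmt1310`, `Stmt1312`, `StmtPin`.  `W := sigmaCore M`.
-/

set_option autoImplicit false
set_option linter.style.haveILetI false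
set_option linter.unusedSectionVars false
set_option linter.unusedVariables false

namespace Cfsg.Agent.Lib.Helper32.BG142

open Subgroup Cfsg

universe u

variable {G : Type u} [Group G] [Finite G]

/-- BG 13.11: the exceptional structure (assembled from L1-L8). -/
theorem exc_structure (hG : IsMinSimpleOddOrder G) (h78 : SigmaDisj G) (hLE : StmtE G)
    (h1310 : Stmt1310 G) (hPin : StmtPin G) {M E : Subgroup G} (hM : IsCoatom M)
    (hE : IsComplIn E (sigmaCore M) M) {q : ℕ} (hq3 : q ∈ tau3 M) (hqκ : q ∈ kappa M) :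
    sigmaCore M ⊓ centralizer (E : Set G) ≠ ⊥ ∧
      (∀ e ∈ E, e ≠ 1 → sigmaCore M ⊓ centralizer ({e} : Set G) =
        sigmaCore M ⊓ centralizer (E : Set G)) ∧
      ∀ X : Subgroup G, X ≤ E → (Nat.card X).Prime → E ≤ normalizer (X : Set G) := by
  classical
  have hqp : q.Prime := hq3.1
  haveI : Fact q.Prime := ⟨hqp⟩
  -- a subgroup `Z ≤ E` of order `q`
  have hqE : q ∣ Nat.card E := by
    rcases (Nat.Prime.dvd_mul hqp).mp
      ((Cfsg.Agent.Lib.Helper23.card_isComplIn hE) ▸ hqκ.2.1) with h | h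
    · exact h
    · exact absurd (Cfsg.Agent.Lib.Helper47.BG11.mem_sigma_of_dvd_card_le le_rfl hqp h) hq3.2.1
  obtain ⟨z, hz⟩ := exists_prime_orderOf_dvd_card' q hqE
  set Z : Subgroup G := zpowers (z : G) with hZdef
  have hZE : Z ≤ E := by rw [hZdef, zpowers_le]; exact z.2
  have hZ : Nat.card Z = q := by rw [hZdef, Nat.card_zpowers, Subgroup.orderOf_coe, hz]
  have hZne : sigmaCore M ⊓ centralizer (Z : Set G) ≠ ⊥ :=
    cent_ne_bot_of_kappa hG hM hqκ (hZE.trans hE.1) hZ
  have hτ2 := exc_tau2 hG hLE hM hE hq3 hZE hZ hZne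
  -- all prime-order subgroups have centralizer `Y`
  have hY : ∀ X : Subgroup G, X ≤ E → (Nat.card X).Prime →
      sigmaCore M ⊓ centralizer (X : Set G) = sigmaCore M ⊓ centralizer (Z : Set G) := by
    intro X hXE hX
    rcases prime_class' hG hM hE hX (Subgroup.card_dvd_of_le hXE) with h | h
    · rcases h with h1 | h3
      · apply le_antisymm
        · exact (exc_tau1_cent_le hG h1310 hM hE hq3 hZE hZ hZne h1 hXE rfl).2
        · exact le_inf inf_le_left
            (exc_tau1_cent_ge hG h78 hLE h1310 hPin hM hE hq3 hZE hZ hZne h1 hXE rfl)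
      · exact exc_tau3_cent hG hLE hM hE hq3 hZE hZ hZne h3 hXE rfl
    · exact absurd h (hτ2 _)
  have hz1 : (z : G) ≠ 1 := by
    intro h
    have : orderOf (z : G) = 1 := by rw [h, orderOf_one]
    rw [Subgroup.orderOf_coe, hz] at this
    exact hqp.one_lt.ne' this
  have hsp := exc_semiprime hG hM hE hτ2 hY
  have hCE : sigmaCore M ⊓ centralizer (E : Set G) = sigmaCore M ⊓ centralizer (Z : Set G) :=
    (hsp (z : G) z.2 hz1).2
  refine ⟨by rw [hCE]; exact hZne, ?_, ?_⟩
  · intro e he he1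
    rw [hCE]
    exact (hsp e he he1).1
  · apply exc_normal hG hM hE hτ2
    intro P Z' hPE hZ'E hP hZ'
    by_contra hcon
    have h0 := h1310 M E hM hE _ hP P hPE rfl _ hZ' Z' hZ'E rfl hcon
    have hZ'ne : sigmaCore M ⊓ centralizer (Z' : Set G) ≠ ⊥ := by
      rw [hY Z' hZ'E hZ'.1]; exact hZne
    exact hZ'ne h0

/-! ### assembly -/

/-- pick a subgroup of prime order inside `zpowers k`. -/
theorem exists_prime_card_le_zpowers {k : G} (hk : k ≠ 1) :
    ∃ X : Subgroup G, X ≤ zpowers k ∧ (Nat.card X).Prime := by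
  have ho1 : orderOf k ≠ 1 := by
    rw [Ne, orderOf_eq_one_iff]; exact hk
  obtain ⟨p, hp, hpd⟩ := Nat.exists_prime_and_dvd ho1
  refine ⟨zpowers (k ^ (orderOf k / p)), ?_, ?_⟩
  · rw [zpowers_le]; exact pow_mem (mem_zpowers k) _
  · rw [Nat.card_zpowers, orderOf_pow_orderOf_div (orderOf_pos k).ne' hpd]; exact hp

theorem s1430_of (hG : IsMinSimpleOddOrder G) (h78 : SigmaDisj G) (hLE : StmtE G)
    (h1310 : Stmt1310 G) (h1312 : Stmt1312 G) (hPin : StmtPin G)
    (M : Subgroup G) (hM : IsCoatom M) (K : Subgroup G) (hK : IsPiHallOf (kappa M) K M)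
    (hK1 : K ≠ ⊥) :
    (∀ k ∈ K, k ≠ 1 → sigmaCore M ⊓ centralizer ({k} : Set G) =
        (sigmaCore M ⊓ centralizer (K : Set G))) ∧
      (∃ U : Subgroup G, IsMulCommutative U ∧
        IsPiHallOf {q | q.Prime ∧ q ∉ kappa M ∧ q ∉ sigma M} U M ∧
        K ≤ normalizer (U : Set G) ∧ ∀ k ∈ K, k ≠ 1 → U ⊓ centralizer ({k} : Set G) = ⊥) ∧
      ∀ X : Subgroup G, X ≤ K → (Nat.card X).Prime →
        M ⊓ normalizer (X : Set G) = K ⊔ (sigmaCore M ⊓ centralizer (K : Set G)) ∧
        M ⊓ normalizer (K : Set G) = K ⊔ (sigmaCore M ⊓ centralizer (K : Set G)) ∧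
        ∀ Mstar : Subgroup G, IsCoatom Mstar → normalizer (X : Set G) ≤ Mstar →
          X ≤ sigmaCore Mstar := by
  classical
  obtain ⟨E, hE, hKE⟩ := exists_compl_ge_kappa' hG hM hK
  have hWn : M ≤ normalizer ((sigmaCore M : Subgroup G) : Set G) := by
    intro m hm
    rw [Subgroup.mem_normalizer_iff]
    have key : ∀ (m : G), m ∈ M → ∀ s ∈ sigmaCore M, m * s * m⁻¹ ∈ sigmaCore M := by
      rintro m hm _ ⟨s', hs', rfl⟩
      have h1 : (⟨m, hm⟩ : ↥M) * s' * (⟨m, hm⟩ : ↥M)⁻¹ ∈ piCore (sigma M) ↥M :=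
        (inferInstance : (piCore (sigma M) ↥M).Normal).conj_mem s' hs' ⟨m, hm⟩
      exact ⟨_, h1, rfl⟩
    intro s
    constructor
    · exact key m hm s
    · intro hs
      have h1 := key m⁻¹ (M.inv_mem hm) _ hs
      have h2 : m⁻¹ * (m * s * m⁻¹) * m⁻¹⁻¹ = s := by group
      rwa [h2] at h1
  -- the common part: Step A
  have hStepA : ∀ X : Subgroup G, X ≤ K → (Nat.card X).Prime →
      ∀ Mstar : Subgroup G, IsCoatom Mstar → normalizer (X : Set G) ≤ Mstar →
        X ≤ sigmaCore Mstar := by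
    intro X hXK hX Ms hMs hNX
    have hpκ : Nat.card X ∈ kappa M := hK.2.1 _ hX (Subgroup.card_dvd_of_le hXK)
    have hXM : X ≤ M := hXK.trans hK.1
    have h1 := hLE M Ms hM hMs (Nat.card X) (kappa_subset_tau13 hG hpκ) X rfl hXM
      (cent_ne_bot_of_kappa hG hM hpκ hXM rfl) hNX
    exact le_sigmaCore_of_card' hG hMs h1 rfl (le_normalizer.trans hNX)
  -- reduction of the three clauses to: semiprime + `N_E(X) = K` + `N_E(K) = K` + `U`
  suffices hmain :
      (∀ k ∈ K, k ≠ 1 → sigmaCore M ⊓ centralizer ({k} : Set G) =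
        (sigmaCore M ⊓ centralizer (K : Set G))) ∧
      (∃ U : Subgroup G, IsMulCommutative U ∧
        IsPiHallOf {q | q.Prime ∧ q ∉ kappa M ∧ q ∉ sigma M} U M ∧
        K ≤ normalizer (U : Set G) ∧ ∀ k ∈ K, k ≠ 1 → U ⊓ centralizer ({k} : Set G) = ⊥) ∧
      (∀ X : Subgroup G, X ≤ K → (Nat.card X).Prime → E ⊓ normalizer (X : Set G) = K) ∧
      E ⊓ normalizer (K : Set G) = K by
    obtain ⟨hsp, hU, hNX, hNK⟩ := hmain
    refine ⟨hsp, hU, ?_⟩
    intro X hXK hX
    refine ⟨?_, ?_, hStepA X hXK hX⟩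
    · rw [inf_normalizer_eq_sup hE hWn (hXK.trans hKE), hNX X hXK hX]
      congr 1
      -- `C_W(X) = C_W(K)`
      apply le_antisymm
      · rintro a ⟨haW, haX⟩
        have hXne : X ≠ ⊥ := by
          intro h; rw [h, Subgroup.card_bot] at hX; exact Nat.not_prime_one hX
        obtain ⟨x, hx1⟩ := (Subgroup.ne_bot_iff_exists_ne_one).mp hXne
        have hx1' : (x : G) ≠ 1 := fun h => hx1 (Subtype.ext h)
        have := hsp (x : G) (hXK x.2) hx1'
        rw [← this]
        refine ⟨haW, ?_⟩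
        exact Subgroup.centralizer_le (Set.singleton_subset_iff.mpr x.2) haX
      · exact inf_le_inf_left _ (Subgroup.centralizer_le hXK)
    · rw [inf_normalizer_eq_sup hE hWn hKE, hNK]
  -- the case split
  by_cases hκ : kappa M ⊆ tau1 M
  · -- Case I
    have hKc := comm_of_kappa_tau1 hK hκ
    have hN : ∀ X : Subgroup G, X ≤ K → (Nat.card X).Prime → E ⊓ normalizer (X : Set G) = K :=
      fun X hXK hX => compl_inf_normalizer_eq hG h1312 hM hE hK hKE hκ hXK hX
    exact ⟨semiprime_caseI hG hM hE hK hKE hκ, exists_U hG hM hE hK hKE hK1 hKc hN, hN,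
      compl_inf_normalizer_self hG hM hE hK hKE hK1 hKc hN⟩
  · -- Case II
    obtain ⟨q, hqκ, hq1⟩ := Set.not_subset.mp hκ
    have hq3 : q ∈ tau3 M := by
      rcases kappa_subset_tau13 hG hqκ with h | h
      · exact absurd h hq1
      · exact h
    obtain ⟨hne, hsp, hnorm⟩ := exc_structure hG h78 hLE h1310 hPin hM hE hq3 hqκ
    have hKeq : K = E := eq_of_cent_ne_bot hG hM hE hK hKE hne
    subst hKeq
    refine ⟨hsp, ⟨⊥, ?_, bot_isPiHallOf hG hM hE hK, ?_, ?_⟩, ?_, ?_⟩
    · exact ⟨⟨fun a b => Subsingleton.elim _ _⟩⟩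
    · intro k _
      rw [mem_normalizer_iff]
      intro h
      simp [Subgroup.mem_bot]
    · intro k _ _
      exact bot_inf_eq _
    · intro X hXK hX
      exact inf_eq_left.mpr (hnorm X hXK hX)
    · exact inf_eq_left.mpr le_normalizer

end Cfsg.Agent.Lib.Helper32.BG142
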