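import Mathlib
import Cfsg.Agent.Lib.Helper6.Nc.Defs

/-! # Nc hive (S3894, helper6), leaf NC-ITER (helper32) -/

set_option autoImplicit false

namespace Cfsg.Agent.Lib.Helper6.Nc

open Matrix
open scoped commutatorElement

variable {F : Type*} [Field F]

/-- NC-ITER.  In a nilpotent group iterated commutators with a fixed element die. -/
theorem nc_iter {Γ : Type*} [Group Γ] (A : Subgroup Γ) (hA : Group.IsNilpotent ↥A) (r x : Γ)
    (hr : r ∈ A) (hx : x ∈ A) : ∃ k : ℕ, (fun y => r * y * r⁻¹ * y⁻¹)^[k] x = 1 := by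
  obtain ⟨n, hn⟩ := (Subgroup.isNilpotent_iff_lowerCentralSeries A).mp hA
  have hmem : ∀ k, (fun y => r * y * r⁻¹ * y⁻¹)^[k] x ∈ A.lowerCentralSeries k := by
    intro k
    induction k with
    | zero => simpa using hx
    | succ k ih =>
      rw [Function.iterate_succ_apply', Subgroup.lowerCentralSeries_succ]
      have h1 := Subgroup.commutator_mem_commutator ih hr
      have h2 : r * ((fun y => r * y * r⁻¹ * y⁻¹)^[k] x) * r⁻¹ *
          ((fun y => r * y * r⁻¹ * y⁻¹)^[k] x)⁻¹ =
          ⁅(fun y => r * y * r⁻¹ * y⁻¹)^[k] x, r⁆⁻¹ := by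
        rw [commutatorElement_inv, commutatorElement_def]
      rw [h2]
      exact Subgroup.inv_mem _ h1
  refine ⟨n, ?_⟩
  have h3 := hmem n
  rwa [hn, Subgroup.mem_bot] at h3

end Cfsg.Agent.Lib.Helper6.Nc
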