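import Mathlib
import Cfsg.Agent.Lib.Helper41.PsDefs
import Cfsg.Agent.Lib.Helper49.CgCG8c

/-!
# Ps hive (S4321, owner helper41): leaf PS19 `ps_cD` (helper32).
`P` is normal: `P = O ∪ C_P(O)` for `O` the set of elements of `P` all of whose conjugates lie in `P`.
-/

set_option autoImplicit false

namespace Cfsg.Agent.Lib.Helper41.Ps

open Subgroup
open Cfsg.Agent.Lib.Helper22.Cg

universe u

/-- if a Sylow `p`-subgroup centralizes `x` then `p ∤ cs x` (private copy of PS9). -/
theorem ps19_sylow_cent {G : Type u} [Group G] [Finite G] (q : ℕ) [Fact q.Prime] (Q : Sylow q G)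
    (x : G) (h : ∀ y ∈ Q, x * y = y * x) : ¬ q ∣ cs x := by
  have hle : (Q : Subgroup G) ≤ centralizer ({x} : Set G) := by
    intro y hy
    rw [mem_centralizer_singleton_iff]
    exact (h y hy).symm
  intro hq
  have h1 : (centralizer ({x} : Set G)).index ∣ (Q : Subgroup G).index := index_dvd_of_le hle
  exact Q.not_dvd_index (hq.trans h1)

/-- PS19 (D). `P` is normal. -/
theorem ps_cD {G : Type u} [Group G] [Finite G] (p : ℕ) [Fact p.Prime] (P : Sylow p G)
    (hC : ∀ x ∈ P, p ∣ cs x → ∀ g : G, ∃ y ∈ P, ∃ c : G, c * x = x * c ∧ g = y * c)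
    (α : G) (hα : α ∈ P) (hpα : p ∣ cs α) : ∀ g : G, ∀ y ∈ P, g * y * g⁻¹ ∈ P := by
  -- elements with `p ∣ cs` have all their conjugates in `P`
  have hO : ∀ x ∈ P, p ∣ cs x → ∀ g : G, g * x * g⁻¹ ∈ P := by
    intro x hx hpx g
    obtain ⟨y, hy, c, hcx, rfl⟩ := hC x hx hpx g
    have : y * c * x * (y * c)⁻¹ = y * (c * x * c⁻¹) * y⁻¹ := by group
    rw [this, hcx]
    have : y * (x * c * c⁻¹) * y⁻¹ = y * x * y⁻¹ := by group
    rw [this]
    exact (P : Subgroup G).mul_mem ((P : Subgroup G).mul_mem hy hx) ((P : Subgroup G).inv_mem hy)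
  -- elements with `p ∤ cs` centralize every element all of whose conjugates lie in `P`
  have hcen : ∀ x ∈ P, ¬ p ∣ cs x → ∀ u : G, (∀ g : G, g * u * g⁻¹ ∈ P) → x * u = u * x := by
    intro x _ hpx u hu
    obtain ⟨Q, hQ⟩ := cg8c p x hpx
    obtain ⟨k, hk⟩ := MulAction.exists_smul_eq G P Q
    apply hQ u
    rw [← hk, Sylow.smul_def]
    have hmem : u ∈ ((MulAut.conj k • P : Sylow p G) : Subgroup G) := by
      rw [Sylow.pointwise_smul_def, Subgroup.mem_pointwise_smul_iff_inv_smul_mem]
      have : (MulAut.conj k)⁻¹ • u = k⁻¹ * u * k⁻¹⁻¹ := by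
        simp [MulAut.smul_def, MulAut.conj_apply]
      rw [this]
      exact hu k⁻¹
    exact hmem
  by_contra hcon
  push Not at hcon
  obtain ⟨g₀, v, hv, hvg⟩ := hcon
  -- `v ∈ P` has a conjugate outside `P`, so `p ∤ cs v`
  have hpv : ¬ p ∣ cs v := fun h => hvg (hO v hv h g₀)
  -- every `x ∈ P` with `p ∣ cs x` commutes with ... we show `P` centralizes `α`
  have hPα : ∀ y ∈ P, α * y = y * α := by
    intro y hy
    by_cases hpy : p ∣ cs y
    · -- `y` and `v * y`: consider `v * y`
      by_cases hpvy : p ∣ cs (v * y)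
      · -- then all conjugates of `v * y` and of `y` lie in `P`, hence those of `v`
        exfalso
        apply hvg
        have h1 := hO (v * y) ((P : Subgroup G).mul_mem hv hy) hpvy g₀
        have h2 := hO y hy hpy g₀
        have : g₀ * v * g₀⁻¹ = (g₀ * (v * y) * g₀⁻¹) * (g₀ * y * g₀⁻¹)⁻¹ := by group
        rw [this]
        exact (P : Subgroup G).mul_mem h1 ((P : Subgroup G).inv_mem h2)
      · -- `v * y` and `v` both centralize `α`
        have h1 := hcen (v * y) ((P : Subgroup G).mul_mem hv hy) hpvy α (hO α hα hpα)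
        have h2 := hcen v hv hpv α (hO α hα hpα)
        -- `y = v⁻¹ (v y)`
        have h3 : y * α = α * y := by
          have e : y = v⁻¹ * (v * y) := by group
          have h2' : v⁻¹ * α = α * v⁻¹ := by
            have : v⁻¹ * α = v⁻¹ * (α * v) * v⁻¹ := by group
            rw [this, ← h2]
            group
          rw [e, mul_assoc, h1, ← mul_assoc, h2', mul_assoc]
        exact h3.symm
    · exact (hcen y hy hpy α (hO α hα hpα)).symm
  exact ps19_sylow_cent p P α hPα hpα

end Cfsg.Agent.Lib.Helper41.Ps
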