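import Cfsg.Agent.Lib.Helper48.CoprimeGen
import Cfsg.Agent.Lib.Helper22.Signalizer
import Cfsg.Agent.Lib.Helper33.Conj
import Cfsg.Prelude.Def_OddOrderLocal

set_option autoImplicit false

/-!
# Generation by centralizers for noncyclic elementary abelian groups acting coprimely

Consequences of `coprime_gen` phrased for an abelian subgroup `B` of exponent `r`.
-/

namespace Cfsg.Agent.Lib.Helper32

open Subgroup Cfsg Cfsg.Agent.Lib.Helper33 Cfsg.Agent.Lib.Helper48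

universe u

section gen

variable {G : Type u} [Group G]

theorem mem_normalizer_inf' {A B : Subgroup G} {g : G} (hA : g ∈ normalizer (A : Set G))
    (hB : g ∈ normalizer (B : Set G)) : g ∈ normalizer ((A ⊓ B : Subgroup G) : Set G) := by
  rw [← cj_eq_self_iff] at hA hB ⊢
  rw [cj_inf, hA, hB]

theorem mem_normalizer_centralizer_singleton' {x y : G} (h : y * x = x * y) :
    y ∈ normalizer ((centralizer {x} : Subgroup G) : Set G) :=
  le_normalizer (mem_centralizer_singleton_iff.mpr h)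

variable [Finite G]

/-- coprime generation for a subgroup `Q` normalized by commuting `a`, `b` of order dividing `r`. -/
theorem le_genSub_of_mem_normalizer {r : ℕ} [Fact r.Prime] (Q : Subgroup G) (a b : G)
    (ha : a ^ r = 1) (hb : b ^ r = 1) (hab : a * b = b * a)
    (haQ : a ∈ normalizer (Q : Set G)) (hbQ : b ∈ normalizer (Q : Set G))
    (hQ : ¬ r ∣ Nat.card Q) : Q ≤ genSub Q a b := by
  set G₁ := normalizer (Q : Set G) with hG₁
  have hQG : Q ≤ G₁ := le_normalizer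
  haveI : (Q.subgroupOf G₁).Normal := normal_in_normalizer
  have hcard : Nat.card (Q.subgroupOf G₁) = Nat.card Q :=
    Nat.card_congr (subgroupOfEquivOfLe hQG).toEquiv
  have hnd : ¬ r ∣ Nat.card (Q.subgroupOf G₁) := by rw [hcard]; exact hQ
  have h1 : (⟨a, haQ⟩ : G₁) ^ r = 1 := Subtype.ext (by simpa using ha)
  have h2 : (⟨b, hbQ⟩ : G₁) ^ r = 1 := Subtype.ext (by simpa using hb)
  have h12 : (⟨a, haQ⟩ : G₁) * ⟨b, hbQ⟩ = ⟨b, hbQ⟩ * ⟨a, haQ⟩ := Subtype.ext hab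
  have hgen := coprime_gen (Q.subgroupOf G₁) (⟨a, haQ⟩ : G₁) ⟨b, hbQ⟩ h1 h2 h12 hnd
  exact genSub_transfer_subgroup G₁ Q a b haQ hbQ hQG hgen

theorem exists_genSet_centralizer_ne_bot {r : ℕ} [Fact r.Prime] (Q : Subgroup G) (a b : G)
    (ha : a ^ r = 1) (hb : b ^ r = 1) (hab : a * b = b * a)
    (haQ : a ∈ normalizer (Q : Set G)) (hbQ : b ∈ normalizer (Q : Set G))
    (hQ : ¬ r ∣ Nat.card Q) (hne : Q ≠ ⊥) : ∃ c ∈ genSet a b, Q ⊓ centralizer {c} ≠ ⊥ := by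
  by_contra hcon
  push Not at hcon
  apply hne
  rw [eq_bot_iff]
  refine (le_genSub_of_mem_normalizer Q a b ha hb hab haQ hbQ hQ).trans ?_
  unfold genSub
  apply iSup₂_le
  intro c hc
  rw [hcon c hc]

end gen

section expr

variable {G : Type u} [Group G] [Finite G] {r : ℕ} [Fact r.Prime]

/-- An abelian subgroup of exponent `r`. -/
structure IsExpAb (r : ℕ) (B : Subgroup G) : Prop where
  comm : ∀ x ∈ B, ∀ y ∈ B, x * y = y * x
  exp : ∀ x ∈ B, x ^ r = 1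

namespace IsExpAb

variable {B : Subgroup G} (hB : IsExpAb r B)
include hB

theorem orderOf_eq {x : G} (hx : x ∈ B) (hx1 : x ≠ 1) : orderOf x = r :=
  orderOf_eq_prime (hB.exp x hx) hx1

theorem card_zpowers_le {x : G} (hx : x ∈ B) : Nat.card (zpowers x) ≤ r := by
  have hr : r.Prime := Fact.out
  rw [Nat.card_zpowers]
  exact Nat.le_of_dvd hr.pos (orderOf_dvd_of_pow_eq_one (hB.exp x hx))

/-- `x ∈ ⟨y⟩`, `x ≠ 1` implies `y ∈ ⟨x⟩`. -/
theorem mem_zpowers_symm {x y : G} (hx : x ∈ B) (hy : y ∈ B) (hx1 : x ≠ 1)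
    (hxy : x ∈ zpowers y) : y ∈ zpowers x := by
  have hle : zpowers x ≤ zpowers y := by rw [zpowers_le]; exact hxy
  have hy1 : y ≠ 1 := by
    rintro rfl
    rw [zpowers_one_eq_bot, mem_bot] at hxy
    exact hx1 hxy
  have hcard : Nat.card (zpowers y) ≤ Nat.card (zpowers x) := by
    rw [Nat.card_zpowers, Nat.card_zpowers, hB.orderOf_eq hx hx1, hB.orderOf_eq hy hy1]
  have := Subgroup.eq_of_le_of_card_ge hle hcard
  rw [this]
  exact mem_zpowers y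

theorem exists_not_mem_zpowers (hcard : r < Nat.card B) (y : G) (hy : y ∈ B) :
    ∃ x ∈ B, x ∉ zpowers y := by
  by_contra hcon
  push Not at hcon
  have hle : B ≤ zpowers y := fun x hx => hcon x hx
  have := Subgroup.card_le_of_le hle
  have h2 := hB.card_zpowers_le hy
  omega

theorem exists_not_mem_sup (hcard : r ^ 2 < Nat.card B) (x y : G) (hx : x ∈ B) (hy : y ∈ B) :
    ∃ z ∈ B, z ∉ zpowers x ⊔ zpowers y := by
  have hr : r.Prime := Fact.out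
  by_contra hcon
  push Not at hcon
  have hle : B ≤ zpowers x ⊔ zpowers y := fun z hz => hcon z hz
  have h1 := Subgroup.card_le_of_le hle
  have h2 : Nat.card (zpowers x ⊔ zpowers y : Subgroup G) ≤ Nat.card (zpowers x) * r := by
    apply Cfsg.Agent.Lib.Helper22.card_sup_zpowers_le hr.pos (zpowers x) y (hB.exp y hy)
    rintro _ ⟨n, rfl⟩
    have : Commute x y := hB.comm x hx y hy
    exact (this.zpow_left n).eq
  have h3 := hB.card_zpowers_le hx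
  have h4 : Nat.card (zpowers x) * r ≤ r * r := Nat.mul_le_mul_right r h3
  have h5 : r ^ 2 = r * r := sq r
  omega

omit [Finite G] in
theorem genSet_subset {a b : G} (ha : a ∈ B) (hb : b ∈ B) {c : G} (hc : c ∈ genSet a b) : c ∈ B := by
  rcases hc with rfl | ⟨n, rfl⟩
  · exact hb
  · exact B.mul_mem ha (B.pow_mem hb n)

omit [Finite G] hB in
theorem genSet_ne_one {a b : G} (hb1 : b ≠ 1) (hab : a ∉ zpowers b) {c : G}
    (hc : c ∈ genSet a b) : c ≠ 1 := by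
  rcases hc with rfl | ⟨n, rfl⟩
  · exact hb1
  · intro h
    apply hab
    have : a = (b ^ n)⁻¹ := eq_inv_of_mul_eq_one_left h
    rw [this]
    exact (zpowers b).inv_mem ((zpowers b).pow_mem (mem_zpowers b) n)

omit [Finite G] hB in
theorem genSet_mem_sup {a b : G} {c : G} (hc : c ∈ genSet a b) : c ∈ zpowers a ⊔ zpowers b := by
  rcases hc with rfl | ⟨n, rfl⟩
  · exact (le_sup_right : zpowers c ≤ zpowers a ⊔ zpowers c) (mem_zpowers c)
  · exact (zpowers a ⊔ zpowers b).mul_mem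
      ((le_sup_left : zpowers a ≤ zpowers a ⊔ zpowers b) (mem_zpowers a))
      ((le_sup_right : zpowers b ≤ zpowers a ⊔ zpowers b) ((zpowers b).pow_mem (mem_zpowers b) n))

/-- rank 2: a nontrivial `r'`-group normalized by `B` (`|B| > r`) has a nontrivial fixed point
subgroup for some non-identity element of `B`. -/
theorem exists_centralizer_ne_bot (hcard : r < Nat.card B) (Q : Subgroup G)
    (hBQ : B ≤ normalizer (Q : Set G)) (hQ : ¬ r ∣ Nat.card Q) (hne : Q ≠ ⊥) :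
    ∃ c ∈ B, c ≠ 1 ∧ Q ⊓ centralizer {c} ≠ ⊥ := by
  have hr : r.Prime := Fact.out
  have hB1 : ∃ b ∈ B, b ≠ 1 := by
    by_contra hcon
    push Not at hcon
    have : B = ⊥ := by
      rw [eq_bot_iff]
      intro x hx
      rw [mem_bot]; exact hcon x hx
    rw [this, Subgroup.card_bot] at hcard
    have := hr.one_lt
    omega
  obtain ⟨b, hb, hb1⟩ := hB1
  obtain ⟨a, ha, hab⟩ := hB.exists_not_mem_zpowers hcard b hb
  obtain ⟨c, hc, hcQ⟩ := exists_genSet_centralizer_ne_bot Q a b (hB.exp a ha) (hB.exp b hb)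
    (hB.comm a ha b hb) (hBQ ha) (hBQ hb) hQ hne
  exact ⟨c, hB.genSet_subset ha hb hc, genSet_ne_one hb1 hab hc, hcQ⟩

/-- rank 3: two nontrivial `r'`-groups normalized by `B` (`|B| > r²`) have nontrivial fixed points
for a common non-identity element of `B`. -/
theorem exists_common_centralizer_ne_bot (hcard : r ^ 2 < Nat.card B) (Q₁ Q₂ : Subgroup G)
    (hBQ₁ : B ≤ normalizer (Q₁ : Set G)) (hBQ₂ : B ≤ normalizer (Q₂ : Set G))
    (hQ₁ : ¬ r ∣ Nat.card Q₁) (hQ₂ : ¬ r ∣ Nat.card Q₂) (hne₁ : Q₁ ≠ ⊥) (hne₂ : Q₂ ≠ ⊥) :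
    ∃ c ∈ B, c ≠ 1 ∧ Q₁ ⊓ centralizer {c} ≠ ⊥ ∧ Q₂ ⊓ centralizer {c} ≠ ⊥ := by
  have hr : r.Prime := Fact.out
  have hcard1 : r < Nat.card B := by
    have : r ≤ r ^ 2 := by
      rw [sq]; exact Nat.le_mul_of_pos_left r hr.pos
    omega
  have hB1 : ∃ b ∈ B, b ≠ 1 := by
    by_contra hcon
    push Not at hcon
    have : B = ⊥ := by
      rw [eq_bot_iff]
      intro x hx
      rw [mem_bot]; exact hcon x hx
    rw [this, Subgroup.card_bot] at hcard1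
    have := hr.one_lt
    omega
  -- e₁, e₂, e₃ independent
  obtain ⟨e₂, he₂, he₂1⟩ := hB1
  obtain ⟨e₁, he₁, he₁₂⟩ := hB.exists_not_mem_zpowers hcard1 e₂ he₂
  obtain ⟨e₃, he₃, he₃'⟩ := hB.exists_not_mem_sup hcard e₁ e₂ he₁ he₂
  have he₁1 : e₁ ≠ 1 := by
    rintro rfl; exact he₁₂ (one_mem _)
  -- normalizer facts
  have hnorm : ∀ (Q : Subgroup G), B ≤ normalizer (Q : Set G) → ∀ c ∈ B,
      B ≤ normalizer ((Q ⊓ centralizer {c} : Subgroup G) : Set G) := by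
    intro Q hQ c hc e he
    exact mem_normalizer_inf' (hQ he) (mem_normalizer_centralizer_singleton' (hB.comm e he c hc))
  have hdvd : ∀ {Q Q' : Subgroup G}, Q' ≤ Q → ¬ r ∣ Nat.card Q → ¬ r ∣ Nat.card Q' :=
    fun hle h hd => h (hd.trans (Subgroup.card_dvd_of_le hle))
  -- Step 1
  obtain ⟨c₁, hc₁, hc₁Q⟩ := exists_genSet_centralizer_ne_bot Q₁ e₁ e₂ (hB.exp e₁ he₁)
    (hB.exp e₂ he₂) (hB.comm e₁ he₁ e₂ he₂) (hBQ₁ he₁) (hBQ₁ he₂) hQ₁ hne₁
  have hc₁B : c₁ ∈ B := hB.genSet_subset he₁ he₂ hc₁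
  have hc₁1 : c₁ ≠ 1 := genSet_ne_one he₂1 he₁₂ hc₁
  have hc₁sup : c₁ ∈ zpowers e₁ ⊔ zpowers e₂ := genSet_mem_sup hc₁
  -- choice of b₂ ∈ {e₁, e₂} outside ⟨c₁⟩
  have hb₂ : ∃ b₂ ∈ B, b₂ ≠ 1 ∧ b₂ ∉ zpowers c₁ ∧ b₂ ∈ zpowers e₁ ⊔ zpowers e₂ := by
    rcases hc₁ with rfl | ⟨n, rfl⟩
    · refine ⟨e₁, he₁, he₁1, he₁₂, ?_⟩
      exact (le_sup_left : zpowers e₁ ≤ zpowers e₁ ⊔ zpowers c₁) (mem_zpowers e₁)
    · refine ⟨e₂, he₂, he₂1, ?_, ?_⟩
      · intro h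
        have h2 : e₁ * e₂ ^ n ∈ zpowers e₂ := hB.mem_zpowers_symm he₂ hc₁B he₂1 h
        apply he₁₂
        have : e₁ = (e₁ * e₂ ^ n) * (e₂ ^ n)⁻¹ := by group
        rw [this]
        exact (zpowers e₂).mul_mem h2 ((zpowers e₂).inv_mem ((zpowers e₂).pow_mem (mem_zpowers e₂) n))
      · exact (le_sup_right : zpowers e₂ ≤ zpowers e₁ ⊔ zpowers e₂) (mem_zpowers e₂)
  obtain ⟨b₂, hb₂B, hb₂1, hb₂c₁, hb₂sup⟩ := hb₂
  have he₃b₂ : e₃ ∉ zpowers b₂ := by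
    intro h
    apply he₃'
    have : zpowers b₂ ≤ zpowers e₁ ⊔ zpowers e₂ := by rw [zpowers_le]; exact hb₂sup
    exact this h
  -- Step 2
  set Q₁' := Q₁ ⊓ centralizer {c₁} with hQ₁'
  obtain ⟨c₂, hc₂, hc₂Q⟩ := exists_genSet_centralizer_ne_bot Q₁' e₃ b₂ (hB.exp e₃ he₃)
    (hB.exp b₂ hb₂B) (hB.comm e₃ he₃ b₂ hb₂B) (hnorm Q₁ hBQ₁ c₁ hc₁B he₃)
    (hnorm Q₁ hBQ₁ c₁ hc₁B hb₂B) (hdvd inf_le_left hQ₁) hc₁Q
  have hc₂B : c₂ ∈ B := hB.genSet_subset he₃ hb₂B hc₂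
  have hc₂1 : c₂ ≠ 1 := genSet_ne_one hb₂1 he₃b₂ hc₂
  have hc₁c₂ : c₁ ∉ zpowers c₂ := by
    intro h
    have h2 : c₂ ∈ zpowers c₁ := hB.mem_zpowers_symm hc₁B hc₂B hc₁1 h
    rcases hc₂ with rfl | ⟨n, rfl⟩
    · exact hb₂c₁ h2
    · apply he₃'
      have h3 : zpowers c₁ ≤ zpowers e₁ ⊔ zpowers e₂ := by rw [zpowers_le]; exact hc₁sup
      have h4 : e₃ * b₂ ^ n ∈ zpowers e₁ ⊔ zpowers e₂ := h3 h2
      have : e₃ = (e₃ * b₂ ^ n) * (b₂ ^ n)⁻¹ := by group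
      rw [this]
      exact (zpowers e₁ ⊔ zpowers e₂).mul_mem h4
        ((zpowers e₁ ⊔ zpowers e₂).inv_mem ((zpowers e₁ ⊔ zpowers e₂).pow_mem hb₂sup n))
  -- Step 3
  obtain ⟨c₃, hc₃, hc₃Q⟩ := exists_genSet_centralizer_ne_bot Q₂ c₁ c₂ (hB.exp c₁ hc₁B)
    (hB.exp c₂ hc₂B) (hB.comm c₁ hc₁B c₂ hc₂B) (hBQ₂ hc₁B) (hBQ₂ hc₂B) hQ₂ hne₂
  refine ⟨c₃, hB.genSet_subset hc₁B hc₂B hc₃, genSet_ne_one hc₂1 hc₁c₂ hc₃, ?_, hc₃Q⟩
  intro h
  apply hc₂Q
  rw [eq_bot_iff, ← h]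
  rintro y ⟨⟨hyQ, hy1⟩, hy2⟩
  refine ⟨hyQ, ?_⟩
  have hy1' : y ∈ centralizer {c₁} := hy1
  have hy2' : y ∈ centralizer {c₂} := hy2
  show y ∈ centralizer {c₃}
  rw [mem_centralizer_singleton_iff] at hy1' hy2' ⊢
  have k1 : Commute y c₁ := hy1'
  have k2 : Commute y c₂ := hy2'
  rcases hc₃ with rfl | ⟨n, rfl⟩
  · exact hy2'
  · exact (k1.mul_right (k2.pow_right n)).eq

end IsExpAb

end expr

end Cfsg.Agent.Lib.Helper32
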