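import Cfsg.Agent.Lib.Helper32.Transitivity
import Cfsg.Agent.Lib.Helper32.RankGen

set_option autoImplicit false

/-!
# Thompson's transitivity theorem: Bender–Glauberman Theorems 7.3 and 7.4
-/

namespace Cfsg.Agent.Lib.Helper32

open Subgroup Cfsg Cfsg.Agent.Lib.Helper33 Cfsg.Agent.Lib.Helper24

universe u

section

variable {G : Type u} [Group G] [Finite G]

omit [Finite G] in
/-- from `¬ RankLE k ↥Z`: an abelian subgroup of exponent `r` inside `Z` with more than `r ^ k`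
elements -/
theorem exists_isExpAb_of_not_rankLE {Z : Subgroup G} {k : ℕ} (h : ¬ RankLE k ↥Z) :
    ∃ (r : ℕ) (_ : Fact r.Prime) (B : Subgroup G), B ≤ Z ∧ IsExpAb r B ∧ r ^ k < Nat.card B := by
  unfold RankLE at h
  push Not at h
  obtain ⟨r, hr, h⟩ := h
  unfold PRankLE at h
  push Not at h
  obtain ⟨E, hEc, hEe, hEk⟩ := h
  refine ⟨r, ⟨hr⟩, E.map Z.subtype, map_subtype_le _, ⟨?_, ?_⟩, ?_⟩
  · rintro _ ⟨x, hx, rfl⟩ _ ⟨y, hy, rfl⟩
    have h1 := hEc.is_comm.comm (⟨x, hx⟩ : E) ⟨y, hy⟩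
    have h2 := congrArg (fun z : E => ((z : Z) : G)) h1
    simpa using h2
  · rintro _ ⟨x, hx, rfl⟩
    have h1 := hEe x hx
    have h2 := congrArg (fun z : Z => (z : G)) h1
    simpa using h2
  · rw [Subgroup.card_map_of_injective Z.subtype_injective]; exact hEk

omit [Finite G] in
theorem center_eq_bot_of_simple [IsSimpleGroup G] (hnc : ¬ IsMulCommutative G) :
    center G = ⊥ := by
  rcases (inferInstance : (center G).Normal).eq_bot_or_eq_top with h | h
  · exact h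
  · exfalso
    apply hnc
    refine ⟨⟨fun a b => ?_⟩⟩
    have hb : b ∈ center G := by rw [h]; exact mem_top b
    exact (mem_center_iff.mp hb a)

omit [Finite G] in
theorem centralizer_singleton_ne_top [IsSimpleGroup G] (hnc : ¬ IsMulCommutative G) {c : G}
    (hc : c ≠ 1) : centralizer ({c} : Set G) ≠ ⊤ := by
  intro h
  apply hc
  have : c ∈ center G := by
    rw [mem_center_iff]
    intro g
    have hg : g ∈ centralizer ({c} : Set G) := by rw [h]; exact mem_top g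
    exact mem_centralizer_singleton_iff.mp hg
  rw [center_eq_bot_of_simple hnc, mem_bot] at this
  exact this

variable (hG : IsMinSimpleOddOrder G) {A : Subgroup G} (hA : TransitivityHypothesis A)
include hG hA

/-- common setup: an exponent-`r` abelian `B ≤ Z(A)`; then `r ≠ q` and `r ∤ |Q|` for `q`-groups. -/
theorem not_dvd_card_of_isExpAb {r q : ℕ} [Fact r.Prime] (hq : q.Prime) (hqA : ¬ q ∣ Nat.card A)
    {B : Subgroup G} (hB : IsExpAb r B) (hBA : B ≤ A) (hB1 : ∃ b ∈ B, b ≠ 1)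
    {Q : Subgroup G} (hQ : Q ∈ invSubgroups ⊤ A {q}) : ¬ r ∣ Nat.card Q := by
  have hr : r.Prime := Fact.out
  obtain ⟨b, hb, hb1⟩ := hB1
  have hrA : r ∣ Nat.card A := by
    have h1 := orderOf_dvd_natCard (⟨b, hBA hb⟩ : A)
    rwa [Subgroup.orderOf_mk, hB.orderOf_eq hb hb1] at h1
  intro hd
  have : r = q := hQ.2.1 r hr hd
  rw [this] at hrA
  exact hqA hrA

theorem exists_ne_one_of_card_gt {r k : ℕ} [Fact r.Prime] {B : Subgroup G}
    (hcard : r ^ k < Nat.card B) : ∃ b ∈ B, b ≠ 1 := by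
  have hr : r.Prime := Fact.out
  by_contra hcon
  push Not at hcon
  have : B = ⊥ := by
    rw [eq_bot_iff]
    intro x hx
    rw [mem_bot]; exact hcon x hx
  rw [this, Subgroup.card_bot] at hcard
  have := Nat.one_le_pow k r hr.pos
  omega

/-- Bender–Glauberman Theorem 7.4. -/
theorem transitivity_74 (hZ : ¬ RankLE 1 ↥(A ⊓ centralizer (A : Set G))) {q : ℕ} (hq : q.Prime)
    (hqA : ¬ q ∣ Nat.card A) (hqC : q ∣ Nat.card (centralizer (A : Set G))) :
    ∀ Q₁ ∈ maxInvSubgroups ⊤ A {q}, ∀ Q₂ ∈ maxInvSubgroups ⊤ A {q},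
      KConj (piCoreOf (primesNotDvd (Nat.card A)) (centralizer (A : Set G))) Q₁ Q₂ := by
  haveI : IsSimpleGroup G := hG.2.1
  haveI : Fact q.Prime := ⟨hq⟩
  obtain ⟨r, hrF, B, hBZ, hB, hcard⟩ := exists_isExpAb_of_not_rankLE hZ
  have hr : r.Prime := hrF.out
  have hBA : B ≤ A := hBZ.trans inf_le_left
  have hBC : B ≤ centralizer (A : Set G) := hBZ.trans inf_le_right
  have hB1 := exists_ne_one_of_card_gt hG hA hcard
  rw [pow_one] at hcard
  -- an element of order q centralizing A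
  obtain ⟨g, hg⟩ := exists_prime_orderOf_dvd_card' q hqC
  have hg' : orderOf (g : G) = q := by rw [Subgroup.orderOf_coe]; exact hg
  have hg1 : (g : G) ≠ 1 := by
    intro h
    rw [h, orderOf_one] at hg'
    exact hq.one_lt.ne hg'
  have hQ₀p : IsPGroup q (zpowers (g : G)) := by
    apply IsPGroup.of_card (n := 1)
    rw [Nat.card_zpowers, hg', pow_one]
  have hAQ₀ : A ≤ normalizer ((zpowers (g : G) : Subgroup G) : Set G) := by
    intro a ha
    apply centralizer_le_normalizer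
    apply Cfsg.Agent.Lib.Helper22.mem_centralizer_zpowers_of_commute
    exact ((mem_centralizer_iff.mp g.2) a ha)
  have hQ₀I := mem_invSubgroups_of_isPGroup hq hQ₀p hAQ₀
  obtain ⟨Q₃, hQ₃, hQ₀Q₃⟩ := exists_maxInv_ge hQ₀I
  have key : ∀ Q ∈ maxInvSubgroups ⊤ A {q},
      KConj (piCoreOf (primesNotDvd (Nat.card A)) (centralizer (A : Set G))) Q Q₃ := by
    intro Q hQ
    have hQne : Q ≠ ⊥ := by
      rintro rfl
      have := hQ.2 _ hQ₀I bot_le
      apply hg1
      have h2 : (g : G) ∈ zpowers (g : G) := mem_zpowers _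
      rw [this, mem_bot] at h2
      exact h2
    have hBQ : B ≤ normalizer (Q : Set G) := hBA.trans hQ.1.2.2
    have hrQ := not_dvd_card_of_isExpAb hG hA hq hqA hB hBA hB1 hQ.1
    obtain ⟨c, hcB, hc1, hcQ⟩ := hB.exists_centralizer_ne_bot hcard Q hBQ hrQ hQne
    have hAH : A ≤ centralizer ({c} : Set G) := by
      intro a ha
      rw [mem_centralizer_singleton_iff]
      exact ((mem_centralizer_iff.mp (hBC hcB)) a ha)
    have hH₁ : centralizer ({c} : Set G) ⊓ Q ≠ ⊥ := by rwa [inf_comm]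
    have hH₂ : centralizer ({c} : Set G) ⊓ Q₃ ≠ ⊥ := by
      intro h
      apply hg1
      have h3 : (g : G) ∈ centralizer ({c} : Set G) := by
        rw [mem_centralizer_singleton_iff]
        exact ((mem_centralizer_iff.mp g.2) c (hBA hcB)).symm
      have h2 : (g : G) ∈ centralizer ({c} : Set G) ⊓ Q₃ := ⟨h3, hQ₀Q₃ (mem_zpowers _)⟩
      rw [h, mem_bot] at h2
      exact h2
    exact transitivity_72 hG hA hq hqA hQ hQ₃ (centralizer_singleton_ne_top hG.2.2.1 hc1) hAH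
      hH₁ hH₂
  intro Q₁ hQ₁ Q₂ hQ₂
  exact (key Q₁ hQ₁).trans (key Q₂ hQ₂).symm

/-- Bender–Glauberman Theorem 7.3. -/
theorem transitivity_73 (hZ : ¬ RankLE 2 ↥(A ⊓ centralizer (A : Set G))) {q : ℕ} (hq : q.Prime)
    (hqA : ¬ q ∣ Nat.card A) :
    ∀ Q₁ ∈ maxInvSubgroups ⊤ A {q}, ∀ Q₂ ∈ maxInvSubgroups ⊤ A {q},
      KConj (piCoreOf (primesNotDvd (Nat.card A)) (centralizer (A : Set G))) Q₁ Q₂ := by
  haveI : IsSimpleGroup G := hG.2.1
  haveI : Fact q.Prime := ⟨hq⟩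
  obtain ⟨r, hrF, B, hBZ, hB, hcard⟩ := exists_isExpAb_of_not_rankLE hZ
  have hr : r.Prime := hrF.out
  have hBA : B ≤ A := hBZ.trans inf_le_left
  have hBC : B ≤ centralizer (A : Set G) := hBZ.trans inf_le_right
  have hB1 := exists_ne_one_of_card_gt hG hA hcard
  intro Q₁ hQ₁ Q₂ hQ₂
  by_cases h1 : Q₁ = ⊥
  · have := hQ₁.2 Q₂ hQ₂.1 (h1 ▸ bot_le)
    rw [this]; exact KConj.refl _ _
  by_cases h2 : Q₂ = ⊥
  · have := hQ₂.2 Q₁ hQ₁.1 (h2 ▸ bot_le)
    rw [this]; exact KConj.refl _ _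
  have hrQ₁ := not_dvd_card_of_isExpAb hG hA hq hqA hB hBA hB1 hQ₁.1
  have hrQ₂ := not_dvd_card_of_isExpAb hG hA hq hqA hB hBA hB1 hQ₂.1
  obtain ⟨c, hcB, hc1, hcQ₁, hcQ₂⟩ := hB.exists_common_centralizer_ne_bot hcard Q₁ Q₂
    (hBA.trans hQ₁.1.2.2) (hBA.trans hQ₂.1.2.2) hrQ₁ hrQ₂ h1 h2
  have hAH : A ≤ centralizer ({c} : Set G) := by
    intro a ha
    rw [mem_centralizer_singleton_iff]
    exact ((mem_centralizer_iff.mp (hBC hcB)) a ha)
  exact transitivity_72 hG hA hq hqA hQ₁ hQ₂ (centralizer_singleton_ne_top hG.2.2.1 hc1) hAH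
    (by rwa [inf_comm]) (by rwa [inf_comm])

end

end Cfsg.Agent.Lib.Helper32
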