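import Cfsg.Agent.Lib.Helper32.BG95A
import Cfsg.Agent.Lib.Helper32.Transitivity2
import Cfsg.Agent.S1396
import Cfsg.Agent.Lib.Helper31.GenRank
import Cfsg.Agent.Lib.Helper21.BenderLemma
import Cfsg.Agent.Lib.Helper22.Fitting
import Cfsg.Agent.Lib.Helper70.Kulakoff3
import Cfsg.Agent.Lib.Helper10.Card

/-!
# Bender–Glauberman Lemma 9.5, part B  -- helper32

Setting: `A ∈ SCN_3(P)`, `A` not a uniqueness subgroup.  A *Case II group* is a maximal subgroup
`H ≥ A` such that `F(H)` has `t`-rank at least three for a prime `t ≠ p`.  We prove that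
`K = O_{p'}(C_G(A))` lies in every Case II group.
-/

set_option autoImplicit false
set_option linter.style.haveILetI false
set_option linter.unusedSectionVars false

namespace Cfsg.Agent.Lib.Helper32.BG95

open Subgroup Cfsg

variable {G : Type*} [Group G] [Finite G]

/-! ### cyclic `t`-groups -/

/-- in a cyclic `t`-group the subgroups form a chain -/
theorem le_of_card_le_of_isCyclic {t : ℕ} [ht : Fact t.Prime] {C X Y : Subgroup G}
    (hC : IsPGroup t C) (hcyc : IsCyclic C) (hX : X ≤ C) (hY : Y ≤ C)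
    (h : Nat.card X ≤ Nat.card Y) : X ≤ Y := by
  obtain ⟨a, ha⟩ := IsPGroup.iff_card.mp (hC.to_le hX)
  obtain ⟨b, hb⟩ := IsPGroup.iff_card.mp (hC.to_le hY)
  have hab : a ≤ b := by
    rw [ha, hb] at h
    exact (Nat.pow_le_pow_iff_right ht.out.one_lt).mp h
  have hdvd : t ^ a ∣ Nat.card Y := by rw [hb]; exact pow_dvd_pow t hab
  obtain ⟨Y', hY'⟩ := Sylow.exists_subgroup_card_pow_prime t hdvd
  have hY'' : Y'.map Y.subtype ≤ Y := Subgroup.map_subtype_le Y'
  have hcard : Nat.card (Y'.map Y.subtype) = t ^ a := by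
    rw [Subgroup.card_map_of_injective (Subgroup.subtype_injective _)]; exact hY'
  have heq : X.subgroupOf C = (Y'.map Y.subtype).subgroupOf C := by
    apply Cfsg.Agent.Lib.Helper70.kk_cyclic_unique
    rw [Nat.card_congr (Subgroup.subgroupOfEquivOfLe hX).toEquiv,
      Nat.card_congr (Subgroup.subgroupOfEquivOfLe (hY''.trans hY)).toEquiv, ha, hcard]
  have h2 : X = Y'.map Y.subtype := by
    have := congrArg (Subgroup.map C.subtype) heq
    rwa [Subgroup.map_subgroupOf_eq_of_le hX,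
      Subgroup.map_subgroupOf_eq_of_le (hY''.trans hY)] at this
  rw [h2]
  exact hY''

/-- hyperplanes of an elementary abelian group of rank at least three meet nontrivially -/
theorem exists_mem_inf_ne_one {A₁ D₁ D₂ : Subgroup G} {p n : ℕ} (hp : p.Prime)
    (hc : ∀ x ∈ A₁, ∀ y ∈ A₁, x * y = y * x) (hn : Nat.card A₁ = p ^ n) (hn3 : 3 ≤ n)
    (h1 : D₁ ≤ A₁) (h2 : D₂ ≤ A₁) (hc1 : p ^ (n - 1) ≤ Nat.card D₁)
    (hc2 : p ^ (n - 1) ≤ Nat.card D₂) : ∃ a ∈ D₁ ⊓ D₂, a ≠ 1 := by
  by_contra hcon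
  push Not at hcon
  have hbot : D₁ ⊓ D₂ = ⊥ := by
    rw [eq_bot_iff]
    intro a ha
    exact mem_bot.mpr (hcon a ha)
  have hnorm : D₁ ≤ normalizer (D₂ : Set G) := by
    intro d hd
    rw [mem_normalizer_iff]
    intro x
    constructor
    · intro hx
      have : d * x * d⁻¹ = x := by
        rw [hc d (h1 hd) x (h2 hx)]; group
      rw [this]; exact hx
    · intro hx
      have hx' : d * x * d⁻¹ ∈ A₁ := h2 hx
      have hxA : x ∈ A₁ := by
        have : x = d⁻¹ * (d * x * d⁻¹) * d := by group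
        rw [this]
        exact A₁.mul_mem (A₁.mul_mem (A₁.inv_mem (h1 hd)) hx') (h1 hd)
      have : d * x * d⁻¹ = x := by
        rw [hc d (h1 hd) x hxA]; group
      rwa [this] at hx
  have hprod := Cfsg.Agent.Lib.Helper10.card_sup_mul_card_inf hnorm
  rw [hbot, Subgroup.card_bot, mul_one] at hprod
  have hle : Nat.card ↥(D₁ ⊔ D₂) ≤ p ^ n := by
    rw [← hn]
    exact Subgroup.card_le_of_le (sup_le h1 h2)
  have hge : p ^ (n - 1) * p ^ (n - 1) ≤ Nat.card ↥(D₁ ⊔ D₂) := by
    rw [hprod]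
    exact Nat.mul_le_mul hc1 hc2
  have : p ^ n < p ^ (n - 1) * p ^ (n - 1) := by
    rw [← pow_add]
    exact Nat.pow_lt_pow_right hp.one_lt (by omega)
  omega

/-! ### the setting -/

section setting

variable (hG : IsMinSimpleOddOrder G) {p : ℕ} [hpf : Fact p.Prime] (P : Sylow p G)
  {A : Subgroup G} (hA : IsSCN (P : Subgroup G) A) (hA3 : ¬ PRankLE p 2 ↥A)

include hA in
theorem scn_isPGroup : IsPGroup p A := P.isPGroup'.to_le hA.1

include hA in
theorem scn_comm : ∀ x ∈ A, ∀ y ∈ A, x * y = y * x := by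
  have h := Cfsg.Agent.Lib.Helper64.BG9.scn_abelian hA
  exact fun x hx y hy => congrArg Subtype.val (h.is_comm.comm ⟨x, hx⟩ ⟨y, hy⟩)

include hA hA3 in
theorem scn_ne_bot : A ≠ ⊥ := by
  rintro rfl
  apply hA3
  intro E _ _
  have : Nat.card E = 1 := by
    have : Subsingleton (⊥ : Subgroup G) := inferInstance
    exact Nat.card_eq_one_iff_unique.mpr ⟨inferInstance, ⟨1⟩⟩
  rw [this]
  exact Nat.one_le_pow _ _ hpf.out.pos

include hG hA in
theorem scn_ne_top : A ≠ ⊤ := by
  intro h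
  haveI := hG.2.1
  -- `G` would be a `p`-group, hence nilpotent, hence (being simple) abelian
  have hGp : IsPGroup p G := by
    have := scn_isPGroup P hA
    rw [h] at this
    exact this.of_equiv Subgroup.topEquiv
  apply hG.2.2.1
  have hnil : Group.IsNilpotent G := hGp.isNilpotent
  have hcomm : ∀ x ∈ A, ∀ y ∈ A, x * y = y * x := scn_comm P hA
  exact ⟨⟨fun a b => hcomm a (h ▸ mem_top a) b (h ▸ mem_top b)⟩⟩

include hG hA hA3 in
theorem scn_transHyp : TransitivityHypothesis A := by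
  have hp : p.Prime := hpf.out
  have hAp := scn_isPGroup P hA
  have hdvd : p ∣ Nat.card G := by
    have h1 : p ∣ Nat.card A := by
      obtain ⟨k, hk⟩ := IsPGroup.iff_card.mp hAp
      have hk0 : k ≠ 0 := by
        rintro rfl
        rw [pow_zero] at hk
        exact scn_ne_bot P hA hA3 (Subgroup.card_eq_one.mp hk)
      rw [hk]; exact dvd_pow_self p hk0
    exact h1.trans (Subgroup.card_subgroup_dvd_card A)
  refine Cfsg.Agent.S1396.result hG p hdvd A hAp (Cfsg.Agent.Lib.Helper64.BG9.scn_abelian hA)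
    (Or.inr ⟨P, hA, ?_⟩)
  intro h1
  apply hA3
  intro E hEc hEe
  have := h1 E hEc hEe
  exact this.trans (Nat.pow_le_pow_right hp.pos (by norm_num))

include hA3 in
/-- an elementary abelian subgroup of `A` of order `p ^ n`, `n ≥ 3` -/
theorem exists_A1 : ∃ A₁ : Subgroup G, A₁ ≤ A ∧ (∀ x ∈ A₁, ∀ y ∈ A₁, x * y = y * x) ∧
    (∀ x ∈ A₁, x ^ p = 1) ∧ ∃ n : ℕ, 3 ≤ n ∧ Nat.card A₁ = p ^ n := by
  have hp : p.Prime := hpf.out
  obtain ⟨E, hEA, hEe, hEc⟩ := exists_elemAb_of_not_pRankLE hA3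
  obtain ⟨k, hk⟩ := IsPGroup.iff_card.mp (isPGroup_of_exp hEe.2)
  refine ⟨E, hEA, fun x hx y hy => congrArg Subtype.val (hEe.1.is_comm.comm ⟨x, hx⟩ ⟨y, hy⟩),
    hEe.2, k, ?_, hk⟩
  rw [hk] at hEc
  exact (Nat.pow_lt_pow_iff_right hp.one_lt).mp hEc

include hG hA in
/-- under the contradiction hypothesis, no noncyclic subgroup of `A` centralizes a uniqueness
subgroup -/
theorem ch2 (hCH : ¬ InUniqueMaximal A) {B D : Subgroup G} (hB : InUniqueMaximal B)
    (hDA : D ≤ A) (hDB : B ≤ centralizer (D : Set G)) (hDnc : ¬ RankLE 1 ↥D) : False := by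
  apply hCH
  have hD : InUniqueMaximal D :=
    Cfsg.Agent.S1399.result hG B D hB (Cfsg.Agent.Lib.Helper64.BG9.centralizer_symm hDB) hDnc
  exact unique_mono hD hDA (scn_ne_top hG P hA)

end setting

end Cfsg.Agent.Lib.Helper32.BG95
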