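import Mathlib
import Cfsg.Prelude
import Cfsg.Agent.Lib.Helper90.BG1435a

/-!
# B&G 15.8 / 15.9(a) in the form needed for S1376 (CLAIM F): the context

`(N, N*)` is a pair of type `P2`/partner (`N = K U N_σ`, `K ≠ 1`, `U ≠ 1`), `M` is a maximal subgroup
over `N_G(R)` (`R` a Sylow subgroup of `U`), for which the conclusions of S1435 hold, and
`x ∈ U` is a non-identity element with `C_G(x) ≤ N` (in S1376: the given `x ∈ M_σ`).
-/

set_option autoImplicit false
open Subgroup Cfsg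

namespace Cfsg.Agent.Lib.Helper32.BG159

variable {G : Type*} [Group G] [Finite G]

/-- the context of CLAIM F -/
structure CtxF (N K U Nstar M : Subgroup G) (x : G) : Prop where
  hN : IsCoatom N
  hM : IsCoatom M
  hNstar : IsCoatom Nstar
  hKU : IsSigmaDecomposition N K U
  hK1 : K ≠ ⊥
  hU1 : U ≠ ⊥
  hKst : K = sigmaCore Nstar ⊓ centralizer ((sigmaCore N ⊓ centralizer (K : Set G)) : Set G)
  hKstH : IsPiHallOf (kappa Nstar) (sigmaCore N ⊓ centralizer (K : Set G)) Nstar
  /-- helper90's setting facts, with `H := M` -/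
  facts : Cfsg.Agent.Lib.Helper90.BG1435.Facts N K U Nstar M
  /-- S1435 clause 2 -/
  hUW : U ≤ sigmaCore M
  /-- S1435 clause 3 -/
  hNM : N ⊓ M = U ⊔ K
  /-- S1435 clause 5 -/
  hKF : K ≤ fittingOf (M ⊓ Nstar)
  /-- S1435 clause 6 -/
  hE : IsComplIn (M ⊓ Nstar) (sigmaCore M) M
  hxU : x ∈ U
  hx1 : x ≠ 1
  hCx : centralizer ({x} : Set G) ≤ N

end Cfsg.Agent.Lib.Helper32.BG159
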