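import Cfsg.Agent.Lib.Helper23.U3Defs

/-! # U3 hive (S2283, helper23), leaf U3-COORD: coordinates in the frame `e, ε, f` (helper32) -/

set_option autoImplicit false

namespace Cfsg.Agent.Lib.Helper23.U3

open Matrix Cfsg.Agent.Lib.Helper99 Cfsg.Agent.Lib.Helper13 Cfsg.Agent.Lib.Helper90.Psu

variable {F : Type*} [Field F] [Fintype F] {q : ℕ}

local notation "hh" => Cfsg.hermForm 3 F q

theorem u3coord_hfe (hF : Fintype.card F = q ^ 2) (C : Cfg q F) : hh C.f C.e = 1 := by
  rw [← hermForm_conj hF, C.hef, one_pow]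

theorem u3coord_heε (hF : Fintype.card F = q ^ 2) (C : Cfg q F) : hh C.e C.ε = 0 := by
  have hq : q ≠ 0 := by have := two_le_q hF; omega
  rw [← hermForm_conj hF, C.hεe, zero_pow hq]

theorem u3coord_hfε (hF : Fintype.card F = q ^ 2) (C : Cfg q F) : hh C.f C.ε = 0 := by
  have hq : q ≠ 0 := by have := two_le_q hF; omega
  rw [← hermForm_conj hF, C.hεf, zero_pow hq]

/-- the pairing of a combination of the frame with the frame vectors -/
theorem u3coord_pair (hF : Fintype.card F = q ^ 2) (C : Cfg q F) (a b c : F) :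
    hh (a • C.e + b • C.ε + c • C.f) C.e = c ∧ hh (a • C.e + b • C.ε + c • C.f) C.ε = b ∧
      hh (a • C.e + b • C.ε + c • C.f) C.f = a := by
  refine ⟨?_, ?_, ?_⟩
  · rw [hermForm_add_left, hermForm_add_left, hermForm_smul_left, hermForm_smul_left, hermForm_smul_left,
      C.hee, C.hεe, u3coord_hfe hF C]
    ring
  · rw [hermForm_add_left, hermForm_add_left, hermForm_smul_left, hermForm_smul_left, hermForm_smul_left,
      u3coord_heε hF C, C.hεε, u3coord_hfε hF C]
    ring
  · rw [hermForm_add_left, hermForm_add_left, hermForm_smul_left, hermForm_smul_left, hermForm_smul_left,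
      C.hef, C.hεf, C.hff]
    ring

/-- U3-COORD -/
theorem frame_indep (hF : Fintype.card F = q ^ 2) (C : Cfg q F) :
    LinearIndependent F ![C.e, C.ε, C.f] := by
  rw [Fintype.linearIndependent_iff]
  intro g hg
  rw [Fin.sum_univ_three] at hg
  simp only [Matrix.cons_val_zero, Matrix.cons_val_one, Matrix.cons_val_two, Matrix.head_cons,
    Matrix.tail_cons] at hg
  obtain ⟨h1, h2, h3⟩ := u3coord_pair hF C (g 0) (g 1) (g 2)
  have hz : ∀ v, hh (g 0 • C.e + g 1 • C.ε + g 2 • C.f) v = 0 := by
    intro v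
    rw [hg]
    exact hermForm_zero_left v
  rw [hz] at h1 h2 h3
  intro i
  fin_cases i
  · exact h3.symm
  · exact h2.symm
  · exact h1.symm

/-- U3-COORD -/
theorem coord (hF : Fintype.card F = q ^ 2) (C : Cfg q F) (x : Fin 3 → F) :
    x = hh x C.f • C.e + hh x C.ε • C.ε + hh x C.e • C.f := by
  have hq : q ≠ 0 := by have := two_le_q hF; omega
  obtain ⟨h1, h2, h3⟩ := u3coord_pair hF C (hh x C.f) (hh x C.ε) (hh x C.e)
  set r := hh x C.f • C.e + hh x C.ε • C.ε + hh x C.e • C.f with hr
  have hspan : Submodule.span F (Set.range ![C.e, C.ε, C.f]) = ⊤ := by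
    apply (frame_indep hF C).span_eq_top_of_card_eq_finrank'
    rw [Module.finrank_fin_fun, Fintype.card_fin]
  have hy : ∀ v, hh (x - r) v = 0 := by
    intro v
    have hv : v ∈ Submodule.span F (Set.range ![C.e, C.ε, C.f]) := by rw [hspan]; trivial
    induction hv using Submodule.span_induction with
    | mem v hv =>
      obtain ⟨i, rfl⟩ := hv
      fin_cases i
      · show hh (x - r) C.e = 0
        rw [hermForm_sub_left, h1, sub_self]
      · show hh (x - r) C.ε = 0
        rw [hermForm_sub_left, h2, sub_self]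
      · show hh (x - r) C.f = 0
        rw [hermForm_sub_left, h3, sub_self]
    | zero => exact hermForm_zero_right hF _
    | add u v _ _ hu hv => rw [hermForm_add_right hF, hu, hv, add_zero]
    | smul a v _ hv => rw [hermForm_smul_right, hv, mul_zero]
  have := hermForm_nd_left hF hy
  exact sub_eq_zero.1 this

end Cfsg.Agent.Lib.Helper23.U3
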