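import Cfsg.Agent.Lib.Helper32.BG152B5
import Cfsg.Agent.Lib.Helper21.BG152B4b
import Cfsg.Agent.Lib.Helper62.BG152B3m
import Cfsg.Agent.Lib.Helper64.BG152B1

/-!
# BG Theorem 15.2, Case B, leaf B5 (exact skeleton name)
-/

set_option autoImplicit false

namespace Cfsg.Agent.Lib.Helper91.BG152

open Subgroup

universe u

variable {M : Type u} [Group M] [Finite M] {H K Q : Subgroup M} {q : ℕ}

/-- B5: `|K|` is prime and `D'` centralizes `Q`. -/
theorem card_K_prime_and_comm [H.Normal] [Q.Normal] (h : CfgB H K Q q) {D : Subgroup M}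
    (hDH : D ≤ H) (hQD : Q ⊓ D = ⊥) (hsup : Q ⊔ D = H) (hKD : K ≤ normalizer (D : Set M)) :
    (Nat.card K).Prime ∧ ⁅D, D⁆ ≤ centralizer (Q : Set M) := by
  obtain ⟨h1, h2, h3, h4⟩ :=
    compl_props_core h (Ks_le_Q h) (map_nilpotent h) (Q_sylow h) hDH hQD hsup
  exact B5_core h hDH hQD hsup hKD h1 h2 h3 h4

end Cfsg.Agent.Lib.Helper91.BG152
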