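import Mathlib
import Cfsg.Agent.Lib.Helper22.KbDefs

/-! # Kb hive (S1299, helper22), leaf KB-K2 core (helper32): `kb_cov_commutator` with KB-K1 as a hypothesis -/

set_option autoImplicit false

namespace Cfsg.Agent.Lib.Helper22.Kb

open Subgroup
open scoped commutatorElement

variable {G : Type*} [Group G]

variable {p : ℕ} {A W : Subgroup G} {ℱ : Set (Subgroup G)} {Y : Subgroup G → Subgroup G}

theorem kbk2_comm_mul (a b c : G) : ⁅a * b, c⁆ = a * ⁅b, c⁆ * a⁻¹ * ⁅a, c⁆ := by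
  simp only [commutatorElement_def]; group

theorem kbk2_comm_inv (a c : G) : ⁅a⁻¹, c⁆ = a⁻¹ * ⁅a, c⁆⁻¹ * a⁻¹⁻¹ := by
  simp only [commutatorElement_def]; group

/-- the elements of `V` whose commutator with `c` lies in `N₀` (a subgroup when `V` normalizes `N₀`) -/
def kbk2_sub (V N₀ : Subgroup G) (hn : V ≤ normalizer (N₀ : Set G)) (c : G) : Subgroup G where
  carrier := {a | a ∈ V ∧ ⁅a, c⁆ ∈ N₀}
  one_mem' := ⟨V.one_mem, by rw [commutatorElement_one_left]; exact N₀.one_mem⟩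
  mul_mem' := by
    rintro a b ⟨haV, ha⟩ ⟨hbV, hb⟩
    refine ⟨V.mul_mem haV hbV, ?_⟩
    rw [kbk2_comm_mul]
    exact N₀.mul_mem ((mem_normalizer_iff.mp (hn haV) _).mp hb) ha
  inv_mem' := by
    rintro a ⟨haV, ha⟩
    refine ⟨V.inv_mem haV, ?_⟩
    rw [kbk2_comm_inv]
    exact (mem_normalizer_iff.mp (hn (V.inv_mem haV)) _).mp (N₀.inv_mem ha)

theorem kbk2_mem_sub {V N₀ : Subgroup G} {hn : V ≤ normalizer (N₀ : Set G)} {c a : G} :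
    a ∈ kbk2_sub V N₀ hn c ↔ a ∈ V ∧ ⁅a, c⁆ ∈ N₀ := Iff.rfl

theorem kbk2_cov_mono {N N' : Subgroup G} (hNN : N ≤ N') : kbCov ℱ Y N ≤ kbCov ℱ Y N' :=
  iSup₂_mono fun _ _ => inf_le_inf_right _ hNN

/-- commutators of generators are covered -/
theorem kbk2_gen (h : KbSys p A W ℱ Y) {V : Subgroup G} (hAV : A ≤ normalizer (V : Set G))
    (hAN : A ≤ normalizer ((⁅V, V⁆ : Subgroup G) : Set G))
    {F F' : Subgroup G} (hF : F ∈ ℱ) (hF' : F' ∈ ℱ) {z y : G} (hz : z ∈ V ⊓ Y F)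
    (hy : y ∈ V ⊓ Y F') : ⁅z, y⁆ ∈ kbCov ℱ Y ⁅V, V⁆ := by
  obtain ⟨Z, hFZ, hF'Z, hAZ, hcov⟩ := h.hpair F hF F' hF'
  have hzZ : z ∈ Z := hFZ hz.2
  have hyZ : y ∈ Z := hF'Z hy.2
  have hX : A ≤ normalizer ((Z ⊓ ⁅V, V⁆ : Subgroup G) : Set G) := by
    intro a ha
    have h1 := mem_normalizer_iff.mp (hAZ ha)
    have h2 := mem_normalizer_iff.mp (hAN ha)
    rw [mem_normalizer_iff]
    intro x
    rw [Subgroup.mem_inf, Subgroup.mem_inf, ← h1 x, ← h2 x]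
  have h3 := hcov (Z ⊓ ⁅V, V⁆) inf_le_left hX
  have h4 : ⁅z, y⁆ ∈ Z ⊓ ⁅V, V⁆ := by
    refine Subgroup.mem_inf.mpr ⟨?_, Subgroup.commutator_mem_commutator hz.1 hy.1⟩
    rw [commutatorElement_def]
    exact Z.mul_mem (Z.mul_mem (Z.mul_mem hzZ hyZ) (Z.inv_mem hzZ)) (Z.inv_mem hyZ)
  exact kbk2_cov_mono inf_le_right (h3 h4)

/-- KB-K2 with KB-K1 (`V` normalizes the covered part of `⁅V, V⁆`) as a hypothesis. -/
theorem kbk2_core (h : KbSys p A W ℱ Y) {V : Subgroup G} (hV : V ≤ kbCov ℱ Y V)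
    (hAV : A ≤ normalizer (V : Set G))
    (hAN : A ≤ normalizer ((⁅V, V⁆ : Subgroup G) : Set G))
    (hn : V ≤ normalizer (kbCov ℱ Y ⁅V, V⁆ : Set G)) : ⁅V, V⁆ ≤ kbCov ℱ Y ⁅V, V⁆ := by
  -- step A
  have hA : ∀ F ∈ ℱ, ∀ c ∈ V ⊓ Y F, V ≤ kbk2_sub V (kbCov ℱ Y ⁅V, V⁆) hn c := by
    intro F hF c hc
    refine hV.trans ?_
    unfold kbCov
    refine iSup₂_le fun F' hF' => ?_
    intro a ha
    exact kbk2_mem_sub.mpr ⟨ha.1, kbk2_gen h hAV hAN hF' hF ha hc⟩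
  -- step B
  have hB : ∀ a ∈ V, V ≤ kbk2_sub V (kbCov ℱ Y ⁅V, V⁆) hn a := by
    intro a ha
    refine hV.trans ?_
    conv_lhs => unfold kbCov
    refine iSup₂_le fun F hF => ?_
    intro c hc
    refine kbk2_mem_sub.mpr ⟨hc.1, ?_⟩
    have h1 := (kbk2_mem_sub.mp (hA F hF c hc ha)).2
    rw [← commutatorElement_inv]
    exact Subgroup.inv_mem _ h1
  rw [Subgroup.commutator_le]
  intro a ha b hb
  exact (kbk2_mem_sub.mp (hB b hb ha)).2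

end Cfsg.Agent.Lib.Helper22.Kb
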