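import Mathlib
import Cfsg.Agent.Lib.Helper22.KbDefs
import Cfsg.Agent.Lib.Helper33.KbK1
import Cfsg.Agent.Lib.Helper32.KbK2core

/-! # Kb hive (S1299, helper22), leaf KB-K2 (helper32) -/

set_option autoImplicit false

namespace Cfsg.Agent.Lib.Helper22.Kb

open Subgroup
open scoped commutatorElement

variable {G : Type*} [Group G]

variable {p : ℕ} {A W : Subgroup G} {ℱ : Set (Subgroup G)} {Y : Subgroup G → Subgroup G}

/-- LEAF KB-K2. The commutator subgroup of a covered `A`-invariant subgroup is covered. -/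
theorem kb_cov_commutator (h : KbSys p A W ℱ Y) {V : Subgroup G} (hV : V ≤ kbCov ℱ Y V)
    (hAV : A ≤ normalizer (V : Set G)) : ⁅V, V⁆ ≤ kbCov ℱ Y ⁅V, V⁆ := by
  have hNV : ⁅V, V⁆ ≤ V := kbSeries_le V 1
  have hVN : V ≤ normalizer ((⁅V, V⁆ : Subgroup G) : Set G) :=
    kbSeries_normalizer (A := V) (W := V) le_normalizer 1
  have hAN : A ≤ normalizer ((⁅V, V⁆ : Subgroup G) : Set G) := kbSeries_normalizer hAV 1
  exact kbk2_core h hV hAV hAN (kb_cov_normal h hV hNV hVN hAN)

end Cfsg.Agent.Lib.Helper22.Kb
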