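import Mathlib
import Cfsg.Agent.Lib.Helper22.LBalS

/-! # Lb hive (S1301, helper22), leaf LB-CN (helper32) -/

set_option autoImplicit false

namespace Cfsg.Agent.Lib.Helper22.Lb

open Subgroup Cfsg
open scoped commutatorElement
open Cfsg.Agent.Lib.Helper23 (pUp pUp_le mem_pUp_of_pow coreIn coreIn_le)
open Cfsg.Agent.Lib.Helper22.LBal
open Cfsg.Agent.Lib.Helper33 (cj cj_eq_self_iff centralizer_cj)

section partIII

universe u
variable {G : Type u} [Group G] [Finite G]

/-- A `2`-component of `C_G(T)` is a `2`-component of `N_G(T)`. -/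
theorem lbcn_isPComponent (T : Subgroup G) {K₀ : Subgroup ↥(centralizer (T : Set G))}
    (hK : IsPComponent 2 K₀) :
    IsPComponent 2 ((K₀.map (centralizer (T : Set G)).subtype).subgroupOf
      (normalizer (T : Set G))) := by
  haveI : Fact (Nat.Prime 2) := ⟨Nat.prime_two⟩
  set K : Subgroup G := K₀.map (centralizer (T : Set G)).subtype with hKdef
  have hCN : centralizer (T : Set G) ≤ normalizer (T : Set G) :=
    Subgroup.centralizer_le_normalizer _
  have hKC : K ≤ centralizer (T : Set G) := by
    rw [hKdef]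
    rintro _ ⟨y, -, rfl⟩
    exact y.2
  have hKN : K ≤ normalizer (T : Set G) := le_trans hKC hCN
  have hK₀ : K₀ = K.subgroupOf (centralizer (T : Set G)) := by
    rw [hKdef]
    exact (Subgroup.comap_map_eq_self_of_injective (Subgroup.subtype_injective _) _).symm
  apply isPComponent_of_intrinsic
  · -- subnormal
    have hCn : ((centralizer (T : Set G)).subgroupOf (normalizer (T : Set G))).Normal := by
      rw [Subgroup.normal_subgroupOf_iff_le_normalizer hCN]
      intro g hg
      rw [← cj_eq_self_iff, ← centralizer_cj, cj_eq_self_iff.mpr hg]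
    have h2 : (K.subgroupOf (centralizer (T : Set G))).IsSubnormal := by
      rw [← hK₀]
      exact hK.1
    have h3 := (isSubnormal_subgroupOf_subgroupOf_iff (A := K) hCN).mpr h2
    refine Subgroup.IsSubnormal.trans ?_ h3 hCn.isSubnormal
    intro x hx
    exact Subgroup.mem_subgroupOf.mpr (hKC (Subgroup.mem_subgroupOf.mp hx))
  · -- quasisimple quotient
    have hqs := Cfsg.Agent.Lib.Helper23.isQuasisimple_quotient_pPrimeCore 2 hK
    set e₀ : ↥K₀ ≃* ↥K := K₀.equivMapOfInjective _ (Subgroup.subtype_injective _) with he₀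
    set e₁ : ↥(K.subgroupOf (normalizer (T : Set G))) ≃* ↥K :=
      Subgroup.subgroupOfEquivOfLe hKN with he₁
    set e : ↥K₀ ≃* ↥(K.subgroupOf (normalizer (T : Set G))) := e₀.trans e₁.symm with he
    have hmap : (pPrimeCore 2 ↥K₀).map e.toMonoidHom =
        pPrimeCore 2 ↥(K.subgroupOf (normalizer (T : Set G))) :=
      Cfsg.Agent.Lib.Helper23.pPrimeCore_map_equiv 2 e
    exact Cfsg.Agent.Lib.Helper21.quasisimple_of_mulEquiv
      (QuotientGroup.congr (pPrimeCore 2 ↥K₀) _ e hmap) hqs
  · refine pUp_subgroupOf_eq hKN ?_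
    rw [hKdef, pUp_map_subtype, pUp_eq_of_isPComponent hK]

/-- LEAF LB-CN (2-components of the normal subgroup `C_G(T)` of `N_G(T)` are 2-components
of `N_G(T)`). -/
theorem pLayer_centralizer_le_pLayer_normalizer (T : Subgroup G) :
    (pLayer 2 ↥(centralizer (T : Set G))).map (centralizer (T : Set G)).subtype ≤
      (pLayer 2 ↥(normalizer (T : Set G))).map (normalizer (T : Set G)).subtype := by
  unfold pLayer
  rw [Subgroup.map_le_iff_le_comap]
  apply sSup_le
  intro K₀ hK₀
  rw [← Subgroup.map_le_iff_le_comap]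
  have h := lbcn_isPComponent T hK₀
  have hKN : K₀.map (centralizer (T : Set G)).subtype ≤ normalizer (T : Set G) := by
    rintro _ ⟨y, -, rfl⟩
    exact Subgroup.centralizer_le_normalizer _ y.2
  have h1 : (K₀.map (centralizer (T : Set G)).subtype).subgroupOf (normalizer (T : Set G)) ≤
      sSup {K : Subgroup ↥(normalizer (T : Set G)) | IsPComponent 2 K} := le_sSup h
  have h2 := Subgroup.map_mono (f := (normalizer (T : Set G)).subtype) h1
  rwa [Subgroup.subgroupOf_map_subtype, inf_eq_left.mpr hKN] at h2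

end partIII

end Cfsg.Agent.Lib.Helper22.Lb
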