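import Cfsg.Agent.Lib.Helper48.U3XeDefs

/-! # U3 hive (S2283, helper23), XE sub-hive (helper48), sub-leaf XE-COMM (helper32) -/

set_option autoImplicit false

namespace Cfsg.Agent.Lib.Helper23.U3

open Matrix Cfsg.Agent.Lib.Helper99 Cfsg.Agent.Lib.Helper13 Cfsg.Agent.Lib.Helper90.Psu

variable {F : Type*} [Field F] [Fintype F] {q : ℕ}

local notation "hh" => Cfsg.hermForm 3 F q

theorem xecomm_smul_e (C : Cfg q F) (r : F) : hh (r • C.ε) C.e = 0 := by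
  rw [hermForm_smul_left, C.hεe, mul_zero]

theorem xecomm_smul_smul (C : Cfg q F) (r s : F) : hh (r • C.ε) (s • C.ε) = r * s ^ q := by
  rw [hermForm_smul_left, hermForm_smul_right, C.hεε, mul_one]

/-- XE-COMM -/
theorem xe_comm (hF : Fintype.card F = q ^ 2) (C : Cfg q F) {r₁ r₂ : F}
    (h₁ : r₁ ∈ xeM C) (h₂ : r₂ ∈ xeM C) : utv q C.e (r₁ * r₂ ^ q - r₂ * r₁ ^ q) ∈ C.H := by
  obtain ⟨β₁, hβ₁, hx₁⟩ := h₁
  obtain ⟨β₂, hβ₂, hx₂⟩ := h₂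
  have he := C.hee
  have hre₁ := xecomm_smul_e C r₁
  have hre₂ := xecomm_smul_e C r₂
  have hc₁ : β₁ + β₁ ^ q + hh (r₁ • C.ε) (r₁ • C.ε) = 0 := by
    rw [xecomm_smul_smul, ← pow_succ']; exact hβ₁
  have hc₂ : β₂ + β₂ ^ q + hh (r₂ • C.ε) (r₂ • C.ε) = 0 := by
    rw [xecomm_smul_smul, ← pow_succ']; exact hβ₂
  set R : Fin 3 → F := r₁ • C.ε + r₂ • C.ε with hR
  set B : F := β₁ + β₂ - hh (r₂ • C.ε) (r₁ • C.ε) with hB
  set B' : F := β₂ + β₁ - hh (r₁ • C.ε) (r₂ • C.ε) with hB'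
  have e12 : heis q C.e (r₁ • C.ε) β₁ * heis q C.e (r₂ • C.ε) β₂ = heis q C.e R B :=
    heis_mul hF he hre₁ hc₁ hre₂ hc₂
  have e21 : heis q C.e (r₂ • C.ε) β₂ * heis q C.e (r₁ • C.ε) β₁ = heis q C.e R B' := by
    rw [heis_mul hF he hre₂ hc₂ hre₁ hc₁, hR, add_comm (r₂ • C.ε)]
  have hRe : hh R C.e = 0 := by rw [hR, hermForm_add_left, hre₁, hre₂, add_zero]
  have hcB : B + B ^ q + hh R R = 0 := heis_aux_cond_mul hF hc₁ hc₂
  have hcB' : B' + B' ^ q + hh R R = 0 := by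
    have := heis_aux_cond_mul hF hc₂ hc₁
    rw [add_comm (r₂ • C.ε)] at this
    exact this
  have hinv : (heis q C.e R B')⁻¹ = heis q C.e (-R) (B' ^ q) := heis_inv hF he hRe hcB'
  have hRe' : hh (-R) C.e = 0 := by rw [hermForm_neg_left, hRe, neg_zero]
  have hcinv : B' ^ q + (B' ^ q) ^ q + hh (-R) (-R) = 0 := heis_aux_cond_inv hF hcB'
  have hprod : heis q C.e R B * heis q C.e (-R) (B' ^ q) =
      heis q C.e (R + -R) (B + B' ^ q - hh (-R) R) := heis_mul hF he hRe hcB hRe' hcinv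
  have hval : B + B' ^ q - hh (-R) R = r₁ * r₂ ^ q - r₂ * r₁ ^ q := by
    rw [hermForm_neg_left]
    have h1 : B' ^ q = -B' - hh R R := by linear_combination hcB'
    rw [h1, hB, hB', xecomm_smul_smul, xecomm_smul_smul]
    ring
  have hc : (r₁ * r₂ ^ q - r₂ * r₁ ^ q) + (r₁ * r₂ ^ q - r₂ * r₁ ^ q) ^ q = 0 := by
    rw [frob_sub hF, mul_pow, mul_pow, pow_q_pow_q hF, pow_q_pow_q hF]
    ring
  have hfin : heis q C.e (r₁ • C.ε) β₁ * heis q C.e (r₂ • C.ε) β₂ *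
      (heis q C.e (r₂ • C.ε) β₂ * heis q C.e (r₁ • C.ε) β₁)⁻¹ =
      utv q C.e (r₁ * r₂ ^ q - r₂ * r₁ ^ q) := by
    rw [e12, e21, hinv, hprod, add_neg_cancel, hval, heis_zero hF he hc]
  rw [← hfin]
  exact mul_mem (mul_mem hx₁ hx₂) (inv_mem (mul_mem hx₂ hx₁))

end Cfsg.Agent.Lib.Helper23.U3
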