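import Mathlib
import Cfsg.Agent.Lib.Helper3.S1936.Defs
import Cfsg.Agent.Lib.Helper10.FittingCent
import Cfsg.Agent.Lib.Helper22.Fitting
import Cfsg.Agent.Lib.Helper30.PPrimeCore

/-! # S1936 hive (helper3), leaf L16 part Q (helper32): the quotient-level lemma

`X` finite solvable with `O_p(X) = 1` and `Star p X`; `B` a Hall `p'`-subgroup. Then `B = O_{p'}(X)`
is normal and self-centralizing. -/

set_option autoImplicit false

universe u

namespace Cfsg.Agent.Lib.Helper3.S1936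

open Subgroup

/-- `F(X) ≤ O_{p'}(X)` when `O_p(X) = 1`. -/
theorem l16_fitting_le {X : Type u} [Group X] [Finite X] {p : ℕ} [Fact p.Prime]
    (hO : Cfsg.pCore p X = ⊥) : Cfsg.fittingSubgroup X ≤ Cfsg.pPrimeCore p X := by
  rw [Cfsg.Agent.Lib.Helper22.fittingSubgroup_eq_iSup_pCore]
  apply iSup_le
  intro r
  by_cases hrp : (r : ℕ) = p
  · rw [hrp, hO]; exact bot_le
  · haveI : Fact (r : ℕ).Prime := ⟨r.2⟩
    exact Cfsg.Agent.Lib.Helper22.pCore_le_pPrimeCore hrp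

/-- the order of `E ⊔ B` divides `|E| * |B|` for `E` normal -/
theorem l16_card_sup_dvd {X : Type u} [Group X] [Finite X] (E B : Subgroup X) [E.Normal] :
    Nat.card ↥(E ⊔ B) ∣ Nat.card ↥E * Nat.card ↥B := by
  have h1 : Nat.card ↥(E ⊔ B) = Nat.card ↥E * E.relIndex (E ⊔ B) := by
    have h0 := Subgroup.card_mul_index (E.subgroupOf (E ⊔ B))
    rw [Nat.card_congr (Subgroup.subgroupOfEquivOfLe (le_sup_left : E ≤ E ⊔ B)).toEquiv] at h0
    exact h0.symm
  have h2 : E.relIndex (E ⊔ B) = E.relIndex B := Subgroup.relIndex_sup_left B E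
  rw [h1, h2]
  exact Nat.mul_dvd_mul_left _ (Subgroup.relIndex_dvd_card E B)

/-- Quotient-level lemma. -/
theorem l16_quot {X : Type u} [Group X] [Finite X] {p : ℕ} [Fact p.Prime]
    (hs : Group.IsSolvable X) (hO : Cfsg.pCore p X = ⊥) (hstar : Star p X) (B : Subgroup X)
    (hB : (Nat.card ↥B).Coprime p) {k : ℕ} (hcard : Nat.card X ∣ p ^ k * Nat.card ↥B) :
    B = Cfsg.pPrimeCore p X ∧ centralizer (B : Set X) ≤ B := by
  haveI := hs
  haveI hEn : (Cfsg.pPrimeCore p X).Normal := Cfsg.Agent.Lib.Helper22.pPrimeCore_normal' p X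
  have hEc : (Nat.card ↥(Cfsg.pPrimeCore p X)).Coprime p :=
    Cfsg.Agent.Lib.Helper30.pPrimeCore_card_coprime p
  have hF : Cfsg.fittingSubgroup X ≤ Cfsg.pPrimeCore p X := l16_fitting_le hO
  -- `E ⊔ B` is a `p'`-group
  have hEB : (Nat.card ↥(Cfsg.pPrimeCore p X ⊔ B)).Coprime p :=
    Nat.Coprime.coprime_dvd_left (l16_card_sup_dvd _ B) (Nat.Coprime.mul_left hEc hB)
  obtain ⟨hcomm, -⟩ := hstar _ hEB
  -- `B` centralizes `E`
  have hBE : B ≤ centralizer ((Cfsg.pPrimeCore p X : Subgroup X) : Set X) := by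
    intro b hb
    rw [mem_centralizer_iff]
    intro e he
    have h1 := hcomm.is_comm.comm (⟨e, le_sup_left (a := Cfsg.pPrimeCore p X) (b := B) he⟩ :
      ↥(Cfsg.pPrimeCore p X ⊔ B)) ⟨b, le_sup_right (a := Cfsg.pPrimeCore p X) (b := B) hb⟩
    exact congrArg Subtype.val h1
  have hBF : B ≤ Cfsg.fittingSubgroup X :=
    (hBE.trans (centralizer_le (by exact_mod_cast hF))).trans
      Cfsg.Agent.Lib.Helper10.centralizer_fitting_le
  have hBE' : B ≤ Cfsg.pPrimeCore p X := hBF.trans hF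
  -- orders
  have hdvd : Nat.card ↥(Cfsg.pPrimeCore p X) ∣ Nat.card ↥B := by
    have h1 : Nat.card ↥(Cfsg.pPrimeCore p X) ∣ p ^ k * Nat.card ↥B :=
      (Subgroup.card_subgroup_dvd_card _).trans hcard
    exact (Nat.Coprime.pow_right k hEc).dvd_of_dvd_mul_left h1
  have hEq : B = Cfsg.pPrimeCore p X := by
    apply Subgroup.eq_of_le_of_card_ge hBE'
    exact Nat.le_of_dvd Nat.card_pos hdvd
  refine ⟨hEq, ?_⟩
  have hFE : Cfsg.fittingSubgroup X = Cfsg.pPrimeCore p X :=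
    le_antisymm hF (hEq ▸ hBF)
  rw [hEq, ← hFE]
  exact Cfsg.Agent.Lib.Helper10.centralizer_fitting_le

end Cfsg.Agent.Lib.Helper3.S1936
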