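import Mathlib
import Cfsg.Agent.Lib.Helper3.S1936.Defs
import Cfsg.Agent.Lib.Helper32.S1936L16q
import Cfsg.Agent.Lib.Helper47.FrakL1

/-! # S1936 hive (helper3), leaf L16 core (helper32): the local lemma (D) with the Frattini part
(sub-leaf L16e) as a hypothesis -/

set_option autoImplicit false

universe u

namespace Cfsg.Agent.Lib.Helper3.S1936

open Subgroup

/-- `Star` passes to subgroups (inline copy of L01). -/
theorem l16_star_subgroup {X : Type u} [Group X] {p : ℕ} (h : Star p X) (K : Subgroup X) :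
    Star p ↥K := by
  intro L hL
  have hc : Nat.card ↥(L.map K.subtype) = Nat.card ↥L :=
    Subgroup.card_map_of_injective (Subgroup.subtype_injective K)
  obtain ⟨hcomm, hexp⟩ := h (L.map K.subtype) (by rw [hc]; exact hL)
  constructor
  · refine ⟨⟨fun a b => ?_⟩⟩
    have h1 := hcomm.is_comm.comm (⟨((a : ↥K) : X), ⟨a, a.2, rfl⟩⟩ : ↥(L.map K.subtype))
      ⟨((b : ↥K) : X), ⟨b, b.2, rfl⟩⟩
    have h2 := congrArg Subtype.val h1
    apply Subtype.ext
    apply Subtype.ext
    simpa using h2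
  · intro x hx
    have h1 := hexp ((x : ↥K) : X) ⟨x, hx, rfl⟩
    apply Subtype.ext
    simpa using h1

section core

variable {G : Type u} [Group G] [Finite G] {p : ℕ} [Fact p.Prime]

/-- the conclusion of L16 minus the Frattini part -/
theorem l16_core
    (hquot : ∀ (X : Type u) [Group X] [Finite X] (N : Subgroup X) [N.Normal],
      Star p X → Star p (X ⧸ N))
    (hG : MinCex p G) {A H : Subgroup G} (hA : IsMaxPP p A) (hH : H ≠ ⊤) (hAH : A ≤ H)
    (hF0 : ∃ k : ℕ, Nat.card ↥H = p ^ k * Nat.card ↥A) :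
    ∃ R : Subgroup G, R ≤ H ∧ IsPGroup p ↥R ∧ H ≤ normalizer (R : Set G) ∧
      H ≤ normalizer ((R ⊔ A : Subgroup G) : Set G) ∧
      (∀ T : Subgroup G, T ≤ H → IsPGroup p ↥T → A ≤ normalizer (T : Set G) → T ≤ R) ∧
      (∀ T : Subgroup G, T ≤ R ⊔ A → IsPGroup p ↥T → T ≤ R) := by
  obtain ⟨k, hk⟩ := hF0
  have hHs : Group.IsSolvable ↥H := hG.proper H hH
  haveI hNn : (Cfsg.pCore p ↥H).Normal := Cfsg.Agent.Lib.Helper22.pCore_normal' p ↥H
  have hNp : IsPGroup p ↥(Cfsg.pCore p ↥H) := Cfsg.Agent.Lib.Helper22.pCore_isPGroup' p ↥H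
  -- the quotient
  have hstarH : Star p ↥H := l16_star_subgroup hG.star H
  have hstarX : Star p (↥H ⧸ Cfsg.pCore p ↥H) := hquot ↥H (Cfsg.pCore p ↥H) hstarH
  have hXs : Group.IsSolvable (↥H ⧸ Cfsg.pCore p ↥H) := by
    haveI := hHs
    infer_instance
  have hXO : Cfsg.pCore p (↥H ⧸ Cfsg.pCore p ↥H) = ⊥ :=
    Cfsg.Agent.Lib.Helper47.pCore_quotient_pCore_eq_bot p
  obtain ⟨π, hπ⟩ : ∃ π : ↥H →* ↥H ⧸ Cfsg.pCore p ↥H, π = QuotientGroup.mk' (Cfsg.pCore p ↥H) :=
    ⟨_, rfl⟩
  have hker : π.ker = Cfsg.pCore p ↥H := by rw [hπ]; exact QuotientGroup.ker_mk' _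
  have hπs : Function.Surjective π := by rw [hπ]; exact QuotientGroup.mk'_surjective _
  -- the image of A
  have hA'card : Nat.card ↥(A.subgroupOf H) = Nat.card ↥A :=
    Nat.card_congr (Subgroup.subgroupOfEquivOfLe hAH).toEquiv
  have hAcop : (Nat.card ↥A).Coprime p := hA.1
  have hdisj : A.subgroupOf H ⊓ Cfsg.pCore p ↥H = ⊥ := by
    apply Subgroup.inf_eq_bot_of_coprime
    obtain ⟨j, hj⟩ := hNp.exists_card_eq
    rw [hA'card, hj]
    exact Nat.Coprime.pow_right j hAcop
  have hBcard : Nat.card ↥((A.subgroupOf H).map π) = Nat.card ↥A := by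
    have hinj : Function.Injective (π.comp (A.subgroupOf H).subtype) := by
      rw [injective_iff_map_eq_one]
      intro x hx
      have h1 : (x : ↥H) ∈ π.ker := hx
      rw [hker] at h1
      have h2 : (x : ↥H) ∈ A.subgroupOf H ⊓ Cfsg.pCore p ↥H := ⟨x.2, h1⟩
      rw [hdisj, Subgroup.mem_bot] at h2
      exact Subtype.ext h2
    have hrange : (π.comp (A.subgroupOf H).subtype).range = (A.subgroupOf H).map π := by
      rw [MonoidHom.range_comp, Subgroup.range_subtype]
    rw [← hrange, ← hA'card]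
    exact (Nat.card_congr (MonoidHom.ofInjective hinj).toEquiv).symm
  have hXcard : Nat.card (↥H ⧸ Cfsg.pCore p ↥H) ∣ p ^ k * Nat.card ↥((A.subgroupOf H).map π) := by
    rw [hBcard, ← hk]
    exact ⟨Nat.card ↥(Cfsg.pCore p ↥H),
      (Subgroup.card_eq_card_quotient_mul_card_subgroup (Cfsg.pCore p ↥H))⟩
  obtain ⟨hBeq, hBcent⟩ := l16_quot hXs hXO hstarX ((A.subgroupOf H).map π)
    (by rw [hBcard]; exact hAcop) hXcard
  have hBn : ((A.subgroupOf H).map π).Normal := by
    rw [hBeq]; exact Cfsg.Agent.Lib.Helper22.pPrimeCore_normal' p _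
  -- R
  have hRsub : ((Cfsg.pCore p ↥H).map H.subtype).subgroupOf H = Cfsg.pCore p ↥H :=
    Subgroup.comap_map_eq_self_of_injective (Subgroup.subtype_injective H) _
  have hRH : (Cfsg.pCore p ↥H).map H.subtype ≤ H := Subgroup.map_subtype_le _
  have hRAH : (Cfsg.pCore p ↥H).map H.subtype ⊔ A ≤ H := sup_le hRH hAH
  have hRAsub : ((Cfsg.pCore p ↥H).map H.subtype ⊔ A).subgroupOf H =
      ((A.subgroupOf H).map π).comap π := by
    rw [Subgroup.subgroupOf_sup hRH hAH, hRsub, Subgroup.comap_map_eq, hker, sup_comm]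
  -- key: a `p`-subgroup of `H` whose image lies in `B` lies in `R`
  have key : ∀ T : Subgroup G, T ≤ H → IsPGroup p ↥T → (T.subgroupOf H).map π ≤ (A.subgroupOf H).map π →
      T ≤ (Cfsg.pCore p ↥H).map H.subtype := by
    intro T hTH hTp hTB
    have hTp' : IsPGroup p ↥((T.subgroupOf H).map π) := (hTp.comap_subtype).map π
    have hbot : (T.subgroupOf H).map π = ⊥ := by
      have h1 : (T.subgroupOf H).map π ⊓ (A.subgroupOf H).map π = ⊥ := by
        apply Subgroup.inf_eq_bot_of_coprime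
        obtain ⟨j, hj⟩ := hTp'.exists_card_eq
        rw [hj, hBcard]
        exact (Nat.Coprime.pow_right j hAcop).symm
      rw [← h1]
      exact (inf_eq_left.mpr hTB).symm
    intro t ht
    have h2 : π ⟨t, hTH ht⟩ ∈ (T.subgroupOf H).map π :=
      Subgroup.mem_map_of_mem π (Subgroup.mem_subgroupOf.mpr ht)
    rw [hbot, Subgroup.mem_bot] at h2
    have h3 : (⟨t, hTH ht⟩ : ↥H) ∈ π.ker := h2
    rw [hker] at h3
    exact ⟨⟨t, hTH ht⟩, h3, rfl⟩
  refine ⟨(Cfsg.pCore p ↥H).map H.subtype, hRH, hNp.map _, ?_, ?_, ?_, ?_⟩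
  · rw [← Subgroup.normal_subgroupOf_iff_le_normalizer hRH, hRsub]
    exact hNn
  · rw [← Subgroup.normal_subgroupOf_iff_le_normalizer hRAH, hRAsub]
    exact hBn.comap π
  · intro T hTH hTp hAT
    apply key T hTH hTp
    -- the image of T centralizes B
    refine le_trans ?_ hBcent
    rintro _ ⟨t, ht, rfl⟩
    rw [Subgroup.mem_centralizer_iff]
    rintro _ ⟨a, ha, rfl⟩
    -- commutator lies in both
    have hcB : π t * π a * (π t)⁻¹ * (π a)⁻¹ ∈ (A.subgroupOf H).map π := by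
      have h1 : π t * π a * (π t)⁻¹ ∈ (A.subgroupOf H).map π :=
        hBn.conj_mem _ (Subgroup.mem_map_of_mem π ha) _
      exact Subgroup.mul_mem _ h1 (Subgroup.inv_mem _ (Subgroup.mem_map_of_mem π ha))
    have hcT : π t * π a * (π t)⁻¹ * (π a)⁻¹ ∈ (T.subgroupOf H).map π := by
      have haN : ((a : ↥H) : G) ∈ normalizer (T : Set G) := hAT (Subgroup.mem_subgroupOf.mp ha)
      have h1 : a * t⁻¹ * a⁻¹ ∈ T.subgroupOf H := by
        rw [Subgroup.mem_subgroupOf]
        have h2 := (Subgroup.mem_normalizer_iff.mp haN ((t : ↥H) : G)⁻¹).mp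
          (T.inv_mem (Subgroup.mem_subgroupOf.mp ht))
        simpa using h2
      have h3 : π t * π a * (π t)⁻¹ * (π a)⁻¹ = π t * π (a * t⁻¹ * a⁻¹) := by
        rw [map_mul, map_mul, map_inv, map_inv]; group
      rw [h3]
      exact Subgroup.mul_mem _ (Subgroup.mem_map_of_mem π ht) (Subgroup.mem_map_of_mem π h1)
    have hTp' : IsPGroup p ↥((T.subgroupOf H).map π) := (hTp.comap_subtype).map π
    have h1 : (T.subgroupOf H).map π ⊓ (A.subgroupOf H).map π = ⊥ := by
      apply Subgroup.inf_eq_bot_of_coprime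
      obtain ⟨j, hj⟩ := hTp'.exists_card_eq
      rw [hj, hBcard]
      exact (Nat.Coprime.pow_right j hAcop).symm
    have h2 : π t * π a * (π t)⁻¹ * (π a)⁻¹ ∈ (T.subgroupOf H).map π ⊓ (A.subgroupOf H).map π :=
      ⟨hcT, hcB⟩
    rw [h1, Subgroup.mem_bot] at h2
    -- `π a * π t = π t * π a`
    have h3 : π t * π a = π a * π t := by
      have := congrArg (fun z => z * π a * π t) h2
      simpa [mul_assoc] using this
    exact h3.symm
  · intro T hTRA hTp
    have hTH : T ≤ H := hTRA.trans hRAH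
    apply key T hTH hTp
    have h1 : T.subgroupOf H ≤ ((A.subgroupOf H).map π).comap π := by
      rw [← hRAsub]
      intro x hx
      exact Subgroup.mem_subgroupOf.mpr (hTRA (Subgroup.mem_subgroupOf.mp hx))
    exact Subgroup.map_le_iff_le_comap.mpr h1

end core

end Cfsg.Agent.Lib.Helper3.S1936
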