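import Cfsg.Agent.Lib.Helper66.S3Defs

/-!
# S3 hive (S4305, owner helper66), leaf C1B: algebra of `mapH` / `mapA` (helper32).
-/

set_option autoImplicit false

namespace Cfsg.Agent.Lib.Helper66.S3

universe u

section c1b

variable {H : Type u} [Group H] [MulDistribMulAction A3 H]

theorem c1b_mem_mapH (h : H) (C : Subgroup H) (x : H) :
    x ∈ mapH h C ↔ h⁻¹ * x * h ∈ C := by
  unfold mapH
  constructor
  · rintro ⟨y, hy, rfl⟩
    have : h⁻¹ * ((MulAut.conj h).toMonoidHom y) * h = y := by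
      simp [MulAut.conj_apply, mul_assoc]
    rw [this]
    exact hy
  · intro hx
    refine ⟨h⁻¹ * x * h, hx, ?_⟩
    simp [MulAut.conj_apply, mul_assoc]

theorem c1b_mem_mapA (a : A3) (C : Subgroup H) (x : H) :
    x ∈ mapA a C ↔ a⁻¹ • x ∈ C := by
  change (∃ y, y ∈ C ∧ a • y = x) ↔ a⁻¹ • x ∈ C
  constructor
  · rintro ⟨y, hy, hyx'⟩
    rw [← hyx', inv_smul_smul]
    exact hy
  · intro hx
    refine ⟨a⁻¹ • x, hx, ?_⟩
    show a • (a⁻¹ • x) = x
    rw [smul_inv_smul]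

theorem c1b_mapH_mul (h k : H) (C : Subgroup H) : mapH (h * k) C = mapH h (mapH k C) := by
  ext x
  rw [c1b_mem_mapH, c1b_mem_mapH, c1b_mem_mapH]
  have : (h * k)⁻¹ * x * (h * k) = k⁻¹ * (h⁻¹ * x * h) * k := by group
  rw [this]

theorem c1b_mapH_one (C : Subgroup H) : mapH 1 C = C := by
  ext x
  rw [c1b_mem_mapH]
  simp

theorem c1b_mapA_mul (a b : A3) (C : Subgroup H) : mapA (a * b) C = mapA a (mapA b C) := by
  ext x
  rw [c1b_mem_mapA, c1b_mem_mapA, c1b_mem_mapA, mul_inv_rev, mul_smul]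

theorem c1b_mapA_one (C : Subgroup H) : mapA 1 C = C := by
  ext x
  rw [c1b_mem_mapA]
  simp

theorem c1b_mapA_mapH (a : A3) (h : H) (C : Subgroup H) :
    mapA a (mapH h C) = mapH (a • h) (mapA a C) := by
  ext x
  rw [c1b_mem_mapA, c1b_mem_mapH, c1b_mem_mapH, c1b_mem_mapA]
  have : a⁻¹ • ((a • h)⁻¹ * x * (a • h)) = h⁻¹ * a⁻¹ • x * h := by
    rw [smul_mul', smul_mul', smul_inv', inv_smul_smul]
  rw [this]

end c1b

end Cfsg.Agent.Lib.Helper66.S3
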