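import Mathlib

/-! # A5c hive (S3278, helper47), leaf A5c-INV (helper32) -/

set_option autoImplicit false
set_option linter.unusedVariables false

universe u

namespace Cfsg.Agent.Lib.Helper47.A5c

open Subgroup

/-- LEAF A5c-INV. 2-elements of `C` lie in the normal odd-index subgroup `S₀`. -/
theorem inv_mem {G : Type u} [Group G] [Finite G] (C S₀ : Subgroup G) (hle : S₀ ≤ C)
    (hodd : ¬ 2 ∣ S₀.relIndex C) (hn : (S₀.subgroupOf C).Normal) (u : G) (huC : u ∈ C)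
    (hu : ∃ k : ℕ, orderOf u = 2 ^ k) : u ∈ S₀ := by
  haveI := hn
  obtain ⟨k, hk⟩ := hu
  have hpow : (⟨u, huC⟩ : ↥C) ^ (2 ^ k) = 1 := by
    apply Subtype.ext
    rw [Subgroup.coe_pow, Subgroup.coe_one, ← hk]
    exact pow_orderOf_eq_one u
  have h1 : orderOf (QuotientGroup.mk (⟨u, huC⟩ : ↥C) : ↥C ⧸ S₀.subgroupOf C) ∣ 2 ^ k := by
    apply orderOf_dvd_of_pow_eq_one
    rw [← QuotientGroup.mk_pow, hpow, QuotientGroup.mk_one]
  have h2 : orderOf (QuotientGroup.mk (⟨u, huC⟩ : ↥C) : ↥C ⧸ S₀.subgroupOf C) ∣ S₀.relIndex C := by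
    rw [Subgroup.relIndex, Subgroup.index_eq_card]
    exact orderOf_dvd_natCard _
  have hcop : Nat.Coprime (2 ^ k) (S₀.relIndex C) :=
    Nat.Coprime.pow_left k ((Nat.Prime.coprime_iff_not_dvd Nat.prime_two).mpr hodd)
  have h3 := Nat.dvd_gcd h1 h2
  rw [Nat.Coprime.gcd_eq_one hcop, Nat.dvd_one, orderOf_eq_one_iff, QuotientGroup.eq_one_iff] at h3
  exact Subgroup.mem_subgroupOf.mp h3

end Cfsg.Agent.Lib.Helper47.A5c
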