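import Mathlib

/-! # A5c hive (S3278, helper47), leaf A5c-NNC (helper32) -/

set_option autoImplicit false
set_option linter.unusedVariables false

universe u

namespace Cfsg.Agent.Lib.Helper47.A5c

open Subgroup

/-- LEAF A5c-NNC. -/
theorem nnc {G : Type u} [Group G] [Finite G] [IsSimpleGroup G] (g₀ : ℕ)
    (hG : Nat.card G = 4 * g₀) : ¬ ∃ N : Subgroup G, N.Normal ∧ Nat.card N = g₀ := by
  rintro ⟨N, hN, hcard⟩
  rcases hN.eq_bot_or_eq_top with h | h
  · subst h
    rw [Subgroup.card_bot] at hcard
    have hG4 : Nat.card G = 2 ^ 2 := by rw [hG, ← hcard]; norm_num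
    haveI : Fact (Nat.Prime 2) := ⟨Nat.prime_two⟩
    have hcomm := IsPGroup.commutative_of_card_eq_prime_sq hG4
    obtain ⟨x, hx⟩ := exists_prime_orderOf_dvd_card' 2 (by rw [hG4]; norm_num)
    have hnorm : (Subgroup.zpowers x).Normal :=
      ⟨fun n hn g => by rw [hcomm g n, mul_inv_cancel_right]; exact hn⟩
    have hz := Nat.card_zpowers x
    rcases hnorm.eq_bot_or_eq_top with h | h
    · rw [h, Subgroup.card_bot, hx] at hz
      norm_num at hz
    · rw [h, Subgroup.card_top, hx, hG4] at hz
      norm_num at hz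
  · subst h
    rw [Subgroup.card_top, hG] at hcard
    have h0 : g₀ = 0 := by omega
    have hpos := Nat.card_pos (α := G)
    rw [hG, h0] at hpos
    simp at hpos

end Cfsg.Agent.Lib.Helper47.A5c
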