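import Mathlib
import Cfsg.Agent.Lib.Helper81.Ah.Defs

/-! # Ah hive (S2272, helper81), leaf AH-C1 (helper32) -/

set_option autoImplicit false

namespace Cfsg.Agent.Lib.Helper81.Ah

open Matrix Cfsg.Agent.Lib.Helper81.Mi

variable {F : Type*} [Field F] {n : ℕ}

/-- AH-C1: `c1` on a rank-one matrix. -/
theorem c1_vecMulVec (Y : Matrix (Fin n) (Fin n) F) (v w a b : Fin n → F) :
    c1 Y v w (Matrix.vecMulVec a b) = (w ⬝ᵥ a) * (b ⬝ᵥ (Y *ᵥ v)) - (w ⬝ᵥ (Y *ᵥ a)) * (b ⬝ᵥ v) := by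
  rw [c1_apply, Matrix.sub_mulVec, dotProduct_sub, ← Matrix.mulVec_mulVec, ← Matrix.mulVec_mulVec,
    Matrix.vecMulVec_mulVec, Matrix.vecMulVec_mulVec, op_smul_eq_smul,
    op_smul_eq_smul, Matrix.mulVec_smul, dotProduct_smul, dotProduct_smul, smul_eq_mul,
    smul_eq_mul]
  ring

end Cfsg.Agent.Lib.Helper81.Ah
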