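import Mathlib
import Cfsg.Agent.Lib.Helper81.Ah.Defs

/-! # Ah hive (S2272, helper81), leaf AH-D2 (helper32) -/

set_option autoImplicit false

namespace Cfsg.Agent.Lib.Helper81.Ah

open Matrix Cfsg.Agent.Lib.Helper81.Mi

variable {F : Type*} [Field F] {n : ℕ}

theorem ahd2_sandwich (X : Matrix (Fin n) (Fin n) F) (a b b' : Fin n → F) :
    Matrix.vecMulVec a b * X * Matrix.vecMulVec a b' =
      (b ⬝ᵥ (X *ᵥ a)) • Matrix.vecMulVec a b' := by
  rw [Matrix.vecMulVec_mul, Matrix.vecMulVec_mul_vecMulVec, Matrix.vecMulVec_smul,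
    Matrix.dotProduct_mulVec]

/-- AH-D2: the second difference of `E ↦ (1 + E) X (1 + E)⁻¹` over rank-one nilpotents with centre `a`. -/
theorem second_difference (X : Matrix (Fin n) (Fin n) F) (a b b' : Fin n → F)
    (hb : b ⬝ᵥ a = 0) (hb' : b' ⬝ᵥ a = 0) :
    tmat a (b + b') * X * tmat a (-(b + b')) - tmat a b * X * tmat a (-b)
        - tmat a b' * X * tmat a (-b') + X =
      -((b ⬝ᵥ (X *ᵥ a)) • Matrix.vecMulVec a b' + (b' ⬝ᵥ (X *ᵥ a)) • Matrix.vecMulVec a b) := by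
  rw [← ahd2_sandwich X a b b', ← ahd2_sandwich X a b' b]
  unfold tmat
  rw [Matrix.vecMulVec_neg, Matrix.vecMulVec_neg, Matrix.vecMulVec_neg, Matrix.vecMulVec_add]
  noncomm_ring

end Cfsg.Agent.Lib.Helper81.Ah
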