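import Mathlib
import Cfsg.Agent.Lib.Helper81.Ah.Defs

/-! # Ah hive (S2272, helper81), leaf AH-NE (helper32) -/

set_option autoImplicit false

namespace Cfsg.Agent.Lib.Helper81.Ah

open Matrix Cfsg.Agent.Lib.Helper81.Mi

variable {F : Type*} [Field F] {n : ℕ}

/-- AH-NE: a non-scalar matrix has a non-eigenvector. -/
theorem exists_non_eigen (M : Matrix (Fin n) (Fin n) F) (hM : ∀ c : F, M ≠ Matrix.scalar (Fin n) c) :
    ∃ x : Fin n → F, ∀ c : F, M *ᵥ x ≠ c • x := by
  by_contra hcon
  push_neg at hcon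
  choose c hc using fun i : Fin n => hcon (Pi.single i 1)
  have hMji : ∀ i j : Fin n, M j i = if j = i then c i else 0 := by
    intro i j
    have h := congrFun (hc i) j
    rw [Matrix.mulVec_single_one] at h
    rw [show M j i = M.col i j from rfl, h, Pi.smul_apply, Pi.single_apply, smul_eq_mul]
    split_ifs <;> simp
  have hcc : ∀ i j : Fin n, c i = c j := by
    intro i j
    by_cases hij : i = j
    · rw [hij]
    obtain ⟨d, hd⟩ := hcon (Pi.single i 1 + Pi.single j 1)
    rw [Matrix.mulVec_add, hc i, hc j] at hd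
    have hi := congrFun hd i
    have hj := congrFun hd j
    simp [Pi.single_apply, hij, Ne.symm hij] at hi hj
    rw [hi, hj]
  rcases Nat.eq_zero_or_pos n with h0 | hpos
  · subst h0
    exact hM 0 (Subsingleton.elim _ _)
  · apply hM (c ⟨0, hpos⟩)
    ext j i
    rw [hMji, Matrix.scalar_apply, Matrix.diagonal_apply]
    by_cases hji : j = i
    · simp [hji, hcc i ⟨0, hpos⟩]
    · simp [hji]

end Cfsg.Agent.Lib.Helper81.Ah
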