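import Mathlib

/-!
# BG 11.7, piece (L3)

A `p`-group acting non-trivially on a group of prime order `q` forces `p < q`
(`Aut` of a group of order `q` has order `q - 1`).
-/

namespace Cfsg.Agent.Lib.Helper32.BG117

open Subgroup

universe u

variable {G : Type u} [Group G] [Finite G]

theorem lt_of_not_le_centralizer {p q : ℕ} [Fact p.Prime] [Fact q.Prime] {A B₀ : Subgroup G}
    (hA : IsPGroup p A) (hB₀ : Nat.card B₀ = q) (hAB₀ : A ≤ normalizer (B₀ : Set G))
    (hnc : ¬ A ≤ centralizer (B₀ : Set G)) : p < q := by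
  have hp : p.Prime := Fact.out
  have hq : q.Prime := Fact.out
  by_contra hlt
  have hqp : q ≤ p := Nat.le_of_not_lt hlt
  apply hnc
  intro a ha
  -- the image of `a` in `Aut B₀`
  haveI : IsCyclic B₀ := isCyclic_of_prime_card (p := q) hB₀
  have hcardAut : Nat.card (MulAut B₀) = q - 1 := by
    rw [IsCyclic.card_mulAut, hB₀, Nat.totient_prime hq]
  set x : normalizer (B₀ : Set G) := ⟨a, hAB₀ ha⟩ with hx
  have hord1 : orderOf (B₀.normalizerMonoidHom x) ∣ q - 1 := by
    rw [← hcardAut]; exact orderOf_dvd_natCard _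
  -- order of `a` is a power of `p`
  obtain ⟨k, hk⟩ := hA ⟨a, ha⟩
  have hak : a ^ p ^ k = 1 := by
    have := congrArg Subtype.val hk
    simpa using this
  have hxk : x ^ p ^ k = 1 := by
    apply Subtype.ext
    simpa [hx] using hak
  have hord2 : orderOf (B₀.normalizerMonoidHom x) ∣ p ^ k := by
    apply orderOf_dvd_of_pow_eq_one
    rw [← map_pow, hxk, map_one]
  have hcop : Nat.Coprime (p ^ k) (q - 1) := by
    apply Nat.Coprime.pow_left
    rw [Nat.Prime.coprime_iff_not_dvd hp]
    intro hdvd
    have h1 : 0 < q - 1 := by have := hq.two_le; omega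
    have := Nat.le_of_dvd h1 hdvd
    omega
  have hone : orderOf (B₀.normalizerMonoidHom x) = 1 :=
    Nat.eq_one_of_dvd_coprimes hcop hord2 hord1
  have hker : x ∈ B₀.normalizerMonoidHom.ker := by
    rw [MonoidHom.mem_ker]
    exact orderOf_eq_one_iff.mp hone
  rw [normalizerMonoidHom_ker, mem_subgroupOf] at hker
  exact hker

end Cfsg.Agent.Lib.Helper32.BG117
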