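import Mathlib
import Cfsg.Agent.Lib.Helper91.BG152Defs
import Cfsg.Agent.S1446
import Cfsg.Agent.Lib.Helper21.SupNormalizer
import Cfsg.Agent.Lib.Helper22.PConstrained
import Cfsg.Agent.Lib.Helper24.CoprimeAbelian
import Cfsg.Agent.Lib.Helper24.Coprime
import Cfsg.Agent.Lib.Helper16.CoprimeFrattini
import Cfsg.Agent.Lib.Helper30.FStarQuot

/-!
# BG Theorem 15.2, Case B, leaf B5 (core)

`B5_core`: in the configuration `CfgB H K Q q` with a `K`-invariant complement `D` of `Q` in `H`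
that is nilpotent, nontrivial, a `q'`-group, and on which `K` acts without fixed points:
`|K|` is prime and `D'` centralizes `Q`.

Proof: apply `Cfsg.Agent.S1446.result` (BG 3.x, the Frobenius formula) in `M ⧸ Q'` with
`(K, R, M)_1446 := (D̄, K̄, [V, D̄])`, `V := Q / Q'` abelian.
-/

set_option autoImplicit false
set_option linter.unusedSectionVars false
set_option linter.style.haveILetI false

namespace Cfsg.Agent.Lib.Helper91.BG152

open Subgroup
open scoped commutatorElement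

universe u

variable {M : Type u} [Group M]

/-- card of the image of a subgroup meeting the kernel trivially -/
theorem B5_card_map {G' : Type*} [Group G'] (f : M →* G') (X : Subgroup M) (hX : X ⊓ f.ker = ⊥) :
    Nat.card (X.map f) = Nat.card X := by
  have hinj : Function.Injective (f.comp X.subtype) := by
    rw [injective_iff_map_eq_one]
    intro x hx
    have h1 : (x : M) ∈ X ⊓ f.ker := ⟨x.2, hx⟩
    rw [hX, Subgroup.mem_bot] at h1
    exact Subtype.ext h1
  have hr : (f.comp X.subtype).range = X.map f := by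
    rw [MonoidHom.range_comp, Subgroup.range_subtype]
  rw [← hr]
  exact (Nat.card_congr (MonoidHom.ofInjective hinj).toEquiv).symm

/-- the card of an image divides the card -/
theorem B5_card_map_dvd [Finite M] {G' : Type*} [Group G'] (f : M →* G') (X : Subgroup M) :
    Nat.card (X.map f) ∣ Nat.card X :=
  Subgroup.card_dvd_of_surjective (f.subgroupMap X) (f.subgroupMap_surjective X)

theorem B5_isCyclic_of_le {G : Type*} [Group G] {A B : Subgroup G} (hAB : A ≤ B) [IsCyclic B] :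
    IsCyclic A := by
  have : IsCyclic (A.subgroupOf B) := inferInstance
  exact isCyclic_of_surjective (Subgroup.subgroupOfEquivOfLe hAB).toMonoidHom
    (Subgroup.subgroupOfEquivOfLe hAB).surjective

theorem B5_le_normalizer_commutator {G : Type*} [Group G] {X A B : Subgroup G}
    (hA : X ≤ normalizer (A : Set G)) (hB : X ≤ normalizer (B : Set G)) :
    X ≤ normalizer ((⁅A, B⁆ : Subgroup G) : Set G) := by
  have key : ∀ y ∈ X, ∀ n ∈ ⁅A, B⁆, y * n * y⁻¹ ∈ ⁅A, B⁆ := by
    intro y hy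
    have hle : ⁅A, B⁆ ≤ (⁅A, B⁆).comap (MulAut.conj y).toMonoidHom := by
      rw [Subgroup.commutator_le]
      intro a ha b hb
      rw [Subgroup.mem_comap]
      show (MulAut.conj y).toMonoidHom ⁅a, b⁆ ∈ ⁅A, B⁆
      rw [map_commutatorElement]
      apply Subgroup.commutator_mem_commutator
      · exact (Subgroup.mem_normalizer_iff.mp (hA hy) a).mp ha
      · exact (Subgroup.mem_normalizer_iff.mp (hB hy) b).mp hb
    intro n hn
    exact hle hn
  intro x hx
  rw [Subgroup.mem_normalizer_iff]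
  intro n
  constructor
  · exact key x hx n
  · intro hn
    have h1 := key x⁻¹ (inv_mem hx) _ hn
    simpa [mul_assoc] using h1

variable [Finite M]

theorem B5_core {H K Q : Subgroup M} {q : ℕ} [H.Normal] [hQn : Q.Normal] (h : CfgB H K Q q)
    {D : Subgroup M} (hDH : D ≤ H) (hQD : Q ⊓ D = ⊥) (hsup : Q ⊔ D = H)
    (hKD : K ≤ normalizer (D : Set M))
    (hDnil : Group.IsNilpotent D) (hD1 : D ≠ ⊥) (hDq : (Nat.card D).Coprime q)
    (hDfpf : ∀ k ∈ K, k ≠ 1 → D ⊓ centralizer ({k} : Set M) = ⊥) :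
    (Nat.card K).Prime ∧ ⁅D, D⁆ ≤ centralizer (Q : Set M) := by
  classical
  haveI : Fact q.Prime := ⟨h.qp⟩
  haveI := h.solv
  have hQH : Q ≤ H := by rw [← hsup]; exact le_sup_left
  have hqH : q ∣ Nat.card H := by
    rw [← h.cKs]; exact Subgroup.card_dvd_of_le inf_le_left
  have hKq : (Nat.card K).Coprime q := (Nat.Coprime.coprime_dvd_left hqH h.cop).symm
  have hDKq : (Nat.card ↥(D ⊔ K)).Coprime q := by
    have hdvd := Cfsg.Agent.Lib.Helper21.card_sup_dvd (X := D) (Y := K) hKD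
    exact Nat.Coprime.coprime_dvd_left hdvd (Nat.Coprime.mul_left hDq hKq)
  -- the normal subgroup `N = Q'`
  obtain ⟨N, hNdef⟩ : ∃ N : Subgroup M, N = ⁅Q, Q⁆ := ⟨_, rfl⟩
  haveI hNn : N.Normal := by rw [hNdef]; exact Subgroup.commutator_normal Q Q
  have hNQ : N ≤ Q := by rw [hNdef]; exact Subgroup.commutator_le_left Q Q
  have hNq : IsPGroup q N := h.pQ.to_le hNQ
  have hcopN : ∀ X : Subgroup M, (Nat.card X).Coprime q → (Nat.card X).Coprime (Nat.card N) := by
    intro X hX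
    obtain ⟨n, hn⟩ := (IsPGroup.iff_card).mp hNq
    rw [hn]; exact Nat.Coprime.pow_right n hX
  have hDKN : (D ⊔ K) ⊓ N = ⊥ := Subgroup.inf_eq_bot_of_coprime (hcopN _ hDKq)
  obtain ⟨π, hπdef⟩ : ∃ π : M →* M ⧸ N, π = QuotientGroup.mk' N := ⟨_, rfl⟩
  have hπ1 : ∀ x : M, π x = 1 ↔ x ∈ N := by
    intro x; rw [hπdef]; exact QuotientGroup.eq_one_iff x
  have hπker : π.ker = N := by rw [hπdef]; exact QuotientGroup.ker_mk' N
  have hπsurj : Function.Surjective π := by rw [hπdef]; exact QuotientGroup.mk'_surjective N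
  have hπeq : ∀ x y : M, π x = π y → x⁻¹ * y ∈ N := by
    intro x y hxy
    rw [← hπ1, map_mul, map_inv, hxy, inv_mul_cancel]
  -- images
  obtain ⟨V, hVdef⟩ : ∃ V : Subgroup (M ⧸ N), V = Q.map π := ⟨_, rfl⟩
  obtain ⟨Db, hDbdef⟩ : ∃ Db : Subgroup (M ⧸ N), Db = D.map π := ⟨_, rfl⟩
  obtain ⟨Kb, hKbdef⟩ : ∃ Kb : Subgroup (M ⧸ N), Kb = K.map π := ⟨_, rfl⟩
  have hVmem : ∀ a ∈ V, ∃ x ∈ Q, π x = a := by
    intro a ha; rw [hVdef] at ha; exact Subgroup.mem_map.mp ha
  have hDbmem : ∀ a ∈ Db, ∃ x ∈ D, π x = a := by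
    intro a ha; rw [hDbdef] at ha; exact Subgroup.mem_map.mp ha
  have hKbmem : ∀ a ∈ Kb, ∃ x ∈ K, π x = a := by
    intro a ha; rw [hKbdef] at ha; exact Subgroup.mem_map.mp ha
  have hmemV : ∀ x ∈ Q, π x ∈ V := by
    intro x hx; rw [hVdef]; exact Subgroup.mem_map_of_mem π hx
  have hmemDb : ∀ x ∈ D, π x ∈ Db := by
    intro x hx; rw [hDbdef]; exact Subgroup.mem_map_of_mem π hx
  have hmemKb : ∀ x ∈ K, π x ∈ Kb := by
    intro x hx; rw [hKbdef]; exact Subgroup.mem_map_of_mem π hx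
  -- `V` is abelian
  have hVc : ∀ a ∈ V, ∀ b ∈ V, a * b = b * a := by
    intro a ha b hb
    obtain ⟨x, hx, rfl⟩ := hVmem a ha
    obtain ⟨y, hy, rfl⟩ := hVmem b hb
    have hc : ⁅x, y⁆ ∈ N := by rw [hNdef]; exact Subgroup.commutator_mem_commutator hx hy
    have h1 : π ⁅x, y⁆ = 1 := (hπ1 _).mpr hc
    rw [map_commutatorElement, commutatorElement_eq_one_iff_mul_comm] at h1
    exact h1
  haveI hVcomm : IsMulCommutative ↥V := ⟨⟨fun a b => Subtype.ext (hVc a.1 a.2 b.1 b.2)⟩⟩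
  have hVq : IsPGroup q V := by rw [hVdef]; exact h.pQ.map π
  haveI hVn : V.Normal := by rw [hVdef]; exact Subgroup.Normal.map hQn π hπsurj
  have hVtop : ∀ X : Subgroup (M ⧸ N), X ≤ normalizer (V : Set (M ⧸ N)) := by
    intro X x _
    rw [Subgroup.mem_normalizer_iff]
    intro n
    constructor
    · intro hn; exact hVn.conj_mem n hn x
    · intro hn
      have := hVn.conj_mem _ hn x⁻¹
      simpa [mul_assoc] using this
  -- cards of the images
  have hcardDb : Nat.card Db = Nat.card D := by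
    rw [hDbdef]
    apply B5_card_map
    rw [hπker, eq_bot_iff, ← hDKN]
    exact inf_le_inf_right _ le_sup_left
  have hcardKb : Nat.card Kb = Nat.card K := by
    rw [hKbdef]
    apply B5_card_map
    rw [hπker, eq_bot_iff, ← hDKN]
    exact inf_le_inf_right _ le_sup_right
  have hDbKb : Db ⊔ Kb = (D ⊔ K).map π := by
    rw [hDbdef, hKbdef, Subgroup.map_sup]
  have hcardDbKb : (Nat.card ↥(Db ⊔ Kb)).Coprime q := by
    rw [hDbKb]
    exact Nat.Coprime.coprime_dvd_left (B5_card_map_dvd π _) hDKq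
  have hqpow : ∀ X : Subgroup (M ⧸ N), X ≤ V → ∃ n, Nat.card X = q ^ n := by
    intro X hX
    exact (IsPGroup.iff_card).mp (hVq.to_le hX)
  -- normalizers
  have hKbDb : Kb ≤ normalizer (Db : Set (M ⧸ N)) := by
    rw [hKbdef, hDbdef]
    exact (Subgroup.map_mono hKD).trans (Subgroup.le_normalizer_map π)
  have hDbDb : Db ≤ normalizer (Db : Set (M ⧸ N)) := Subgroup.le_normalizer
  -- the module `M₁ = [V, D̄]`
  obtain ⟨M₁, hM₁def⟩ : ∃ M₁ : Subgroup (M ⧸ N), M₁ = ⁅V, Db⁆ := ⟨_, rfl⟩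
  have hM₁V : M₁ ≤ V := by
    rw [hM₁def]; exact Subgroup.commutator_le_left V Db
  -- elements of `D`, `K` are `q'`-elements
  have hordD : ∀ d ∈ D, ¬ q ∣ orderOf d := by
    intro d hd hq
    have h1 : orderOf d ∣ Nat.card D := by
      have := orderOf_dvd_natCard (⟨d, hd⟩ : D)
      rwa [Subgroup.orderOf_mk] at this
    have h2 : q ∣ Nat.card D := hq.trans h1
    have h3 := Nat.Coprime.eq_one_of_dvd hDq.symm h2
    exact h.qp.one_lt.ne' h3
  -- trivial action mod `N` implies trivial action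
  have hlift : ∀ c ∈ D, (∀ x ∈ Q, π x * π c = π c * π x) → ∀ x ∈ Q, x * c = c * x := by
    intro c hc hcomm
    apply Cfsg.Agent.Lib.Helper16.centralizes_of_commutator_mem q Q h.pQ c (hordD c hc)
    intro x hx
    rw [← hNdef, ← hπ1]
    have := hcomm x hx
    simp only [map_mul, map_inv]
    rw [← this]
    group
  -- (C) `M₁ ≠ ⊥`
  have hM₁1 : M₁ ≠ ⊥ := by
    intro hbot
    have hcomm : ∀ a ∈ Q, ∀ b ∈ D, Commute a b := by
      intro a ha b hb
      apply hlift b hb _ a ha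
      intro x hx
      have h1 : ⁅π x, π b⁆ ∈ M₁ := by
        rw [hM₁def]; exact Subgroup.commutator_mem_commutator (hmemV x hx) (hmemDb b hb)
      rw [hbot, Subgroup.mem_bot, commutatorElement_eq_one_iff_mul_comm] at h1
      exact h1
    have hnil := Cfsg.Agent.Lib.Helper30.isNilpotent_sup_of_commute Q D h.pQ.isNilpotent hDnil hcomm
    rw [hsup] at hnil
    exact h.nn hnil
  -- (A) prime action on `V`
  obtain ⟨C, hCdef⟩ : ∃ C : Subgroup M, C = Q ⊓ centralizer (K : Set M) := ⟨_, rfl⟩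
  have hprime : ∀ k ∈ K, k ≠ 1 → V ⊓ centralizer ({π k} : Set (M ⧸ N)) ≤ C.map π := by
    intro k hk hk1 x hx
    obtain ⟨hxV, hxc⟩ := hx
    have hcopk : (Nat.card (zpowers k)).Coprime (Nat.card N) := by
      apply hcopN
      exact Nat.Coprime.coprime_dvd_left (Subgroup.card_dvd_of_le ((zpowers_le).mpr hk)) hKq
    have hmc := Cfsg.Agent.Lib.Helper22.map_centralizer_mk'_of_coprime N (zpowers k) hcopk
      (Or.inl inferInstance)
    rw [← hπdef] at hmc
    have hx2 : x ∈ centralizer (((zpowers k).map π : Subgroup (M ⧸ N)) : Set (M ⧸ N)) := by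
      rw [Subgroup.mem_centralizer_iff]
      intro y hy
      obtain ⟨z, hz, rfl⟩ := Subgroup.mem_map.mp hy
      obtain ⟨n, rfl⟩ := Subgroup.mem_zpowers_iff.mp hz
      rw [map_zpow]
      have hcx : Commute (π k) x := by
        have := (Subgroup.mem_centralizer_iff.mp hxc) (π k) (Set.mem_singleton _)
        exact this
      exact (hcx.zpow_left n).eq
    rw [← hmc] at hx2
    obtain ⟨c, hc, rfl⟩ := Subgroup.mem_map.mp hx2
    obtain ⟨y, hy, hyc⟩ := hVmem _ hxV
    have hcQ : c ∈ Q := by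
      have h1 : y⁻¹ * c ∈ N := hπeq y c hyc
      have h2 : y⁻¹ * c ∈ Q := hNQ h1
      have h3 := Q.mul_mem hy h2
      rwa [mul_inv_cancel_left] at h3
    have hck : c ∈ centralizer ({k} : Set M) := by
      rw [Subgroup.mem_centralizer_iff]
      intro z hz
      rw [Set.mem_singleton_iff] at hz
      rw [hz]
      exact (Subgroup.mem_centralizer_iff.mp hc) k (Subgroup.mem_zpowers k)
    have hcK : c ∈ centralizer (K : Set M) := by
      have h1 : c ∈ H ⊓ centralizer ({k} : Set M) := ⟨hQH hcQ, hck⟩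
      rw [h.pa k hk hk1] at h1
      exact h1.2
    exact Subgroup.mem_map_of_mem π (by rw [hCdef]; exact ⟨hcQ, hcK⟩)
  have hCbcent : C.map π ≤ centralizer (Kb : Set (M ⧸ N)) := by
    intro x hx
    obtain ⟨c, hc, rfl⟩ := Subgroup.mem_map.mp hx
    rw [hCdef] at hc
    rw [Subgroup.mem_centralizer_iff]
    intro y hy
    obtain ⟨k, hk, rfl⟩ := hKbmem y hy
    rw [← map_mul, ← map_mul, (Subgroup.mem_centralizer_iff.mp hc.2) k hk]
  obtain ⟨k₀, hk₀, hk₀1⟩ : ∃ k ∈ K, k ≠ 1 := by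
    by_contra hcon
    push_neg at hcon
    exact h.K1 ((Subgroup.eq_bot_iff_forall _).mpr hcon)
  have hVcentKb : V ⊓ centralizer (Kb : Set (M ⧸ N)) ≤ C.map π := by
    refine le_trans ?_ (hprime k₀ hk₀ hk₀1)
    apply inf_le_inf_left
    apply Subgroup.centralizer_le
    intro z hz
    rw [Set.mem_singleton_iff] at hz
    rw [hz]; exact hmemKb k₀ hk₀
  have hpr : ∀ x ∈ Kb, x ≠ 1 → M₁ ⊓ centralizer ({x} : Set (M ⧸ N)) =
      M₁ ⊓ centralizer (Kb : Set (M ⧸ N)) := by
    intro x hx hx1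
    obtain ⟨k, hk, rfl⟩ := hKbmem x hx
    have hk1 : k ≠ 1 := by
      intro hk1; apply hx1; rw [hk1, map_one]
    apply le_antisymm
    · intro y hy
      refine ⟨hy.1, hCbcent (hprime k hk hk1 ⟨hM₁V hy.1, hy.2⟩)⟩
    · apply inf_le_inf_left
      apply Subgroup.centralizer_le
      intro z hz
      rw [Set.mem_singleton_iff] at hz
      rw [hz]; exact hmemKb k hk
  -- (B) cyclic
  have hcyc : IsCyclic ↥(M₁ ⊓ centralizer (Kb : Set (M ⧸ N))) := by
    have hle : M₁ ⊓ centralizer (Kb : Set (M ⧸ N)) ≤ C.map π :=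
      le_trans (inf_le_inf_right _ hM₁V) hVcentKb
    have hCcard : Nat.card (C.map π) ∣ q := by
      refine (B5_card_map_dvd π C).trans ?_
      rw [← h.cKs, hCdef]
      exact Subgroup.card_dvd_of_le (inf_le_inf_right _ hQH)
    haveI : IsCyclic ↥(C.map π) := by
      rcases (Nat.dvd_prime h.qp).mp hCcard with h1 | h1
      · haveI : Subsingleton ↥(C.map π) := (Nat.card_eq_one_iff_unique.mp h1).1
        exact isCyclic_of_subsingleton
      · exact isCyclic_of_prime_card h1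
    exact B5_isCyclic_of_le hle
  -- the other hypotheses of S1446
  have hDb1 : Db ≠ ⊥ := by
    intro hbot
    apply hD1
    rw [Subgroup.eq_bot_iff_card, ← hcardDb, hbot]
    exact Subgroup.card_bot
  have hKb1 : Kb ≠ ⊥ := by
    intro hbot
    apply h.K1
    rw [Subgroup.eq_bot_iff_card, ← hcardKb, hbot]
    exact Subgroup.card_bot
  have hDbKbinf : Db ⊓ Kb = ⊥ := by
    apply Subgroup.inf_eq_bot_of_coprime
    rw [hcardDb, hcardKb]
    exact Nat.Coprime.coprime_dvd_left (Subgroup.card_dvd_of_le hDH) h.cop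
  have hfrob : ∀ r ∈ Kb, r ≠ 1 → Db ⊓ centralizer ({r} : Set (M ⧸ N)) = ⊥ := by
    intro r hr hr1
    obtain ⟨k, hk, rfl⟩ := hKbmem r hr
    have hk1 : k ≠ 1 := by
      intro hk1; apply hr1; rw [hk1, map_one]
    rw [eq_bot_iff]
    intro x hx
    obtain ⟨d, hd, rfl⟩ := hDbmem x hx.1
    have hcomm : π k * π d = π d * π k :=
      (Subgroup.mem_centralizer_iff.mp hx.2) (π k) (Set.mem_singleton _)
    have h1 : k * d * k⁻¹ * d⁻¹ ∈ N := by
      rw [← hπ1]
      simp only [map_mul, map_inv]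
      rw [hcomm]
      group
    have h2 : k * d * k⁻¹ ∈ D := (Subgroup.mem_normalizer_iff.mp (hKD hk) d).mp hd
    have h3 : k * d * k⁻¹ * d⁻¹ ∈ Q ⊓ D := ⟨hNQ h1, D.mul_mem h2 (D.inv_mem hd)⟩
    rw [hQD, Subgroup.mem_bot] at h3
    have h4 : k * d = d * k := by
      have h40 : k * d * k⁻¹ = d := mul_inv_eq_one.mp h3
      calc k * d = (k * d * k⁻¹) * k := by group
        _ = d * k := by rw [h40]
    have h5 : d ∈ D ⊓ centralizer ({k} : Set M) := by
      refine Subgroup.mem_inf.mpr ⟨hd, ?_⟩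
      rw [Subgroup.mem_centralizer_iff]
      intro z hz
      rw [Set.mem_singleton_iff] at hz
      rw [hz]; exact h4
    rw [hDfpf k hk hk1, Subgroup.mem_bot] at h5
    rw [Subgroup.mem_bot, h5, map_one]
  have hsolv : Group.IsSolvable ↥(Db ⊔ Kb) := inferInstance
  have hodd : Odd (Nat.card ↥(Db ⊔ Kb)) := by
    have h1 : Nat.card ↥(Db ⊔ Kb) ∣ Nat.card M :=
      (Subgroup.card_subgroup_dvd_card _).trans (Subgroup.card_dvd_of_surjective π hπsurj)
    exact Odd.of_dvd_nat h.odd h1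
  have hM₁nil : Group.IsNilpotent ↥M₁ := by
    letI : CommGroup ↥M₁ :=
      { (inferInstance : Group ↥M₁) with
        mul_comm := fun a b => Subtype.ext (hVc a.1 (hM₁V a.2) b.1 (hM₁V b.2)) }
    exact CommGroup.isNilpotent
  have hDbM₁ : Db ≤ normalizer (M₁ : Set (M ⧸ N)) := by
    rw [hM₁def]; exact B5_le_normalizer_commutator (hVtop Db) hDbDb
  have hKbM₁ : Kb ≤ normalizer (M₁ : Set (M ⧸ N)) := by
    rw [hM₁def]; exact B5_le_normalizer_commutator (hVtop Kb) hKbDb
  have hcop : (Nat.card ↥(Db ⊔ Kb)).Coprime (Nat.card ↥M₁) := by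
    obtain ⟨n, hn⟩ := hqpow M₁ hM₁V
    rw [hn]; exact Nat.Coprime.pow_right n hcardDbKb
  have hcopDbV : (Nat.card ↥Db).Coprime (Nat.card ↥V) := by
    obtain ⟨n, hn⟩ := hqpow V le_rfl
    rw [hn, hcardDb]; exact Nat.Coprime.pow_right n hDq
  have hCK : M₁ ⊓ centralizer (Db : Set (M ⧸ N)) = ⊥ := by
    rw [hM₁def]
    exact Cfsg.Agent.Lib.Helper24.commutator_inf_centralizer_eq_bot_of_abelian V Db (hVtop Db) hcopDbV
  -- apply S1446
  obtain ⟨hR, -, hcomm⟩ := Cfsg.Agent.S1446.result Db Kb M₁ hDb1 hKb1 hDbKbinf hKbDb hfrob hsolv hodd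
    hM₁1 hM₁nil hDbM₁ hKbM₁ hcop hCK hpr
  refine ⟨by rw [← hcardKb]; exact hR, ?_⟩
  -- (E)
  have hDD := hcomm hcyc
  have hVdec : ⁅V, Db⁆ ⊔ V ⊓ centralizer (Db : Set (M ⧸ N)) = V :=
    Cfsg.Agent.Lib.Helper24.commutator_sup_centralizer_eq Db V (hVtop Db) hcopDbV (Or.inl inferInstance)
  have hVle : V ≤ centralizer ((⁅Db, Db⁆ : Subgroup (M ⧸ N)) : Set (M ⧸ N)) := by
    rw [← hVdec, ← hM₁def]
    apply sup_le
    · exact Subgroup.le_centralizer_iff.mp hDD
    · refine le_trans inf_le_right ?_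
      apply Subgroup.centralizer_le
      exact Subgroup.commutator_le_self Db
  intro c hc
  have hcD : c ∈ D := Subgroup.commutator_le_self D hc
  have hπc : π c ∈ ⁅Db, Db⁆ := by
    rw [hDbdef, ← Subgroup.map_commutator]
    exact Subgroup.mem_map_of_mem π hc
  rw [Subgroup.mem_centralizer_iff]
  apply hlift c hcD
  intro x hx
  exact ((Subgroup.mem_centralizer_iff.mp (hVle (hmemV x hx))) (π c) hπc).symm

end Cfsg.Agent.Lib.Helper91.BG152
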