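import Mathlib
import Cfsg.Prelude
import Cfsg.Agent.Lib.Helper33.Conj
import Cfsg.Agent.Lib.Helper24.RelSZ
import Cfsg.Agent.Lib.Helper24.InvCompl
import Cfsg.Agent.Lib.Helper23.TypeP

/-!
# General lemmas for BG159 [F2f]
-/

set_option autoImplicit false
set_option linter.style.haveILetI false
open Subgroup Cfsg Cfsg.Agent.Lib.Helper33 Cfsg.Agent.Lib.Helper24

namespace Cfsg.Agent.Lib.Helper32.BG159

variable {G : Type*} [Group G]

/-- flipping a complement pair when one factor is normal -/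
theorem f2f_flip {D Q W : Subgroup G} (h : IsComplIn D Q W) (hWQ : W ≤ normalizer (Q : Set G)) :
    IsComplIn Q D W := by
  obtain ⟨hD, hQ, hDQ, hprod⟩ := h
  refine ⟨hQ, hD, by rw [inf_comm]; exact hDQ, ?_⟩
  intro m hm
  obtain ⟨a, ha, b, hb, rfl⟩ := hprod m hm
  refine ⟨a * b * a⁻¹, ?_, a, ha, by group⟩
  exact (mem_normalizer_iff.mp (hWQ (hD ha)) b).mp hb

/-- `W = D ⊔ Q` for a complement pair -/
theorem f2f_le_sup {D Q W : Subgroup G} (h : IsComplIn D Q W) : W ≤ D ⊔ Q := by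
  intro m hm
  obtain ⟨a, ha, b, hb, rfl⟩ := h.2.2.2 m hm
  exact (D ⊔ Q).mul_mem ((le_sup_left : D ≤ D ⊔ Q) ha) ((le_sup_right : Q ≤ D ⊔ Q) hb)

variable [Finite G]

/-- Frattini argument for complements of a normal solvable Hall subgroup `Q` of `W`, both
normalized by `X`. -/
theorem f2f_frattini {D Q W X : Subgroup G} (h : IsComplIn D Q W)
    (hWQ : W ≤ normalizer (Q : Set G)) (hXW : X ≤ normalizer (W : Set G))
    (hcop : (Nat.card D).Coprime (Nat.card Q))
    (hsolv : Group.IsSolvable Q ∨ Group.IsSolvable D) :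
    ∀ n ∈ X, ∃ q ∈ Q, q⁻¹ * n ∈ normalizer (D : Set G) := by
  intro n hn
  have hnW : cj n W = W := cj_eq_self_iff.mpr (hXW hn)
  have h2 : cj n D ≤ D ⊔ Q := by
    refine le_trans ?_ (f2f_le_sup h)
    rw [← hnW]
    exact cj_mono h.1
  obtain ⟨q, hq, hqD⟩ := rel_sz_conj Q D (cj n D) (h.1.trans hWQ) hcop hsolv h2 (card_cj n D)
  refine ⟨q, hq, ?_⟩
  rw [← cj_eq_self_iff, cj_mul, ← hqD, cj_inv_cj]

/-- in a nilpotent subgroup `D`, a Sylow subgroup `S` of `G` lying in `D` contains every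
`s`-element of `D` -/
theorem f2f_mem_sylow_of_nilpotent {s : ℕ} [Fact s.Prime] {D : Subgroup G}
    (hD : Group.IsNilpotent D) (S : Sylow s G) (hSD : (S : Subgroup G) ≤ D) {x : G} (hx : x ∈ D)
    {k : ℕ} (hxs : x ^ (s ^ k) = 1) : x ∈ (S : Subgroup G) := by
  haveI := hD
  obtain ⟨P⟩ : Nonempty (Sylow s D) := inferInstance
  haveI hPn : (P : Subgroup D).Normal := inferInstance
  haveI : Subsingleton (Sylow s D) := (Sylow.unique_of_normal P hPn).instSubsingleton
  -- `S.subgroupOf D ≤ P`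
  have h1 : ((S : Subgroup G).subgroupOf D) ≤ (P : Subgroup D) := by
    have hp : IsPGroup s ((S : Subgroup G).subgroupOf D) :=
      S.isPGroup'.comap_of_injective D.subtype D.subtype_injective
    obtain ⟨P', hP'⟩ := hp.exists_le_sylow
    rwa [Subsingleton.elim P' P] at hP'
  -- `x ∈ P`
  have h2 : (⟨x, hx⟩ : D) ∈ (P : Subgroup D) := by
    have hp : IsPGroup s (Subgroup.zpowers (⟨x, hx⟩ : D)) := by
      rw [IsPGroup.iff_card, Nat.card_zpowers]
      have hdvd : orderOf (⟨x, hx⟩ : D) ∣ s ^ k := by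
        apply orderOf_dvd_of_pow_eq_one
        exact Subtype.ext (by simpa using hxs)
      obtain ⟨j, _, hj⟩ := (Nat.dvd_prime_pow (Fact.out : s.Prime)).mp hdvd
      exact ⟨j, hj⟩
    obtain ⟨P', hP'⟩ := hp.exists_le_sylow
    rw [Subsingleton.elim P' P] at hP'
    exact hP' (Subgroup.mem_zpowers _)
  -- `P.map D.subtype` is an `s`-group containing `S`
  have h3 : (S : Subgroup G) ≤ (P : Subgroup D).map D.subtype := by
    intro y hy
    exact ⟨⟨y, hSD hy⟩, h1 (Subgroup.mem_subgroupOf.mpr hy), rfl⟩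
  have h4 : IsPGroup s ((P : Subgroup D).map D.subtype) := P.isPGroup'.map _
  have h5 : (P : Subgroup D).map D.subtype = (S : Subgroup G) := S.is_maximal' h4 h3
  rw [← h5]
  exact ⟨⟨x, hx⟩, h2, rfl⟩

/-- an element normalizing the nilpotent `D` normalizes its Sylow subgroup `S` -/
theorem f2f_cj_sylow_of_nilpotent {s : ℕ} [Fact s.Prime] {D : Subgroup G}
    (hD : Group.IsNilpotent D) (S : Sylow s G) (hSD : (S : Subgroup G) ≤ D) {n : G}
    (hn : n ∈ normalizer (D : Set G)) : cj n (S : Subgroup G) = (S : Subgroup G) := by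
  have h1 : cj n (S : Subgroup G) ≤ (S : Subgroup G) := by
    intro y hy
    obtain ⟨x, hx, rfl⟩ := mem_cj'.mp hy
    have hxD : n * x * n⁻¹ ∈ D := (mem_normalizer_iff.mp hn x).mp (hSD hx)
    obtain ⟨k, hk⟩ := (IsPGroup.iff_orderOf.mp S.isPGroup') ⟨x, hx⟩
    refine f2f_mem_sylow_of_nilpotent hD S hSD hxD (k := k) ?_
    have hxk : x ^ (s ^ k) = 1 := by
      have h0 : orderOf x = s ^ k := by
        rw [← hk]; exact (Subgroup.orderOf_mk x hx).symm
      rw [← h0]; exact pow_orderOf_eq_one x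
    rw [conj_pow, hxk]; group
  have h2 : Nat.card (cj n (S : Subgroup G)) = Nat.card (S : Subgroup G) := card_cj n _
  exact Subgroup.eq_of_le_of_card_ge h1 (le_of_eq h2.symm)

end Cfsg.Agent.Lib.Helper32.BG159
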