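import Mathlib
import Cfsg.Prelude
import Cfsg.Agent.Lib.Helper32.BG159F2fA
import Cfsg.Agent.Lib.Helper47.BG11a
import Cfsg.Agent.Lib.Helper68.BG1215a
import Cfsg.Agent.Lib.Helper19.BG117H

/-!
# BG159 [F2f]: the rank lemma and the commutation lemma
-/

set_option autoImplicit false
set_option linter.style.haveILetI false
open Subgroup Cfsg Cfsg.Agent.Lib.Helper33 Cfsg.Agent.Lib.Helper24

namespace Cfsg.Agent.Lib.Helper32.BG159

variable {G : Type*} [Group G] [Finite G]

/-- a normal Sylow `t`-subgroup `Q` of `N*_σ` with `t ∈ β(N*)` cannot lie in a maximal subgroup `M`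
with `t ∉ σ(M)` (rank `≥ 3` against rank `≤ 2`). -/
theorem f2f_rank (hG : IsMinSimpleOddOrder G) {M Nstar : Subgroup G} (hM : IsCoatom M)
    (hNstar : IsCoatom Nstar) {t : ℕ} [Fact t.Prime] (htβ : t ∈ beta Nstar) (htσ : t ∉ sigma M)
    {Q : Subgroup G} (hQW : Q ≤ sigmaCore Nstar)
    (hWQ : sigmaCore Nstar ≤ normalizer (Q : Set G)) (hQ : IsPGroup t Q)
    (hQi : ¬ t ∣ Q.relIndex (sigmaCore Nstar)) : ¬ Q ≤ M := by
  intro hQM
  have htp : t.Prime := Fact.out
  have h2 : PRankLE t 2 M := Cfsg.Agent.Lib.Helper19.BG117.pRankLE_two_of_not_sigma hG hM htp htσ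
  have hα : t ∈ alpha Nstar := htβ.1
  have htσN : t ∈ sigma Nstar := by
    by_contra h
    exact hα.2 (Cfsg.Agent.Lib.Helper19.BG117.pRankLE_two_of_not_sigma hG hNstar htp h)
  apply hα.2
  intro B hB hBe
  -- the image of `B` in `G`
  set B' : Subgroup G := B.map Nstar.subtype with hB'
  have hB'N : B' ≤ Nstar := map_subtype_le B
  have hB'p : IsPGroup t B' := by
    rw [IsPGroup]
    rintro ⟨_, b, hb, rfl⟩
    refine ⟨1, ?_⟩
    apply Subtype.ext
    have := hBe b hb
    simp only [pow_one]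
    have h3 := congrArg Subtype.val this
    simpa using h3
  have hB'W : B' ≤ sigmaCore Nstar :=
    Cfsg.Agent.Lib.Helper47.BG11.le_sigmaCore_of_sigma
      (Cfsg.Agent.Lib.Helper47.BG11.sigmaHallIn_of_coatom hG hNstar) htσN hB'N hB'p
  have hB'Q : B' ≤ Q :=
    Cfsg.Agent.Lib.Helper68.BG1215.le_of_isPGroup_of_not_dvd hQW hWQ hB'W hB'p hQi
  have hB'M : B' ≤ M := hB'Q.trans hQM
  -- move to `M`
  have hcard : Nat.card B' = Nat.card B :=
    Subgroup.card_map_of_injective Nstar.subtype_injective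
  have h3 := h2 (B'.subgroupOf M) ?_ ?_
  · rw [Nat.card_congr (Subgroup.subgroupOfEquivOfLe hB'M).toEquiv, hcard] at h3
    exact h3
  · refine isMulCommutative_iff.2 ?_
    rintro ⟨⟨a, haM⟩, ha⟩ ⟨⟨b, hbM⟩, hb⟩
    rw [mem_subgroupOf] at ha hb
    obtain ⟨a', ha', rfl⟩ := ha
    obtain ⟨b', hb', rfl⟩ := hb
    apply Subtype.ext
    apply Subtype.ext
    have := (isMulCommutative_iff.1 hB) ⟨a', ha'⟩ ⟨b', hb'⟩
    have h4 := congrArg (fun z : B => ((z : Nstar) : G)) this
    simpa using h4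
  · rintro ⟨a, haM⟩ ha
    rw [mem_subgroupOf] at ha
    obtain ⟨a', ha', rfl⟩ := ha
    apply Subtype.ext
    have := hBe a' ha'
    have h4 := congrArg Subtype.val this
    simpa using h4

/-- if `k` has order dividing `t`, and `c = k a k⁻¹ a⁻¹` commutes with `k` and has order prime to
`t`, then `k` and `a` commute. -/
theorem f2f_comm_of_comm {k a : G} {t m : ℕ} (hk : k ^ t = 1) (hc : (k * a * k⁻¹ * a⁻¹) ^ m = 1)
    (hcop : t.Coprime m) (hck : k * (k * a * k⁻¹ * a⁻¹) = (k * a * k⁻¹ * a⁻¹) * k) :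
    k * a = a * k := by
  set c := k * a * k⁻¹ * a⁻¹ with hcdef
  -- `k^n a k^-n = c^n a`
  have h1 : ∀ n : ℕ, k ^ n * a * (k ^ n)⁻¹ = c ^ n * a := by
    intro n
    induction n with
    | zero => simp
    | succ n ih =>
      have hcomm : Commute k (c ^ n) := (show Commute k c from hck).pow_right n
      calc k ^ (n + 1) * a * (k ^ (n + 1))⁻¹ = k * (k ^ n * a * (k ^ n)⁻¹) * k⁻¹ := by
            rw [pow_succ']; group
        _ = k * (c ^ n * a) * k⁻¹ := by rw [ih]
        _ = (k * c ^ n) * a * k⁻¹ := by group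
        _ = (c ^ n * k) * a * k⁻¹ := by rw [hcomm.eq]
        _ = c ^ n * (k * a * k⁻¹ * a⁻¹) * a := by group
        _ = c ^ (n + 1) * a := by rw [← hcdef, pow_succ]
  have h2 := h1 t
  rw [hk] at h2
  have h3 : c ^ t = 1 := by
    have : (1 : G) * a * (1 : G)⁻¹ = c ^ t * a := h2
    have h4 : a = c ^ t * a := by simpa using this
    have h5 : c ^ t * a = 1 * a := by rw [one_mul]; exact h4.symm
    exact mul_right_cancel h5
  have h4 : c = 1 := by
    have hd1 : orderOf c ∣ t := orderOf_dvd_of_pow_eq_one h3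
    have hd2 : orderOf c ∣ m := orderOf_dvd_of_pow_eq_one hc
    have : orderOf c ∣ 1 := by
      have := Nat.dvd_gcd hd1 hd2
      rwa [hcop] at this
    exact orderOf_eq_one_iff.mp (Nat.dvd_one.mp this)
  have h5 : k * a * k⁻¹ * a⁻¹ = 1 := h4
  calc k * a = (k * a * k⁻¹ * a⁻¹) * a * k := by group
    _ = a * k := by rw [h5, one_mul]

end Cfsg.Agent.Lib.Helper32.BG159
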