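import Mathlib
import Cfsg.Prelude
import Cfsg.Agent.Lib.Helper32.BG159F2fB
import Cfsg.Agent.Lib.Helper21.RelCompl
import Cfsg.Agent.Lib.Helper24.BG152A
import Cfsg.Agent.Lib.Helper23.TransCore
import Cfsg.Agent.Lib.Helper56.FrobApply
import Cfsg.Agent.S1437
import Cfsg.Agent.S1355
import Cfsg.Agent.S1430

/-!
# BG159 [F2f]: the core (S1437 + Frobenius fixed point formula)
-/

set_option autoImplicit false
set_option linter.style.haveILetI false
set_option maxHeartbeats 800000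
open Subgroup Cfsg Cfsg.Agent.Lib.Helper33 Cfsg.Agent.Lib.Helper24

namespace Cfsg.Agent.Lib.Helper32.BG159

variable {G : Type*} [Group G] [Finite G]

/-- **Core of [F2f]**.  `N* = K* ⋉ W*` (`W* = N*_σ` not nilpotent), `K = C_{W*}(K*)` of prime order
`t`, `S ≤ W*` a Sylow `s`-subgroup of `G` (`s ≠ t`), `A = Ω₁(S)`, `K` centralizes `A`, and the normal
Sylow `t`-subgroup of `W*` does not centralize `A`.  Contradiction. -/
theorem f2f_core (hG : IsMinSimpleOddOrder G) {Nstar Ks : Subgroup G} (hNstar : IsCoatom Nstar)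
    (hdec : IsSigmaDecomposition Nstar Ks ⊥) (hne : fittingHallOf Nstar ≠ sigmaCore Nstar)
    {s : ℕ} [Fact s.Prime]
    (hst : s ≠ Nat.card ↥(sigmaCore Nstar ⊓ centralizer (Ks : Set G))) (S : Sylow s G)
    (hSW : (S : Subgroup G) ≤ sigmaCore Nstar)
    {A : Subgroup G} (hAS : A ≤ S) (hAe : ∀ a ∈ A, a ^ s = 1)
    (hAΩ : ∀ x ∈ (S : Subgroup G), x ^ s = 1 → x ∈ A)
    (hKA : sigmaCore Nstar ⊓ centralizer (Ks : Set G) ≤ centralizer (A : Set G))
    (hQA : ∀ Q : Subgroup G, Q ≤ sigmaCore Nstar → Nstar ≤ normalizer (Q : Set G) →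
      IsPGroup (Nat.card ↥(sigmaCore Nstar ⊓ centralizer (Ks : Set G))) Q →
      ¬ Nat.card ↥(sigmaCore Nstar ⊓ centralizer (Ks : Set G)) ∣ Q.relIndex (sigmaCore Nstar) →
      ¬ Q ≤ centralizer (A : Set G)) : False := by
  obtain ⟨-, -, hpK, hqK, -, hqβ, Q, hQF, hNQ, hQp, hQi, hD⟩ :=
    Cfsg.Agent.S1437.result hG Nstar hNstar Ks ⊥ hdec hne
  have h30 := (Cfsg.Agent.S1430.result hG Nstar hNstar Ks hdec.hall (by
    intro h; rw [h, Subgroup.card_bot] at hpK; exact Nat.not_prime_one hpK)).1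
  have h55 := (Cfsg.Agent.S1355.result hG Nstar hNstar).2.1
  set Ws := sigmaCore Nstar with hWs
  set K := Ws ⊓ centralizer (Ks : Set G) with hK
  set t := Nat.card K with ht
  haveI : Fact t.Prime := ⟨hqK⟩
  have htp : t.Prime := hqK
  have hsp : s.Prime := Fact.out
  have hWsN : Ws ≤ Nstar := Cfsg.Agent.Lib.Helper47.BG11.sigmaCore_le Nstar
  have hNWs : Nstar ≤ normalizer (Ws : Set G) :=
    Cfsg.Agent.Lib.Helper24.BG.le_normalizer_sigmaCore Nstar
  have hQW : Q ≤ Ws := hQF.trans h55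
  have hWQ : Ws ≤ normalizer (Q : Set G) := hWsN.trans hNQ
  have hQsolv : Group.IsSolvable Q := by
    haveI := hQp.isNilpotent
    infer_instance
  have hKs1 : Ks ≠ ⊥ := by
    intro h; rw [h, Subgroup.card_bot] at hpK; exact Nat.not_prime_one hpK
  have hKsN : Ks ≤ Nstar := hdec.hall.1
  -- card facts
  obtain ⟨kQ, hkQ⟩ := IsPGroup.iff_card.mp hQp
  have hcopQ : (Nat.card Q).Coprime (Q.relIndex Ws) := by
    rw [hkQ]; exact Nat.Coprime.pow_left _ ((Nat.Prime.coprime_iff_not_dvd htp).mpr hQi)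
  have hcopS : (Nat.card (S : Subgroup G)).Coprime (Nat.card Q) := by
    obtain ⟨kS, hkS⟩ := IsPGroup.iff_card.mp S.isPGroup'
    rw [hkS, hkQ]
    exact Nat.Coprime.pow _ _ ((Nat.coprime_primes hsp htp).mpr hst)
  -- `t ≠ |K*|`
  have htσ : t ∈ sigma Nstar := by
    by_contra h
    exact hqβ.1.2 (Cfsg.Agent.Lib.Helper19.BG117.pRankLE_two_of_not_sigma hG hNstar htp h)
  have hpt : Nat.card Ks ≠ t := by
    intro h
    have h1 : Nat.card Ks ∈ kappa Nstar := hdec.hall.2.1 _ hpK dvd_rfl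
    exact h1.2.2.1 (h ▸ htσ)
  have hcopKsQ : (Nat.card Ks).Coprime (Nat.card Q) := by
    rw [hkQ]; exact Nat.Coprime.pow_right _ ((Nat.coprime_primes hpK htp).mpr hpt)
  -- the complement `D1 ≥ S`
  obtain ⟨D1, hD1, hSD1⟩ := Cfsg.Agent.Lib.Helper21.exists_compl_ge_of_coprime hQW hWQ hcopQ
    (Or.inl hQsolv) hSW hcopS
  have hD1' : IsComplIn Q D1 Ws := f2f_flip hD1 hWQ
  obtain ⟨hD1nil, hN1, hlt1, hcard1, hpow1, hmin1⟩ := hD D1 hD1'
  have hAD1 : A ≤ D1 := hAS.trans hSD1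
  have hQ02 : Q ⊓ centralizer (D1 : Set G) ≤ Q ⊓ centralizer (A : Set G) :=
    inf_le_inf_left Q (centralizer_le hAD1)
  have hcardD1 : Nat.card D1 = Q.relIndex Ws := Cfsg.Agent.Lib.Helper24.BG152.a_card_compl hD1'
  have hcopD1 : (Nat.card D1).Coprime (Nat.card Q) := by rw [hcardD1]; exact hcopQ.symm
  -- `A` is invariant under `N(D1)`
  have hA_inv : ∀ m ∈ normalizer (D1 : Set G), cj m A = A := by
    intro m hm
    have hS := f2f_cj_sylow_of_nilpotent hD1nil S hSD1 hm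
    have h1 : cj m A ≤ A := by
      intro y hy
      obtain ⟨a, ha, rfl⟩ := mem_cj'.mp hy
      apply hAΩ
      · rw [← hS]; exact conj_mem_cj (hAS ha)
      · rw [conj_pow, hAe a ha]; group
    exact Subgroup.eq_of_le_of_card_ge h1 (le_of_eq (card_cj m A).symm)
  -- `Q ⊓ C(A)` is normal in `N*`
  have hNQ2 : Nstar ≤ normalizer ((Q ⊓ centralizer (A : Set G) : Subgroup G) : Set G) := by
    intro n hn
    obtain ⟨q, hq, hqn⟩ := f2f_frattini hD1 hWQ hNWs hcopD1 (Or.inl hQsolv) n hn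
    have h1 : q⁻¹ * n ∈ normalizer ((Q ⊓ centralizer (A : Set G) : Subgroup G) : Set G) := by
      have hmN : q⁻¹ * n ∈ Nstar := Nstar.mul_mem (Nstar.inv_mem (hWsN (hQW hq))) hn
      have e1 : cj (q⁻¹ * n) Q = Q := cj_eq_self_iff.mpr (hNQ hmN)
      have e2 : cj (q⁻¹ * n) A = A := hA_inv _ hqn
      rw [← cj_eq_self_iff, cj_inf, ← centralizer_cj, e1, e2]
    have h2 : q ∈ normalizer ((Q ⊓ centralizer (A : Set G) : Subgroup G) : Set G) := by
      rw [← cj_eq_self_iff]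
      have h3 : cj q (Q ⊓ centralizer (A : Set G)) ≤ Q ⊓ centralizer (A : Set G) := by
        intro y hy
        obtain ⟨z, hz, rfl⟩ := mem_cj'.mp hy
        have hzQ : z ∈ Q := hz.1
        have h4 := (hpow1 q hq z hzQ).2
        have h5 : q * z * q⁻¹ = (q * z * q⁻¹ * z⁻¹) * z := by group
        rw [h5]
        exact (Q ⊓ centralizer (A : Set G)).mul_mem (hQ02 h4) hz
      exact Subgroup.eq_of_le_of_card_ge h3 (le_of_eq (card_cj q _).symm)
    have h3 : n = q * (q⁻¹ * n) := by group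
    rw [h3]
    exact (normalizer ((Q ⊓ centralizer (A : Set G) : Subgroup G) : Set G)).mul_mem h2 h1
  -- `K ≤ Q`
  have hKp : IsPGroup t K := IsPGroup.of_card (n := 1) (by rw [pow_one])
  have hK_Q : K ≤ Q :=
    Cfsg.Agent.Lib.Helper68.BG1215.le_of_isPGroup_of_not_dvd hQW hWQ inf_le_left hKp hQi
  have hK_Q2 : K ≤ Q ⊓ centralizer (A : Set G) := le_inf hK_Q hKA
  -- `Q ⊓ C(A) = Q₀`
  have hQ2_eq : Q ⊓ centralizer (A : Set G) = Q ⊓ centralizer (D1 : Set G) := by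
    by_contra hne2
    have hlt : Q ⊓ centralizer (D1 : Set G) < Q ⊓ centralizer (A : Set G) :=
      lt_of_le_of_ne hQ02 (Ne.symm hne2)
    by_cases hQ2Q : Q ⊓ centralizer (A : Set G) = Q
    · exact hQA Q hQW hNQ hQp hQi (by rw [← hQ2Q]; exact inf_le_right)
    · exact hmin1 _ hlt (lt_of_le_of_ne inf_le_left hQ2Q) hNQ2
  have hK_Q0 : K ≤ Q ⊓ centralizer (D1 : Set G) := hQ2_eq ▸ hK_Q2
  -- the `K*`-invariant complement `D0`
  obtain ⟨D0, hD0W, hD0card, hKsD0, -⟩ := inv_complement_containing Ks Q Ws ⊥ hQW hWQ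
    (hKsN.trans hNQ) (hKsN.trans hNWs)
    (fun x _ => by rw [mem_normalizer_iff]; intro h; simp [mem_bot])
    bot_le hcopKsQ hQsolv hcopQ (by simp)
  have hD0le : D0 ≤ D1 ⊔ Q := hD0W.trans (f2f_le_sup hD1)
  obtain ⟨w, hw, hwD⟩ := rel_sz_conj Q D1 D0 (hD1.1.trans hWQ) hcopD1 (Or.inl hQsolv) hD0le
    (by rw [hD0card, hcardD1])
  have hwN : w ∈ Nstar := hWsN (hQW hw)
  have hQ0D0 : Q ⊓ centralizer (D0 : Set G) = Q ⊓ centralizer (D1 : Set G) := by
    have e1 : cj w Q = Q := cj_eq_self_iff.mpr (hNQ hwN)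
    have e2 : cj w (Q ⊓ centralizer (D1 : Set G)) = Q ⊓ centralizer (D1 : Set G) :=
      cj_eq_self_iff.mpr (hN1 hwN)
    calc Q ⊓ centralizer (D0 : Set G)
        = cj w Q ⊓ cj w (centralizer (D1 : Set G)) := by rw [e1, ← hwD, centralizer_cj]
      _ = cj w (Q ⊓ centralizer (D1 : Set G)) := (cj_inf w Q _).symm
      _ = Q ⊓ centralizer (D1 : Set G) := e2
  have hK_D0 : K ≤ centralizer (D0 : Set G) := by
    have h1 : K ≤ Q ⊓ centralizer (D0 : Set G) := hQ0D0 ▸ hK_Q0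
    exact h1.trans inf_le_right
  have hQD0 : Q ⊓ D0 = ⊥ := by
    apply Subgroup.inf_eq_bot_of_coprime
    rw [hD0card]; exact hcopQ
  -- `K*` acts fixed-point-freely on `D0`
  have hfpf : ∀ e ∈ Ks, e ≠ 1 → ∀ u ∈ D0, e * u = u * e → u = 1 := by
    intro e he he1 u hu hcomm
    have h1 : u ∈ Ws ⊓ centralizer ({e} : Set G) := by
      refine Subgroup.mem_inf.mpr ⟨hD0W hu, ?_⟩
      rw [mem_centralizer_iff]
      intro y hy
      rw [Set.mem_singleton_iff] at hy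
      subst hy
      exact hcomm
    rw [h30 e he he1] at h1
    have h2 : u ∈ Q ⊓ D0 := Subgroup.mem_inf.mpr ⟨hK_Q h1, hu⟩
    rw [hQD0, mem_bot] at h2
    exact h2
  have hUn : ∀ e ∈ Ks, ∀ u ∈ D0, e * u * e⁻¹ ∈ D0 :=
    fun e he u hu => (mem_normalizer_iff.mp (hKsD0 he) u).mp hu
  have hD0Ks_N : D0 ⊔ Ks ≤ Nstar := sup_le (hD0W.trans hWsN) hKsN
  have hHn : ∀ x ∈ D0 ⊔ Ks, ∀ h ∈ Q, x * h * x⁻¹ ∈ Q :=
    fun x hx h hh => (mem_normalizer_iff.mp (hNQ (hD0Ks_N hx)) h).mp hh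
  have hcop3 : (Nat.card Q).Coprime (Nat.card ↥(D0 ⊔ Ks)) := by
    have hdvd : Nat.card ↥(D0 ⊔ Ks) ∣ Nat.card Ks * Nat.card D0 := by
      rw [sup_comm]
      exact Cfsg.Agent.Lib.Helper23.card_sup_dvd_of_le_normalizer Ks D0 hKsD0
    refine Nat.Coprime.coprime_dvd_right hdvd ?_
    refine Nat.Coprime.mul_right hcopKsQ.symm ?_
    rw [hD0card]; exact hcopQ
  have hform := Cfsg.Agent.Lib.Helper56.FrobApply.frobenius_formula D0 Ks Q hKs1 hUn hfpf hHn
    hQsolv hcop3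
  have hQK : Q ⊓ centralizer (Ks : Set G) = K :=
    le_antisymm (inf_le_inf_right _ hQW) (le_inf hK_Q inf_le_right)
  rw [hQK, hQ0D0, hcard1] at hform
  have hc1 : Nat.card ↥(Q ⊓ centralizer ((D0 ⊔ Ks : Subgroup G) : Set G)) ^ Nat.card Ks = 1 := by
    have hpos : 0 < Nat.card ↥(Q ⊓ centralizer (D1 : Set G)) * t ^ Nat.card Ks :=
      Nat.mul_pos Nat.card_pos (Nat.pow_pos htp.pos)
    apply Nat.eq_of_mul_eq_mul_right hpos
    rw [one_mul, hform]; ring
  have hc : Nat.card ↥(Q ⊓ centralizer ((D0 ⊔ Ks : Subgroup G) : Set G)) = 1 :=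
    (Nat.pow_eq_one.mp hc1).resolve_right hpK.ne_zero
  have hbot : Q ⊓ centralizer ((D0 ⊔ Ks : Subgroup G) : Set G) = ⊥ := Subgroup.card_eq_one.mp hc
  have hKle : K ≤ Q ⊓ centralizer ((D0 ⊔ Ks : Subgroup G) : Set G) := by
    refine le_inf hK_Q ?_
    rw [Subgroup.le_centralizer_iff]
    exact sup_le (Subgroup.le_centralizer_iff.mp hK_D0)
      (Subgroup.le_centralizer_iff.mp inf_le_right)
  rw [hbot, le_bot_iff] at hKle
  have h1 : t = 1 := by rw [ht, hKle, Subgroup.card_bot]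
  exact htp.one_lt.ne' h1

end Cfsg.Agent.Lib.Helper32.BG159
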