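import Mathlib
import Cfsg.Prelude
import Cfsg.Agent.Lib.Helper32.BG159Defs
import Cfsg.Agent.Lib.Helper32.BG159F2fC
import Cfsg.Agent.Lib.Helper76.BG159B
import Cfsg.Agent.Lib.Helper24.BG152C
import Cfsg.Agent.Lib.Helper23.LargeFitA
import Cfsg.Agent.Lib.Helper96.KW.Parts
import Cfsg.Agent.S1418

/-!
# BG159 [F2f]: `N*_σ` not nilpotent is impossible (given the leaves [F2p] and [F2d])
-/

set_option autoImplicit false
set_option linter.style.haveILetI false
set_option maxHeartbeats 800000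
open Subgroup Cfsg Cfsg.Agent.Lib.Helper33 Cfsg.Agent.Lib.Helper24

namespace Cfsg.Agent.Lib.Helper32.BG159

variable {G : Type*} [Group G] [Finite G]

/-- [F2f] with the leaves [F2p] (`N*` is of type `P1`) and [F2d] (the Sylow subgroup `S`) as
hypotheses. -/
theorem nonnil_false_of (hG : IsMinSimpleOddOrder G) {N K U Nstar M : Subgroup G} {x : G}
    (c : CtxF N K U Nstar M x) {s : ℕ} [Fact s.Prime] (hs : s ∈ tau2 M) {A : Subgroup G}
    (hA : A ≤ M ⊓ Nstar ∧ IsElementaryAbelian s A ∧ Nat.card A = s ^ 2)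
    (hnn : ¬ Group.IsNilpotent (sigmaCore Nstar))
    (hF2p : ∀ K' U' : Subgroup G, IsSigmaDecomposition Nstar K' U' → U' = ⊥)
    (hF2d : ∃ S : Sylow s G, A ≤ (S : Subgroup G) ∧ (S : Subgroup G) ≤ M ⊓ Nstar ∧
      (S : Subgroup G) ≤ sigmaCore Nstar ∧ IsMulCommutative (S : Subgroup G)) : False := by
  have hsp : s.Prime := Fact.out
  have c76 : Cfsg.Agent.Lib.Helper76.BG159.Ctx N K U Nstar :=
    ⟨c.hN, c.hKU, c.hK1, c.hU1, c.hNstar, c.hKst, c.hKstH⟩
  obtain ⟨Us, hdec⟩ := c76.exists_Us hG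
  have hUs : Us = ⊥ := hF2p _ _ hdec
  subst hUs
  have hne : fittingHallOf Nstar ≠ sigmaCore Nstar := by
    intro h
    apply hnn
    rw [← h]
    exact Cfsg.Agent.Lib.Helper24.BG152.c_fittingHallOf_isNilpotent Nstar
  have hKeq : sigmaCore Nstar ⊓
      centralizer ((sigmaCore N ⊓ centralizer (K : Set G) : Subgroup G) : Set G) = K := c.hKst.symm
  have htp : (Nat.card K).Prime := c.facts.cardK
  haveI : Fact (Nat.card K).Prime := ⟨htp⟩
  -- S1437 again, for `Q`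
  obtain ⟨-, -, -, -, -, hqβ, Q, hQF, hNQ, hQp, hQi, -⟩ :=
    Cfsg.Agent.S1437.result hG Nstar c.hNstar _ ⊥ hdec hne
  rw [hKeq] at hqβ hQp hQi
  have h55 := (Cfsg.Agent.S1355.result hG Nstar c.hNstar).2.1
  have hWsN : sigmaCore Nstar ≤ Nstar := Cfsg.Agent.Lib.Helper47.BG11.sigmaCore_le Nstar
  have hQW : Q ≤ sigmaCore Nstar := hQF.trans h55
  -- S1418 for `(M, E, s, A)`
  obtain ⟨⟨hEA, hAall⟩, ⟨hCA, -, -⟩, -⟩ :=
    Cfsg.Agent.S1418.result hG M c.hM (M ⊓ Nstar) c.hE s hs A hA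
  have hCAM : centralizer (A : Set G) ≤ M := hCA.trans inf_le_left
  -- the rank lemma
  have hrank : ∀ Q' : Subgroup G, Q' ≤ sigmaCore Nstar → Nstar ≤ normalizer (Q' : Set G) →
      IsPGroup (Nat.card K) Q' → ¬ Nat.card K ∣ Q'.relIndex (sigmaCore Nstar) → ¬ Q' ≤ M :=
    fun Q' h1 h2 h3 h4 => f2f_rank hG c.hM c.hNstar hqβ c.facts.cardK_notin h1 (hWsN.trans h2) h3 h4
  obtain ⟨S, hAS, hSE, hSW, -⟩ := hF2d
  by_cases hst : s = Nat.card K
  · -- `S = Q ≤ M`
    have hSp : IsPGroup (Nat.card K) (S : Subgroup G) := hst ▸ S.isPGroup'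
    have hSQ : (S : Subgroup G) ≤ Q :=
      Cfsg.Agent.Lib.Helper68.BG1215.le_of_isPGroup_of_not_dvd hQW (hWsN.trans hNQ) hSW hSp hQi
    have hQS : Q = (S : Subgroup G) := S.is_maximal' (hst ▸ hQp) hSQ
    exact hrank Q hQW hNQ hQp hQi (hQS ▸ hSE.trans inf_le_left)
  · -- the core
    have hKE : K ≤ M ⊓ Nstar := le_inf c.facts.K_le (c.facts.K_le_Ms.trans hWsN)
    have hFnil := Cfsg.Agent.Lib.Helper23.isNilpotent_fittingOf (M ⊓ Nstar)
    have hFnorm := Cfsg.Agent.Lib.Helper23.le_normalizer_fittingOf (M ⊓ Nstar)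
    have hAe : ∀ a ∈ A, a ^ s = 1 := hA.2.1.2
    have hKA : K ≤ centralizer (A : Set G) := by
      intro k hk
      rw [mem_centralizer_iff]
      intro a ha
      symm
      have hkt : k ^ Nat.card K = 1 := by
        have := pow_card_eq_one' (G := K) (x := ⟨k, hk⟩)
        exact congrArg Subtype.val this
      have hkF : k ∈ fittingOf (M ⊓ Nstar) := c.hKF hk
      have haE : a ∈ M ⊓ Nstar := hA.1 ha
      -- `c = k a k⁻¹ a⁻¹`
      have hcA : k * a * k⁻¹ * a⁻¹ ∈ A :=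
        A.mul_mem ((mem_normalizer_iff.mp (hEA (hKE hk)) a).mp ha) (A.inv_mem ha)
      have hcF : k * a * k⁻¹ * a⁻¹ ∈ fittingOf (M ⊓ Nstar) := by
        have h1 : a * k⁻¹ * a⁻¹ ∈ fittingOf (M ⊓ Nstar) :=
          (mem_normalizer_iff.mp (hFnorm haE) k⁻¹).mp ((fittingOf (M ⊓ Nstar)).inv_mem hkF)
        have h2 : k * a * k⁻¹ * a⁻¹ = k * (a * k⁻¹ * a⁻¹) := by group
        rw [h2]
        exact (fittingOf (M ⊓ Nstar)).mul_mem hkF h1
      have hcs : (k * a * k⁻¹ * a⁻¹) ^ s = 1 := hAe _ hcA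
      have hcop : (Nat.card K).Coprime s := (Nat.coprime_primes htp hsp).mpr (Ne.symm hst)
      have hcomm : k * (k * a * k⁻¹ * a⁻¹) = (k * a * k⁻¹ * a⁻¹) * k := by
        apply Cfsg.Agent.Lib.Helper96.KW.commute_of_mem_of_coprime hFnil hkF hcF
        exact Nat.Coprime.coprime_dvd_left (orderOf_dvd_of_pow_eq_one hkt)
          (Nat.Coprime.coprime_dvd_right (orderOf_dvd_of_pow_eq_one hcs) hcop)
      exact f2f_comm_of_comm hkt hcs hcop hcomm
    have hAΩ : ∀ y ∈ (S : Subgroup G), y ^ s = 1 → y ∈ A := by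
      intro y hy hys
      by_cases hy1 : y = 1
      · rw [hy1]; exact A.one_mem
      · have hord : orderOf y = s := orderOf_eq_prime hys hy1
        have hcard : Nat.card (zpowers y) = s := by rw [Nat.card_zpowers, hord]
        have hle : zpowers y ≤ M ⊓ Nstar := (zpowers_le.mpr hy).trans hSE
        exact hAall (zpowers y) hle hcard (mem_zpowers y)
    apply f2f_core hG c.hNstar hdec hne (s := s) (by rw [hKeq]; exact hst) S hSW hAS hAe hAΩ
      (by rw [hKeq]; exact hKA)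
    rw [hKeq]
    intro Q' h1 h2 h3 h4 hle
    exact hrank Q' h1 h2 h3 h4 (hle.trans hCAM)

end Cfsg.Agent.Lib.Helper32.BG159
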