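import Mathlib
import Cfsg.Prelude.Def_OddOrderLocal
import Cfsg.Prelude.Def_Solvable
import Cfsg.Agent.S1449

set_option autoImplicit false
set_option linter.style.haveILetI false

/-!
# B&G 15.9(a), abstract end game

* `f4_isCyclic`: a solvable odd-order `p'`-group `E` normalizing a nontrivial `p`-group `P0` of rank
  at most two, acting without fixed points on it, with all Sylow subgroups cyclic, is cyclic.
* `f5_isFrobeniusComplement`: `M = W ⋊ E`, `E` acting fixed-point-freely on `W`: then `E` is a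
  Frobenius complement in `M` (in the sense of `Cfsg.IsFrobeniusComplement`).
-/

namespace Cfsg.Agent.Lib.Helper32.BG159

open Subgroup Cfsg
open scoped commutatorElement Pointwise

/-- a finite commutative group all of whose Sylow subgroups are cyclic is cyclic -/
theorem f4_isCyclic_of_comm_of_sylow {X : Type*} [Group X] [Finite X]
    (hc : ∀ a b : X, a * b = b * a)
    (h : ∀ (p : ℕ) [Fact p.Prime] (P : Sylow p X), IsCyclic P) : IsCyclic X := by
  letI : CommGroup X := { (inferInstance : Group X) with mul_comm := hc }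
  apply IsCyclic.of_exponent_eq_card
  apply Nat.dvd_antisymm Group.exponent_dvd_nat_card
  have hexp0 : Monoid.exponent X ≠ 0 := Monoid.exponent_ne_zero_of_finite
  rw [← Nat.factorization_prime_le_iff_dvd Nat.card_pos.ne' hexp0]
  intro p hp
  haveI : Fact p.Prime := ⟨hp⟩
  obtain ⟨P⟩ : Nonempty (Sylow p X) := inferInstance
  rw [← hp.pow_dvd_iff_le_factorization hexp0, ← P.card_eq_multiplicity]
  haveI := h p P
  obtain ⟨g, hg⟩ := IsCyclic.exists_ofOrder_eq_natCard (α := P)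
  rw [← hg, ← Subgroup.orderOf_coe]
  exact Monoid.order_dvd_exponent _

variable {G : Type*} [Group G]

/-- **(F4)** -/
theorem f4_isCyclic [Finite G] (p : ℕ) [Fact p.Prime] (hp2 : p ≠ 2)
    (E P0 : Subgroup G) (hP0 : P0 ≠ ⊥) (hP : IsPGroup p P0) (hr : Cfsg.PRankLE p 2 P0)
    (hN : E ≤ normalizer (P0 : Set G)) (hEs : Group.IsSolvable E) (hEodd : Odd (Nat.card E))
    (hcop : (Nat.card E).Coprime p)
    (hfpf : ∀ e ∈ E, e ≠ 1 → ∀ w ∈ P0, e * w = w * e → w = 1)
    (hsyl : ∀ (r : ℕ) [Fact r.Prime] (R : Sylow r E), IsCyclic R) : IsCyclic E := by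
  have hfaith : E ⊓ centralizer (P0 : Set G) = ⊥ := by
    rw [eq_bot_iff]
    rintro e ⟨heE, heC⟩
    rw [Subgroup.mem_bot]
    by_contra hne
    obtain ⟨w, hw1⟩ := (Subgroup.ne_bot_iff_exists_ne_one).1 hP0
    have hwP : (w : G) ∈ P0 := w.2
    have hcomm : (w : G) * e = e * (w : G) := (Subgroup.mem_centralizer_iff.1 heC) w hwP
    have := hfpf e heE hne w hwP hcomm.symm
    exact hw1 (Subtype.ext this)
  have hpg : IsPGroup p ↥⁅E, E⁆ := Cfsg.Agent.S1449.result p hp2 P0 E hP hr hN hEs hEodd hfaith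
  have hle : ⁅E, E⁆ ≤ E :=
    Subgroup.commutator_le.2 (fun a ha b hb =>
      E.mul_mem (E.mul_mem (E.mul_mem ha hb) (E.inv_mem ha)) (E.inv_mem hb))
  have hbot : ⁅E, E⁆ = ⊥ := by
    have h1 : Nat.card ↥⁅E, E⁆ ∣ Nat.card E := Subgroup.card_dvd_of_le hle
    obtain ⟨k, hk⟩ := IsPGroup.iff_card.1 hpg
    have h2 : (Nat.card ↥⁅E, E⁆).Coprime (Nat.card ↥⁅E, E⁆) := by
      have h3 : (Nat.card E).Coprime (p ^ k) := hcop.pow_right k
      rw [← hk] at h3
      exact Nat.Coprime.coprime_dvd_left h1 h3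
    have h4 : Nat.card ↥⁅E, E⁆ = 1 := (Nat.coprime_self _).1 h2
    exact Subgroup.card_eq_one.1 h4
  have hcomm : ∀ a b : ↥E, a * b = b * a := by
    intro a b
    have h1 : ⁅(a : G), (b : G)⁆ ∈ ⁅E, E⁆ := Subgroup.commutator_mem_commutator a.2 b.2
    rw [hbot, Subgroup.mem_bot, commutatorElement_eq_one_iff_mul_comm] at h1
    exact Subtype.ext h1
  exact f4_isCyclic_of_comm_of_sylow hcomm hsyl

/-- **(F5)** `M = W E` with `W` normal in `M`, `E ∩ W = 1`, and `E` acting without fixed points on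
`W`: then `E` is a Frobenius complement in `M`. -/
theorem f5_isFrobeniusComplement (M W E : Subgroup G) (hc : Cfsg.IsComplIn E W M)
    (hWn : M ≤ normalizer (W : Set G)) (hE1 : E ≠ ⊥) (hW1 : W ≠ ⊥)
    (hfpf : ∀ e ∈ E, e ≠ 1 → ∀ w ∈ W, e * w = w * e → w = 1) :
    Cfsg.IsFrobeniusComplement (E.subgroupOf M) := by
  obtain ⟨hEM, hWM, hEW, hprod⟩ := hc
  refine ⟨?_, ?_, ?_⟩
  · intro h
    rw [Subgroup.subgroupOf_eq_bot] at h
    rw [disjoint_iff, inf_eq_left.2 hEM] at h
    exact hE1 h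
  · intro h
    rw [Subgroup.subgroupOf_eq_top] at h
    have : W ≤ E ⊓ W := le_inf (hWM.trans h) le_rfl
    rw [hEW, le_bot_iff] at this
    exact hW1 this
  · intro g hg
    rw [eq_bot_iff]
    rintro y ⟨hy1, hy2⟩
    rw [Subgroup.mem_bot]
    have hyE : (y : G) ∈ E := Subgroup.mem_subgroupOf.1 hy1
    have hy2' : y ∈ MulAut.conj g • E.subgroupOf M := hy2
    rw [Subgroup.mem_pointwise_smul_iff_inv_smul_mem, MulAut.smul_def,
      MulAut.conj_inv_apply, Subgroup.mem_subgroupOf] at hy2'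
    -- hy2 : g⁻¹ * y * g ∈ E
    have hgE : (g : G) ∉ E := fun h => hg (Subgroup.mem_subgroupOf.2 h)
    obtain ⟨a, ha, b, hb, hgab⟩ := hprod g g.2
    have hb1 : b ≠ 1 := by
      rintro rfl
      rw [mul_one] at hgab
      exact hgE (hgab ▸ ha)
    have haM : a ∈ M := hEM ha
    -- e := g⁻¹ y g ∈ E
    set e : G := (g : G)⁻¹ * y * g with he
    have heE : e ∈ E := by simpa [he] using hy2'
    -- y = g e g⁻¹ = a b e b⁻¹ a⁻¹
    set e' : G := a * e * a⁻¹ with he'
    set b' : G := a * b * a⁻¹ with hb'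
    have he'E : e' ∈ E := E.mul_mem (E.mul_mem ha heE) (E.inv_mem ha)
    have hb'W : b' ∈ W := by
      have := (Subgroup.mem_normalizer_iff.1 (hWn haM) b).1 hb
      exact this
    have hyeq : (y : G) = b' * e' * b'⁻¹ := by
      rw [he', hb', he, hgab]; group
    have hb'1 : b' ≠ 1 := by
      intro h
      apply hb1
      have : b = a⁻¹ * b' * a := by rw [hb']; group
      rw [this, h]; group
    -- y * e'⁻¹ ∈ E ⊓ W
    have h1 : (y : G) * e'⁻¹ ∈ E := E.mul_mem hyE (E.inv_mem he'E)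
    have h2 : (y : G) * e'⁻¹ ∈ W := by
      have h3 : (y : G) * e'⁻¹ = b' * (e' * b'⁻¹ * e'⁻¹) := by rw [hyeq]; group
      rw [h3]
      refine W.mul_mem hb'W ?_
      exact (Subgroup.mem_normalizer_iff.1 (hWn (hEM he'E)) b'⁻¹).1 (W.inv_mem hb'W)
    have h4 : (y : G) * e'⁻¹ ∈ E ⊓ W := ⟨h1, h2⟩
    rw [hEW, Subgroup.mem_bot] at h4
    have hye' : (y : G) = e' := by
      have := mul_inv_eq_one.1 h4
      exact this
    -- e' commutes with b'
    have hcomm : e' * b' = b' * e' := by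
      have h5 : b' * e' * b'⁻¹ = e' := by rw [← hyeq, hye']
      calc e' * b' = (b' * e' * b'⁻¹) * b' := by rw [h5]
        _ = b' * e' := by group
    by_contra hy0
    have hy0' : (y : G) ≠ 1 := fun h => hy0 (Subtype.ext h)
    have he'1 : e' ≠ 1 := hye' ▸ hy0'
    exact hb'1 (hfpf e' he'E he'1 b' hb'W hcomm)

/-- transport of cyclicity to `E.subgroupOf M` -/
theorem f5_isCyclic_subgroupOf (M E : Subgroup G) (hEM : E ≤ M) (h : IsCyclic E) :
    IsCyclic (E.subgroupOf M) := by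
  haveI := h
  exact isCyclic_of_surjective (Subgroup.subgroupOfEquivOfLe hEM).symm
    (Subgroup.subgroupOfEquivOfLe hEM).symm.surjective

end Cfsg.Agent.Lib.Helper32.BG159
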