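import Mathlib
import Cfsg.Prelude
import Cfsg.Agent.Lib.Helper32.BG159Defs
import Cfsg.Agent.Lib.Helper32.NarrowDef
import Cfsg.Agent.Lib.Helper76.BG159A
import Cfsg.Agent.Lib.Helper23.FitUniqueB
import Cfsg.Agent.Lib.Helper24.BG121
import Cfsg.Agent.Lib.Helper47.BG11a
import Cfsg.Agent.S1350
import Cfsg.Agent.S1358

/-!
# BG159 [F4p] (backup version by helper32): a nontrivial normal `p`-subgroup `P0 ≤ Z(M_σ)` of `M`
of rank `≤ 2`
-/

set_option autoImplicit false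
set_option linter.style.haveILetI false
open Subgroup Cfsg

namespace Cfsg.Agent.Lib.Helper32.BG159

variable {G : Type*} [Group G] [Finite G]

theorem exists_P0_h32 (hG : IsMinSimpleOddOrder G) {N K U Nstar M : Subgroup G} {x : G}
    (c : CtxF N K U Nstar M x) :
    ∃ (p : ℕ) (P0 : Subgroup G), p.Prime ∧ p ≠ 2 ∧ p ∈ sigma M ∧ P0 ≠ ⊥ ∧ P0 ≤ sigmaCore M ∧
      IsPGroup p P0 ∧ PRankLE p 2 P0 ∧ M ≤ normalizer (P0 : Set G) := by
  have hWM : sigmaCore M ≤ M := Cfsg.Agent.Lib.Helper47.BG11.sigmaCore_le M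
  have hMW := Cfsg.Agent.Lib.Helper24.BG.le_normalizer_sigmaCore M
  haveI hnil : Group.IsNilpotent ↥(sigmaCore M) := c.facts.nilH
  haveI : Nontrivial ↥(sigmaCore M) := (Subgroup.nontrivial_iff_ne_bot _).mpr c.facts.neH
  have hc1 : center ↥(sigmaCore M) ≠ ⊥ := Group.IsNilpotent.center_ne_bot _
  set Z : Subgroup G := (center ↥(sigmaCore M)).map (sigmaCore M).subtype with hZdef
  have hZ1 : Z ≠ ⊥ := by
    intro h
    apply hc1
    exact (Subgroup.map_eq_bot_iff_of_injective _ (subtype_injective _)).mp h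
  have hZW : Z ≤ sigmaCore M := map_subtype_le _
  have hZc : IsMulCommutative Z := Subgroup.map_isMulCommutative _ _
  -- elements of `Z` commute with elements of `W`
  have hZcomm : ∀ z ∈ Z, ∀ w ∈ sigmaCore M, w * z = z * w := by
    rintro _ ⟨z, hz, rfl⟩ w hw
    have := (mem_center_iff.mp hz) ⟨w, hw⟩
    exact congrArg Subtype.val this
  have hZmem : ∀ z ∈ sigmaCore M, (∀ w ∈ sigmaCore M, w * z = z * w) → z ∈ Z := by
    intro z hz h
    refine ⟨⟨z, hz⟩, ?_, rfl⟩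
    show (⟨z, hz⟩ : ↥(sigmaCore M)) ∈ center ↥(sigmaCore M)
    rw [mem_center_iff]
    intro w
    exact Subtype.ext (h w w.2)
  -- `M` normalizes `Z`
  have hconjW : ∀ m ∈ M, ∀ w ∈ sigmaCore M, m * w * m⁻¹ ∈ sigmaCore M :=
    fun m hm w hw => (mem_normalizer_iff.mp (hMW hm) w).mp hw
  have hMZ : M ≤ normalizer (Z : Set G) := by
    apply Cfsg.Agent.Lib.Helper76.BG152.h76_le_normalizer_of_conj_mem
    intro m hm z hz
    refine hZmem _ (hconjW m hm z (hZW hz)) ?_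
    intro w hw
    have hw' : m⁻¹ * w * m ∈ sigmaCore M := by
      have := hconjW m⁻¹ (M.inv_mem hm) w hw
      simpa using this
    have h1 := hZcomm z hz _ hw'
    calc w * (m * z * m⁻¹) = m * ((m⁻¹ * w * m) * z) * m⁻¹ := by group
      _ = m * (z * (m⁻¹ * w * m)) * m⁻¹ := by rw [h1]
      _ = m * z * m⁻¹ * w := by group
  -- `Z ≤ U`
  have hxW : x ∈ sigmaCore M := c.hUW c.hxU
  have hKE : K ≤ M ⊓ Nstar :=
    le_inf c.facts.K_le (c.facts.K_le_Ms.trans (Cfsg.Agent.Lib.Helper47.BG11.sigmaCore_le Nstar))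
  have hZU : Z ≤ U := by
    intro z hz
    have hzN : z ∈ N := by
      apply c.hCx
      rw [mem_centralizer_iff]
      intro y hy
      rw [Set.mem_singleton_iff] at hy
      subst hy
      exact hZcomm z hz _ hxW
    have hzM : z ∈ M := hWM (hZW hz)
    have hzUK : z ∈ K ⊔ U := by
      rw [sup_comm, ← c.hNM]
      exact ⟨hzN, hzM⟩
    obtain ⟨k, hk, u, hu, hzku⟩ :=
      Cfsg.Agent.Lib.Helper24.exists_mul_of_mem_sup_of_le_normalizer K U c.hKU.normal z hzUK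
    have hkW : k ∈ sigmaCore M := by
      have : k = z * u⁻¹ := by rw [hzku]; group
      rw [this]
      exact (sigmaCore M).mul_mem (hZW hz) ((sigmaCore M).inv_mem (c.hUW hu))
    have hk1 : k ∈ (M ⊓ Nstar) ⊓ sigmaCore M := ⟨hKE hk, hkW⟩
    rw [c.hE.2.2.1, mem_bot] at hk1
    rw [hzku, hk1, one_mul]
    exact hu
  -- the prime
  have hcard : Nat.card Z ≠ 1 := fun h => hZ1 (Subgroup.card_eq_one.mp h)
  obtain ⟨p, hp, hpZ⟩ := Nat.exists_prime_and_dvd hcard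
  haveI : Fact p.Prime := ⟨hp⟩
  have hpW : p ∣ Nat.card (sigmaCore M) := hpZ.trans (Subgroup.card_dvd_of_le hZW)
  have hH := (Cfsg.Agent.S1350.result hG M c.hM).1
  -- rank of `U`
  have hrU : PRankLE p 2 ↥U := by
    obtain ⟨P⟩ : Nonempty (Sylow p ↥U) := inferInstance
    exact Cfsg.Agent.Lib.Helper32.Narrow.pRankLE_of_sylow p P
      ((Cfsg.Agent.S1358.result hG N c.hN K U c.hKU) p hp P).2
  refine ⟨p, Cfsg.Agent.Lib.Helper76.BG159.tPart Z p, hp,
    Cfsg.Agent.Lib.Helper23.ne_two_of_dvd_card_subgroup hG hpZ, hH.2.1 p hp hpW,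
    Cfsg.Agent.Lib.Helper76.BG159.tPart_ne_bot hZc hp hpZ,
    (Cfsg.Agent.Lib.Helper76.BG159.tPart_le Z p).trans hZW,
    Cfsg.Agent.Lib.Helper76.BG159.isPGroup_tPart hZc p,
    Cfsg.Agent.Lib.Helper76.BGSigU.pRankLE_of_le
      ((Cfsg.Agent.Lib.Helper76.BG159.tPart_le Z p).trans hZU) hrU,
    Cfsg.Agent.Lib.Helper76.BG159.norm_tPart hZc hMZ p⟩

end Cfsg.Agent.Lib.Helper32.BG159
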