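import Mathlib
import Cfsg.Prelude
import Cfsg.Agent.Lib.Helper32.BG159Defs
import Cfsg.Agent.Lib.Helper32.BG159F4
import Cfsg.Agent.Lib.Helper19.BG159F2
import Cfsg.Agent.Lib.Helper21.BG159F3
import Cfsg.Agent.Lib.Helper21.BG159F3s
import Cfsg.Agent.Lib.Helper23.FitUniqueB
import Cfsg.Agent.Lib.Helper24.BG121
import Cfsg.Agent.Lib.Helper47.BG11a

/-!
# BG159 (CLAIM F = S1376 clause 2): assembly, with the leaf [F4p] as a hypothesis
-/

set_option autoImplicit false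
set_option linter.style.haveILetI false
open Subgroup Cfsg

namespace Cfsg.Agent.Lib.Helper32.BG159

variable {G : Type*} [Group G] [Finite G]

/-- [F4c] `E` is cyclic, given [F4p]. -/
theorem isCyclic_E_of (hG : IsMinSimpleOddOrder G) {N K U Nstar M : Subgroup G} {x : G}
    (c : CtxF N K U Nstar M x) (h2 : tau2 M = ∅)
    (hP : ∃ (p : ℕ) (P0 : Subgroup G), p.Prime ∧ p ≠ 2 ∧ p ∈ sigma M ∧ P0 ≠ ⊥ ∧
      P0 ≤ sigmaCore M ∧ IsPGroup p P0 ∧ PRankLE p 2 P0 ∧ M ≤ normalizer (P0 : Set G)) :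
    IsCyclic ↥(M ⊓ Nstar) := by
  obtain ⟨p, P0, hp, hp2, hpσ, hP01, hP0W, hP0p, hP0r, hMP0⟩ := hP
  haveI : Fact p.Prime := ⟨hp⟩
  have hMtop : M ≠ ⊤ := c.hM.1
  have hEtop : M ⊓ Nstar ≠ ⊤ := fun h => hMtop (top_le_iff.mp (h ▸ inf_le_left))
  refine f4_isCyclic p hp2 (M ⊓ Nstar) P0 hP01 hP0p hP0r (inf_le_left.trans hMP0)
    (Cfsg.Agent.Lib.Helper23.isSolvable_of_ne_top hG hEtop)
    (Cfsg.Agent.Lib.Helper23.odd_card_subgroup hG _) ?_ ?_ ?_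
  · rw [Nat.coprime_comm, Nat.Prime.coprime_iff_not_dvd hp]
    intro hd
    exact f3_not_sigma hG c.hM c.hE hp hd hpσ
  · intro e he he1 w hw hew
    exact fpf hG c h2 e he he1 w (hP0W hw) hew
  · intro r _ R
    exact sylow_cyclic hG c h2 r R

/-- [MAIN] S1376 clause 2, given [F4p]. -/
theorem frobenius_cyclic_of (hG : IsMinSimpleOddOrder G) {N K U Nstar M : Subgroup G} {x : G}
    (c : CtxF N K U Nstar M x)
    (hP : ∃ (p : ℕ) (P0 : Subgroup G), p.Prime ∧ p ≠ 2 ∧ p ∈ sigma M ∧ P0 ≠ ⊥ ∧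
      P0 ≤ sigmaCore M ∧ IsPGroup p P0 ∧ PRankLE p 2 P0 ∧ M ≤ normalizer (P0 : Set G)) :
    ∃ E : Subgroup ↥M, IsFrobeniusComplement E ∧ IsCyclic E := by
  have h2 := tau2_eq_empty_h19 hG c
  have hE := c.hE
  refine ⟨(M ⊓ Nstar).subgroupOf M, ?_, ?_⟩
  · refine f5_isFrobeniusComplement M (sigmaCore M) (M ⊓ Nstar) hE
      (Cfsg.Agent.Lib.Helper24.BG.le_normalizer_sigmaCore M) ?_ c.facts.neH (fpf hG c h2)
    intro h
    have : K ≤ M ⊓ Nstar :=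
      le_inf c.facts.K_le (c.facts.K_le_Ms.trans (Cfsg.Agent.Lib.Helper47.BG11.sigmaCore_le Nstar))
    rw [h, le_bot_iff] at this
    exact c.hK1 this
  · exact f5_isCyclic_subgroupOf M (M ⊓ Nstar) inf_le_left (isCyclic_E_of hG c h2 hP)

end Cfsg.Agent.Lib.Helper32.BG159
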