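import Mathlib
import Cfsg.Prelude
import Cfsg.Agent.Lib.Helper32.BG159MainA
import Cfsg.Agent.Lib.Helper32.BG159F4pB

/-!
# BG159 (CLAIM F = S1376 clause 2 = B&G 15.8 + 15.9(a)): final statements

`frobenius_cyclic hG (c : CtxF N K U Nstar M x)`: `M` is a Frobenius group with cyclic complement
`M ⊓ N*`.  Leaves: helper19 (`tau2_eq_empty_h19`), helper21 (`fpf`, `sylow_cyclic`), helper32.
-/

set_option autoImplicit false
open Subgroup Cfsg

namespace Cfsg.Agent.Lib.Helper32.BG159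

variable {G : Type*} [Group G] [Finite G]

/-- [F2] `τ₂(M) = ∅` (B&G 15.8) (proof: helper19). -/
theorem tau2_eq_empty (hG : IsMinSimpleOddOrder G) {N K U Nstar M : Subgroup G} {x : G}
    (c : CtxF N K U Nstar M x) : tau2 M = ∅ :=
  tau2_eq_empty_h19 hG c

/-- [F4c] `E = M ⊓ N*` is cyclic. -/
theorem isCyclic_E (hG : IsMinSimpleOddOrder G) {N K U Nstar M : Subgroup G} {x : G}
    (c : CtxF N K U Nstar M x) (h2 : tau2 M = ∅) : IsCyclic ↥(M ⊓ Nstar) :=
  isCyclic_E_of hG c h2 (exists_P0_h32 hG c)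

/-- [MAIN] S1376 clause 2. -/
theorem frobenius_cyclic (hG : IsMinSimpleOddOrder G) {N K U Nstar M : Subgroup G} {x : G}
    (c : CtxF N K U Nstar M x) :
    ∃ E : Subgroup ↥M, IsFrobeniusComplement E ∧ IsCyclic E :=
  frobenius_cyclic_of hG c (exists_P0_h32 hG c)

end Cfsg.Agent.Lib.Helper32.BG159
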