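import Cfsg.Agent.Lib.Helper32.BG95B

/-!
# Bender–Glauberman Lemma 9.5, part C  -- helper32

Case II groups: `K = O_{p'}(C_G(A)) ≤ H`.
-/

set_option autoImplicit false
set_option linter.style.haveILetI false
set_option linter.unusedSectionVars false

namespace Cfsg.Agent.Lib.Helper32.BG95

open Subgroup Cfsg

variable {G : Type*} [Group G] [Finite G]

/-! ### `O_t(H)` as a subgroup of `G` -/

theorem pCoreOf_isPGroup (t : ℕ) [Fact t.Prime] (H : Subgroup G) : IsPGroup t (pCoreOf t H) :=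
  (Cfsg.Agent.Lib.Helper22.pCore_isPGroup' t H).map _

theorem pCoreOf_le (t : ℕ) (H : Subgroup G) : pCoreOf t H ≤ H := Subgroup.map_subtype_le _

theorem le_normalizer_pCoreOf (t : ℕ) (H : Subgroup G) :
    H ≤ normalizer ((pCoreOf t H : Subgroup G) : Set G) := by
  haveI : (pCore t H).Normal := Cfsg.Agent.Lib.Helper22.pCore_normal' t H
  intro h hh
  rw [mem_normalizer_iff]
  intro x
  constructor
  · rintro ⟨y, hy, rfl⟩
    refine ⟨⟨h, hh⟩ * y * ⟨h, hh⟩⁻¹, ?_, by simp⟩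
    exact (inferInstance : (pCore t H).Normal).conj_mem y hy ⟨h, hh⟩
  · rintro ⟨y, hy, hyx⟩
    refine ⟨⟨h, hh⟩⁻¹ * y * ⟨h, hh⟩, ?_, ?_⟩
    · have := (inferInstance : (pCore t H).Normal).conj_mem y hy ⟨h, hh⟩⁻¹
      simpa using this
    · have h2 : (H.subtype y : G) = h * x * h⁻¹ := hyx
      simp only [map_mul, map_inv, Subgroup.coe_subtype] at h2 ⊢
      rw [h2]; group

/-- the `t`-rank of `F(H)` is carried by `O_t(H)` -/
theorem not_pRankLE_pCoreOf {t : ℕ} [ht : Fact t.Prime] {H : Subgroup G}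
    (h : ¬ PRankLE t 2 ↥(fittingOf H)) : ¬ PRankLE t 2 ↥(pCoreOf t H) := by
  obtain ⟨E, hEF, hEe, hEc⟩ := exists_elemAb_of_not_pRankLE h
  have hEle : E ≤ pCoreOf t H := by
    intro x hx
    obtain ⟨y, hy, rfl⟩ := hEF hx
    refine ⟨y, ?_, rfl⟩
    apply Cfsg.Agent.Lib.Helper21.bl_mem_pCore_of_mem_fitting hy (k := 1)
    apply Subtype.ext
    have := hEe.2 _ hx
    simpa using this
  have hE3 : t ^ 3 ≤ Nat.card E := by
    obtain ⟨k, hk⟩ := IsPGroup.iff_card.mp (isPGroup_of_exp hEe.2)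
    rw [hk] at hEc ⊢
    have : 2 < k := (Nat.pow_lt_pow_iff_right ht.out.one_lt).mp hEc
    exact Nat.pow_le_pow_right ht.out.pos this
  exact Cfsg.Agent.Lib.Helper23.not_pRankLE_two_of_elemAb hEle
    (fun x hx y hy => congrArg Subtype.val (hEe.1.is_comm.comm ⟨x, hx⟩ ⟨y, hy⟩)) hEe.2 hE3

/-- a cyclic group has `t`-rank at most one, in particular at most two -/
theorem pRankLE_of_isCyclic {t : ℕ} [ht : Fact t.Prime] {T : Subgroup G} (h : IsCyclic T) :
    PRankLE t 2 ↥T := by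
  by_contra hcon
  obtain ⟨E, hET, hEe, hEc⟩ := exists_elemAb_of_not_pRankLE hcon
  have hEcyc : IsCyclic E := by
    have : IsCyclic (E.subgroupOf T) := Subgroup.isCyclic _
    exact isCyclic_of_surjective (Subgroup.subgroupOfEquivOfLe hET).toMonoidHom
      (Subgroup.subgroupOfEquivOfLe hET).surjective
  apply Cfsg.Agent.Lib.Helper64.BG9.not_isCyclic_of_exp ht.out E hEe.2 _ hEcyc
  calc t = t ^ 1 := (pow_one t).symm
    _ < t ^ 2 := Nat.pow_lt_pow_right ht.out.one_lt (by norm_num)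
    _ < Nat.card E := hEc

section caseII

variable (hG : IsMinSimpleOddOrder G) {p : ℕ} [hpf : Fact p.Prime] (P : Sylow p G)
  {A : Subgroup G} (hA : IsSCN (P : Subgroup G) A) (hA3 : ¬ PRankLE p 2 ↥A)
  (hCH : ¬ InUniqueMaximal A)
  {H : Subgroup G} (hH : IsCoatom H) {t : ℕ} [htf : Fact t.Prime] (htp : t ≠ p)
  (hHt : ¬ PRankLE t 2 ↥(fittingOf H))

include hG hH hHt in
/-- all abelian `t`-subgroups of rank at least three are uniqueness subgroups -/
theorem caseII_U3 : ∀ E : Subgroup G, IsPGroup t E → IsMulCommutative E → ¬ PRankLE t 2 ↥E →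
    InUniqueMaximal E :=
  fun E hEp hEc hE3 => Cfsg.Agent.S1401.result hG H hH t hHt E hEp hEc hE3

include hA htp in
theorem coprime_card_sub {D : Subgroup G} (hDA : D ≤ A) : (Nat.card D).Coprime t := by
  obtain ⟨k, hk⟩ := IsPGroup.iff_card.mp ((scn_isPGroup P hA).to_le hDA)
  rw [hk]
  apply Nat.Coprime.pow_left
  exact (Nat.coprime_primes hpf.out htf.out).mpr (Ne.symm htp)

include hG hA hCH hH hHt htp in
/-- **cyclicity**: noncyclic subgroups of `A` have cyclic fixed points on `t`-subgroups of `H` of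
rank at least three -/
theorem caseII_cyclic {R D : Subgroup G} (hR : IsPGroup t R) (hRH : R ≤ H)
    (hR3 : ¬ PRankLE t 2 ↥R) (hDA : D ≤ A) (hDR : D ≤ normalizer (R : Set G))
    (hDnc : ¬ RankLE 1 ↥D) : IsCyclic ↥(R ⊓ centralizer (D : Set G)) := by
  by_contra hnc
  obtain ⟨B, hBU, -, hBD⟩ := t1 hG hH (caseII_U3 hG hH hHt) hR hRH hR3
    (coprime_card_sub P hA htp hDA) hDR hnc
  exact ch2 hG P hA hCH hBU hDA hBD hDnc

include hG hA hA3 hCH hH hHt htp in
/-- **(T3)**: some nonidentity element of `A` has its centralizer in `H` -/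
theorem caseII_exists_elt (hAH : A ≤ H) : ∃ a ∈ A, a ≠ 1 ∧ centralizer ({a} : Set G) ≤ H := by
  have hp : p.Prime := hpf.out
  have ht : t.Prime := htf.out
  obtain ⟨A₁, hA₁A, hA₁c, hA₁e, n, hn3, hn⟩ := exists_A1 (p := p) hA3
  set T := pCoreOf t H with hT
  have hTp : IsPGroup t T := pCoreOf_isPGroup t H
  have hTH : T ≤ H := pCoreOf_le t H
  have hT3 : ¬ PRankLE t 2 ↥T := not_pRankLE_pCoreOf hHt
  have hAT : A ≤ normalizer (T : Set G) := hAH.trans (le_normalizer_pCoreOf t H)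
  have hpT : ¬ p ∣ Nat.card T := by
    intro hd
    obtain ⟨k, hk⟩ := IsPGroup.iff_card.mp hTp
    rw [hk] at hd
    exact htp ((Nat.prime_dvd_prime_iff_eq hp ht).mp (hp.dvd_of_dvd_pow hd)).symm
  -- generation
  have hgen := Cfsg.Agent.Lib.Helper31.gen_rank hA₁c hA₁e (hA₁A.trans hAT) hpT (n - 1)
    (by rw [hn]; exact Nat.pow_le_pow_right hp.pos (by omega))
  -- noncyclic subgroups
  have hDnc : ∀ D : Subgroup G, D ≤ A₁ → p ^ (n - 1) ≤ Nat.card D → ¬ RankLE 1 ↥D := by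
    intro D hD hDc
    apply Cfsg.Agent.Lib.Helper64.BG9.not_rankLE_one hp D D le_rfl
    · refine ⟨⟨⟨fun a b => ?_⟩⟩, fun a ha => hA₁e a (hD ha)⟩
      apply Subtype.ext
      exact hA₁c a.1 (hD a.2) b.1 (hD b.2)
    · exact le_trans (Nat.pow_le_pow_right hp.pos (by omega)) hDc
  have hcyc : ∀ D : Subgroup G, D ≤ A₁ → p ^ (n - 1) ≤ Nat.card D →
      IsCyclic ↥(T ⊓ centralizer (D : Set G)) := fun D hD hDc =>
    caseII_cyclic hG P hA hCH hH htp hHt hTp hTH hT3 (hD.trans hA₁A)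
      ((hD.trans hA₁A).trans hAT) (hDnc D hD hDc)
  -- a hyperplane with fixed points of maximal order
  have hne : Nonempty {D : Subgroup G // D ≤ A₁ ∧ p ^ (n - 1) ≤ Nat.card D} :=
    ⟨⟨A₁, le_rfl, by rw [hn]; exact Nat.pow_le_pow_right hp.pos (by omega)⟩⟩
  obtain ⟨D₁, hD₁max⟩ := Finite.exists_max
    (fun D : {D : Subgroup G // D ≤ A₁ ∧ p ^ (n - 1) ≤ Nat.card D} =>
      Nat.card ↥(T ⊓ centralizer ((D : Subgroup G) : Set G)))
  have hex : ∃ D₂ : {D : Subgroup G // D ≤ A₁ ∧ p ^ (n - 1) ≤ Nat.card D},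
      ¬ T ⊓ centralizer ((D₂ : Subgroup G) : Set G) ≤
        T ⊓ centralizer ((D₁ : Subgroup G) : Set G) := by
    by_contra hall
    push Not at hall
    have hTle : T ≤ T ⊓ centralizer ((D₁ : Subgroup G) : Set G) :=
      hgen.trans (iSup_le hall)
    have hTeq : T = T ⊓ centralizer ((D₁ : Subgroup G) : Set G) :=
      le_antisymm hTle inf_le_left
    have hTcyc : IsCyclic T := by
      rw [hTeq]
      exact hcyc D₁ D₁.2.1 D₁.2.2
    exact hT3 (pRankLE_of_isCyclic hTcyc)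
  obtain ⟨D₂, hD₂⟩ := hex
  obtain ⟨a, ha, ha1⟩ := exists_mem_inf_ne_one hp hA₁c hn hn3 D₁.2.1 D₂.2.1 D₁.2.2 D₂.2.2
  refine ⟨a, hA₁A (D₁.2.1 ha.1), ha1, ?_⟩
  -- fixed points of `a`
  have hza : zpowers a ≤ A := (zpowers_le).mpr (hA₁A (D₁.2.1 ha.1))
  have hsub : ∀ D : Subgroup G, a ∈ D →
      T ⊓ centralizer (D : Set G) ≤ T ⊓ centralizer ((zpowers a : Subgroup G) : Set G) := by
    intro D haD
    apply inf_le_inf_left
    apply centralizer_le
    exact (zpowers_le).mpr haD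
  have hnc : ¬ IsCyclic ↥(T ⊓ centralizer ((zpowers a : Subgroup G) : Set G)) := by
    intro hc
    apply hD₂
    exact le_of_card_le_of_isCyclic (hTp.to_le inf_le_left) hc (hsub _ ha.2) (hsub _ ha.1)
      (hD₁max D₂)
  obtain ⟨B, hBU, hBH, hBD⟩ := t1 hG hH (caseII_U3 hG hH hHt) hTp hTH hT3
    (coprime_card_sub P hA htp hza) (hza.trans hAT) hnc
  apply le_of_unique hBU hH hBH (Cfsg.Agent.Lib.Helper64.BG9.centralizer_singleton_ne_top hG ha1)
  intro b hb
  rw [mem_centralizer_iff]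
  intro x hx
  rw [Set.mem_singleton_iff] at hx
  subst hx
  exact mem_centralizer_iff.mp (hBD hb) x (mem_zpowers x)

include hG hA hA3 hCH hH hHt htp in
/-- `K = O_{p'}(C_G(A)) ≤ H` for a Case II group `H` -/
theorem caseII_K_le (hAH : A ≤ H) :
    piCoreOf (primesNotDvd (Nat.card A)) (centralizer (A : Set G)) ≤ H := by
  obtain ⟨a, haA, -, hle⟩ := caseII_exists_elt hG P hA hA3 hCH hH htp hHt hAH
  refine (Cfsg.Agent.Lib.Helper32.piCoreOf_le _ _).trans (le_trans ?_ hle)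
  apply centralizer_le
  intro x hx
  rw [Set.mem_singleton_iff] at hx
  subst hx
  exact haA

end caseII

end Cfsg.Agent.Lib.Helper32.BG95
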