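import Mathlib.GroupTheory.Sylow
import Mathlib.GroupTheory.Index
import Mathlib.Algebra.Group.End

set_option autoImplicit false

namespace Cfsg.Agent.Lib.Helper32

/-- Injectivity of the restriction `H¹(L, M) → H¹(T, M)` when `|L : T|` is prime to `|M|`, in explicit form:
a crossed homomorphism `f : L → M` (`f (g h) = f g * g • f h`) vanishing on `T` is a coboundary. -/
theorem exists_coboundary {L : Type*} [Group L] [Finite L] {M : Type*} [CommGroup M] [Finite M]
    (φ : L →* MulAut M) (T : Subgroup L) (hk : (Nat.card M).Coprime T.index)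
    (f : L → M) (hf : ∀ g h : L, f (g * h) = f g * φ g (f h)) (hT : ∀ t ∈ T, f t = 1) :
    ∃ a : M, ∀ g : L, f g = a * (φ g a)⁻¹ := by
  classical
  let _ : Fintype (L ⧸ T) := Fintype.ofFinite _
  have hcoset : ∀ x : L, ∀ t ∈ T, f (x * t) = f x := by
    intro x t ht
    rw [hf, hT t ht, map_one, mul_one]
  have hrep : ∀ l : L, f (Quotient.out (QuotientGroup.mk l : L ⧸ T)) = f l := by
    intro l
    have h1 : (QuotientGroup.mk (Quotient.out (QuotientGroup.mk l : L ⧸ T)) : L ⧸ T) =
        QuotientGroup.mk l := Quotient.out_eq' _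
    have h2 : l⁻¹ * Quotient.out (QuotientGroup.mk l : L ⧸ T) ∈ T := QuotientGroup.eq.mp h1.symm
    calc f (Quotient.out (QuotientGroup.mk l : L ⧸ T))
        = f (l * (l⁻¹ * Quotient.out (QuotientGroup.mk l : L ⧸ T))) := by
          rw [mul_inv_cancel_left]
      _ = f l := hcoset l _ h2
  set b : M := ∏ q : L ⧸ T, f (Quotient.out q) with hb
  have key : ∀ g : L, b = f g ^ T.index * φ g b := by
    intro g
    have h1 : ∀ q : L ⧸ T, f (Quotient.out (g • q)) = f g * φ g (f (Quotient.out q)) := by
      intro q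
      have hq : g • q = (QuotientGroup.mk (g * Quotient.out q) : L ⧸ T) := by
        conv_lhs => rw [← Quotient.out_eq' q]
        rfl
      rw [hq, hrep, hf]
    have h2 : ∏ q : L ⧸ T, f (Quotient.out (g • q)) = b :=
      Equiv.prod_comp (MulAction.toPerm g : Equiv.Perm (L ⧸ T)) (fun q => f (Quotient.out q))
    calc b = ∏ q : L ⧸ T, f (Quotient.out (g • q)) := h2.symm
      _ = ∏ q : L ⧸ T, (f g * φ g (f (Quotient.out q))) := by simp_rw [h1]
      _ = f g ^ T.index * φ g b := by
        rw [Finset.prod_mul_distrib, Finset.prod_const, Finset.card_univ, ← map_prod,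
          Subgroup.index, Nat.card_eq_fintype_card]
  obtain ⟨a, hak⟩ : ∃ a : M, a ^ T.index = b :=
    ⟨(powCoprime hk).symm b, (powCoprime hk).apply_symm_apply b⟩
  refine ⟨a, fun g => ?_⟩
  apply (powCoprime hk).injective
  show f g ^ T.index = (a * (φ g a)⁻¹) ^ T.index
  rw [mul_pow, inv_pow, ← map_pow, hak]
  have := key g
  rw [eq_mul_inv_iff_mul_eq]
  exact this.symm

end Cfsg.Agent.Lib.Helper32
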