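import Mathlib
import Cfsg.Agent.Lib.Helper3.CharOps

/-! # S4439 Fh hive (helper52), leaf FH-C: an intermediate constituent (helper32) -/

set_option autoImplicit false

universe u

namespace Cfsg.Agent.Lib.Helper52.Fh

open Cfsg Cfsg.Agent.Lib.Helper3

/-- FH-C (an intermediate constituent). -/
theorem exists_intermediate {G : Type u} [Group G] [Fintype G] (K A : Subgroup G)
    [Fintype K] [Fintype A] (hKA : K ≤ A) (χ : IrrCharacter G) (θ : IrrCharacter K)
    (hov : classInner (fun n : K => (χ : G → ℂ) n) (θ : K → ℂ) ≠ 0) :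
    ∃ η : IrrCharacter A, classInner (fun a : A => (χ : G → ℂ) a) (η : A → ℂ) ≠ 0 ∧
      classInner (fun n : K => (η : A → ℂ) ⟨(n : G), hKA n.2⟩) (θ : K → ℂ) ≠ 0 := by
  classical
  haveI : Fintype (IrrCharacter A) := Fintype.ofFinite _
  have hχA : IsCharacter A (fun a : A => (χ : G → ℂ) a) :=
    IsCharacter.restrict (IsIrrCharacter.isCharacter χ.2) A
  obtain ⟨m, hm, hsum⟩ := IsCharacter.exists_mult hχA
  by_contra hcon
  push Not at hcon
  apply hov
  have h1 : (fun n : K => (χ : G → ℂ) n) =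
      ∑ η : IrrCharacter A, (m η : ℂ) • (fun n : K => (η : A → ℂ) ⟨(n : G), hKA n.2⟩) := by
    funext n
    have h2 := congrFun hsum ⟨(n : G), hKA n.2⟩
    simp only [Finset.sum_apply, Pi.smul_apply] at h2 ⊢
    exact h2
  rw [h1, classInner_sum_left]
  apply Finset.sum_eq_zero
  intro η _
  rw [classInner_smul_left]
  by_cases h0 : m η = 0
  · rw [h0, Nat.cast_zero, zero_mul]
  · have h3 : classInner (fun a : A => (χ : G → ℂ) a) (η : A → ℂ) ≠ 0 := by
      rw [hm η]
      exact_mod_cast h0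
    rw [hcon η h3, mul_zero]

end Cfsg.Agent.Lib.Helper52.Fh
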