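import Cfsg.Agent.Lib.Helper32.GL2Odd

set_option autoImplicit false
set_option linter.style.haveILetI false

namespace Cfsg.Agent.Lib.Helper32.GL2

open Matrix
open scoped commutatorElement

variable {F : Type*} [Field F]

theorem mem_of_sq_mem {G : Type*} [Group G] (H : Subgroup G) {x : G} (hx : Odd (orderOf x))
    (h : x ^ 2 ∈ H) : x ∈ H := by
  obtain ⟨m, hm⟩ := hx
  have : x = (x ^ 2) ^ (m + 1) := by
    rw [← pow_mul, show 2 * (m + 1) = orderOf x + 1 by omega, pow_succ, pow_orderOf_eq_one,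
      one_mul]
  rw [this]; exact H.pow_mem h _

theorem conj_mem_commutator {G : Type*} [Group G] (H K : Subgroup G) (x : G)
    (hH : ∀ h ∈ H, x * h * x⁻¹ ∈ H) (hK : ∀ k ∈ K, x * k * x⁻¹ ∈ K) :
    ∀ q ∈ ⁅H, K⁆, x * q * x⁻¹ ∈ ⁅H, K⁆ := by
  intro q hq
  have h1 : (⁅H, K⁆).map (MulAut.conj x).toMonoidHom =
      ⁅H.map (MulAut.conj x).toMonoidHom, K.map (MulAut.conj x).toMonoidHom⁆ :=
    Subgroup.map_commutator _ _ _
  have h2 : ⁅H.map (MulAut.conj x).toMonoidHom, K.map (MulAut.conj x).toMonoidHom⁆ ≤ ⁅H, K⁆ := by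
    apply Subgroup.commutator_mono
    · rintro _ ⟨h, hh, rfl⟩; exact hH h hh
    · rintro _ ⟨h, hh, rfl⟩; exact hK h hh
  have h3 : (MulAut.conj x).toMonoidHom q ∈ (⁅H, K⁆).map (MulAut.conj x).toMonoidHom :=
    Subgroup.mem_map_of_mem _ hq
  rw [h1] at h3
  exact h2 h3

theorem odd_orderOf_of_mem {G : Type*} [Group G] (X : Subgroup G) [Finite X]
    (hodd : Odd (Nat.card X)) {x : G} (hx : x ∈ X) : Odd (orderOf x) :=
  Odd.of_dvd_nat hodd (Subgroup.orderOf_dvd_natCard X hx)

/-- case (iii) : an element without eigenvectors whose conjugates commute with it -/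
theorem comm_of_noEig (X : Subgroup (GL (Fin 2) F)) [Finite X] (hodd : Odd (Nat.card X))
    (d : GL (Fin 2) F) (hd : NoEig d.val)
    (hc : ∀ x ∈ X, (x * d * x⁻¹) * d = d * (x * d * x⁻¹)) :
    ∀ x ∈ X, ∀ y ∈ X, x * y = y * x := by
  have hcent : ∀ x ∈ X, x * d = d * x := by
    intro x hx
    have hx2 : x ^ 2 ∈ Subgroup.centralizer {d} := by
      rw [Subgroup.mem_centralizer_singleton_iff]
      have hcv : (x * d * x⁻¹).val * d.val = d.val * (x * d * x⁻¹).val := by
        rw [← Units.val_mul, hc x hx, Units.val_mul]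
      have htr : (x * d * x⁻¹).val.trace = d.val.trace := by
        rw [Units.val_mul, Units.val_mul]
        exact Matrix.trace_units_conj x d.val
      have hdet : (x * d * x⁻¹).val.det = d.val.det := by
        rw [Units.val_mul, Units.val_mul]
        exact Matrix.det_units_conj x d.val
      rcases hd.eq_or_eq hcv htr hdet with h | h
      · have h' : x * d * x⁻¹ = d := Units.ext h
        have h'' : x * d = d * x := by
          calc x * d = (x * d * x⁻¹) * x := by group
            _ = d * x := by rw [h']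
        rw [pow_two]
        calc x * x * d = x * (x * d) := by group
          _ = x * (d * x) := by rw [h'']
          _ = (x * d) * x := by group
          _ = d * x * x := by rw [h'']
          _ = d * (x * x) := by group
      · have h2 : (x * (x * d * x⁻¹) * x⁻¹).val = d.val := by
          rw [Units.val_mul, Units.val_mul, h, mul_sub, sub_mul, Matrix.mul_smul, Matrix.smul_mul,
            Matrix.mul_one, ← Units.val_mul, mul_inv_cancel, Units.val_one]
          rw [← Units.val_mul, ← Units.val_mul, h]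
          abel
        have h' : x * (x * d * x⁻¹) * x⁻¹ = d := Units.ext h2
        rw [pow_two]
        calc x * x * d = (x * (x * d * x⁻¹) * x⁻¹) * (x * x) := by group
          _ = d * (x * x) := by rw [h']
    have := mem_of_sq_mem _ (odd_orderOf_of_mem X hodd hx) hx2
    rw [Subgroup.mem_centralizer_singleton_iff] at this
    exact this
  intro x hx y hy
  apply Units.ext
  rw [Units.val_mul, Units.val_mul]
  apply hd.commute
  · rw [← Units.val_mul, hcent x hx, Units.val_mul]
  · rw [← Units.val_mul, hcent y hy, Units.val_mul]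


theorem mulVec_ne_zero (g : GL (Fin 2) F) {v : Fin 2 → F} (hv : v ≠ 0) : g.val.mulVec v ≠ 0 := by
  intro h
  apply hv
  have : (g⁻¹).val.mulVec (g.val.mulVec v) = v := by
    rw [Matrix.mulVec_mulVec, ← Units.val_mul, inv_mul_cancel, Units.val_one, Matrix.one_mulVec]
  rw [h, Matrix.mulVec_zero] at this
  exact this.symm

/-- case (ii) : a non-scalar semisimple element with an eigenvector whose conjugates commute
with it -/
theorem le_lineStab_of_eig (X : Subgroup (GL (Fin 2) F)) [Finite X] (hodd : Odd (Nat.card X))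
    (d : GL (Fin 2) F) {k : ℕ} (hk : (k : F) ≠ 0) (hdk : d ^ k = 1)
    (hns : ∀ s : F, d.val ≠ s • (1 : Matrix (Fin 2) (Fin 2) F))
    {v : Fin 2 → F} (hv : v ≠ 0) {a : F} (hdv : d.val.mulVec v = a • v)
    (hc : ∀ x ∈ X, (x⁻¹ * d * x) * d = d * (x⁻¹ * d * x)) :
    X ≤ lineStab v hv := by
  have hdk' : d.val ^ k = 1 := by rw [← Units.val_pow_eq_pow_val, hdk, Units.val_one]
  have hab : d.val.trace - a ≠ a := by
    intro h
    apply hns a
    apply eq_smul_one_of_pow_eq_one hk hdk' hv hdv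
    linear_combination h
  obtain ⟨w, hw, hdw, hvw, hall⟩ := eig_cases hv hdv hab
  -- every `x ∈ X` sends `v` into `Fv` or `Fw`
  have hcases : ∀ x ∈ X, (∃ t : F, x.val.mulVec v = t • v) ∨ (∃ t : F, x.val.mulVec v = t • w) := by
    intro x hx
    set g := x⁻¹ * d * x with hg
    have hgv0 : g.val.mulVec v ≠ 0 := mulVec_ne_zero g hv
    have hgv : d.val.mulVec (g.val.mulVec v) = a • g.val.mulVec v := by
      rw [Matrix.mulVec_mulVec, ← Units.val_mul, ← hc x hx, Units.val_mul, ← Matrix.mulVec_mulVec,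
        hdv, Matrix.mulVec_smul]
    obtain ⟨s, hs⟩ : ∃ s : F, g.val.mulVec v = s • v := by
      rcases hall _ hgv0 a hgv with ⟨_, h⟩ | ⟨h, _⟩
      · exact h
      · exact absurd h.symm hab
    have hxv0 : x.val.mulVec v ≠ 0 := mulVec_ne_zero x hv
    have hxg : d * x = x * g := by rw [hg]; group
    have hxv : d.val.mulVec (x.val.mulVec v) = s • x.val.mulVec v := by
      rw [Matrix.mulVec_mulVec, ← Units.val_mul, hxg, Units.val_mul, ← Matrix.mulVec_mulVec,
        hs, Matrix.mulVec_smul]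
    rcases hall _ hxv0 s hxv with ⟨_, h⟩ | ⟨_, h⟩
    · left; exact h
    · right; exact h
  intro x hx
  apply mem_of_sq_mem _ (odd_orderOf_of_mem X hodd hx)
  rcases hcases x hx with h | ⟨t, ht⟩
  · exact Subgroup.pow_mem _ (mem_lineStab.2 h) 2
  · rcases hcases x⁻¹ (X.inv_mem hx) with h | ⟨t', ht'⟩
    · have : x⁻¹ ∈ lineStab v hv := mem_lineStab.2 h
      have : x ∈ lineStab v hv := by simpa using Subgroup.inv_mem _ this
      exact Subgroup.pow_mem _ this 2
    · have ht'0 : t' ≠ 0 := by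
        rintro rfl
        rw [zero_smul] at ht'
        exact mulVec_ne_zero x⁻¹ hv ht'
      have hxw : x.val.mulVec w = t'⁻¹ • v := by
        have h1 : x.val.mulVec ((x⁻¹).val.mulVec v) = v := by
          rw [Matrix.mulVec_mulVec, ← Units.val_mul, mul_inv_cancel, Units.val_one,
            Matrix.one_mulVec]
        rw [ht', Matrix.mulVec_smul] at h1
        rw [← h1, smul_smul, inv_mul_cancel₀ ht'0, one_smul]
      rw [mem_lineStab]
      refine ⟨t * t'⁻¹, ?_⟩
      rw [pow_two, Units.val_mul, ← Matrix.mulVec_mulVec, ht, Matrix.mulVec_smul, hxw, smul_smul]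

/-- case (i) : scalar commutators are trivial in a group of odd order -/
theorem commutator_eq_one_of_scalar (X : Subgroup (GL (Fin 2) F)) [Finite X]
    (hodd : Odd (Nat.card X)) {x y : GL (Fin 2) F} (hx : x ∈ X) (hy : y ∈ X) {s : F}
    (hs : (⁅x, y⁆ : GL (Fin 2) F).val = s • (1 : Matrix (Fin 2) (Fin 2) F)) : ⁅x, y⁆ = 1 := by
  have hcX : ⁅x, y⁆ ∈ X := by
    rw [commutatorElement_def]
    exact X.mul_mem (X.mul_mem (X.mul_mem hx hy) (X.inv_mem hx)) (X.inv_mem hy)
  have hdet : (⁅x, y⁆ : GL (Fin 2) F).val.det = 1 := by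
    have h1 : (Matrix.GeneralLinearGroup.det ⁅x, y⁆ : Fˣ) = 1 := by
      rw [map_commutatorElement]
      exact commutatorElement_eq_one_iff_commute.2 (Commute.all _ _)
    have := congrArg Units.val h1
    rw [Matrix.GeneralLinearGroup.val_det_apply, Units.val_one] at this
    exact this
  have hss : s * s = 1 := by
    rw [hs, Matrix.det_smul, Matrix.det_one, Fintype.card_fin, mul_one, pow_two] at hdet
    exact hdet
  obtain ⟨m, hm⟩ := odd_orderOf_of_mem X hodd hcX
  have hpow : (⁅x, y⁆ : GL (Fin 2) F).val ^ (2 * m + 1) = 1 := by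
    rw [← Units.val_pow_eq_pow_val, ← hm, pow_orderOf_eq_one, Units.val_one]
  rw [hs, smul_pow, one_pow] at hpow
  have hs1 : s ^ (2 * m + 1) = 1 := by
    have := congrFun (congrFun hpow 0) 0
    simpa using this
  have hs2 : s = 1 := by
    rw [pow_succ, pow_mul, pow_two, hss, one_pow, one_mul] at hs1
    exact hs1
  apply Units.ext
  rw [hs, hs2, one_smul, Units.val_one]


theorem cast_orderOf_ne_zero (p : ℕ) [Fact p.Prime] [CharP F p] {G : Type*} [Group G]
    (D : Subgroup G) (hD : ∀ d ∈ D, d ^ p = 1 → d = 1) {d : G} (hd : d ∈ D)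
    (hfin : IsOfFinOrder d) : (orderOf d : F) ≠ 0 := by
  intro h
  rw [CharP.cast_eq_zero_iff F p] at h
  obtain ⟨m, hm⟩ := h
  have hpos : 0 < orderOf d := hfin.orderOf_pos
  have h1 : (d ^ m) ^ p = 1 := by rw [← pow_mul, mul_comm, ← hm, pow_orderOf_eq_one]
  have h2 := hD _ (D.pow_mem hd m) h1
  have h3 : orderOf d ∣ m := orderOf_dvd_of_pow_eq_one h2
  have hm0 : 0 < m := by
    rcases Nat.eq_zero_or_pos m with h | h
    · subst h; omega
    · exact h
  have := Nat.le_of_dvd hm0 h3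
  have hp2 : 2 ≤ p := (Fact.out : p.Prime).two_le
  nlinarith

theorem commutator_lt_of_isSolvable {G : Type*} [Group G] (X : Subgroup G) [Group.IsSolvable X]
    (hX : X ≠ ⊥) : ⁅X, X⁆ < X := by
  haveI : Nontrivial X := (Subgroup.nontrivial_iff_ne_bot X).2 hX
  have h1 := Group.IsSolvable.commutator_lt_top_of_nontrivial X
  have h2 := (Subgroup.map_lt_map_iff_of_injective (f := X.subtype) X.subtype_injective).2 h1
  rw [Subgroup.map_subtype_commutator, ← MonoidHom.range_eq_map, Subgroup.range_subtype] at h2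
  exact h2

theorem exp_p_commutator_aux (p : ℕ) [Fact p.Prime] [CharP F p] :
    ∀ (n : ℕ) (X : Subgroup (GL (Fin 2) F)), Finite X → Nat.card X = n → Odd n → Group.IsSolvable X →
      ∀ z ∈ ⁅X, X⁆, z ^ p = 1 := by
  intro n
  induction n using Nat.strong_induction_on with
  | _ n ih =>
  intro X hfin hn hodd hsolv
  haveI := hfin
  subst hn
  by_cases hX1 : X = ⊥
  · intro z hz
    rw [hX1, Subgroup.commutator_bot_left, Subgroup.mem_bot] at hz
    rw [hz, one_pow]
  have hDlt : ⁅X, X⁆ < X := commutator_lt_of_isSolvable X hX1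
  have hDX : ⁅X, X⁆ ≤ X := hDlt.le
  haveI hDfin : Finite (⁅X, X⁆ : Subgroup (GL (Fin 2) F)) :=
    Finite.of_injective _ (Subgroup.inclusion_injective hDX)
  have hDcard : Nat.card (⁅X, X⁆ : Subgroup (GL (Fin 2) F)) < Nat.card X := by
    by_contra hle
    push Not at hle
    exact hDlt.ne (Subgroup.eq_of_le_of_card_ge hDX hle)
  have hDodd : Odd (Nat.card (⁅X, X⁆ : Subgroup (GL (Fin 2) F))) :=
    Odd.of_dvd_nat hodd (Subgroup.card_dvd_of_le hDX)
  have hDsolv : Group.IsSolvable (⁅X, X⁆ : Subgroup (GL (Fin 2) F)) :=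
    Group.isSolvable_of_isSolvable_injective (Subgroup.inclusion_injective hDX)
  have hIH := ih _ hDcard ⁅X, X⁆ hDfin rfl hDodd hDsolv
  -- X normalizes D
  have hXD : ∀ x ∈ X, ∀ q ∈ ⁅X, X⁆, x * q * x⁻¹ ∈ ⁅X, X⁆ := fun x hx =>
    conj_mem_commutator X X x (fun h hh => X.mul_mem (X.mul_mem hx hh) (X.inv_mem hx))
      (fun h hh => X.mul_mem (X.mul_mem hx hh) (X.inv_mem hx))
  have hXDD : ∀ x ∈ X, ∀ q ∈ ⁅⁅X, X⁆, ⁅X, X⁆⁆, x * q * x⁻¹ ∈ ⁅⁅X, X⁆, ⁅X, X⁆⁆ := fun x hx =>
    conj_mem_commutator _ _ x (hXD x hx) (hXD x hx)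
  by_cases hDD : ⁅⁅X, X⁆, ⁅X, X⁆⁆ = ⊥
  swap
  · -- case A
    have hDDX : ⁅⁅X, X⁆, ⁅X, X⁆⁆ ≤ X := (Subgroup.commutator_le_self _).trans hDX
    haveI : Finite (⁅⁅X, X⁆, ⁅X, X⁆⁆ : Subgroup (GL (Fin 2) F)) :=
      Finite.of_injective _ (Subgroup.inclusion_injective hDDX)
    have hQ : IsPGroup p (⁅⁅X, X⁆, ⁅X, X⁆⁆ : Subgroup (GL (Fin 2) F)) := by
      intro g
      refine ⟨1, ?_⟩
      apply Subtype.ext
      rw [pow_one, Subgroup.coe_pow, Subgroup.coe_one]
      exact hIH g.1 g.2
    obtain ⟨v, hv, hXv⟩ := exists_common_eig_of_normal_pGroup p X _ hQ hDD hXDD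
    exact exp_p_of_common_eig p hv X hXv
  · -- case B : D abelian
    have hDab : ∀ a ∈ ⁅X, X⁆, ∀ b ∈ ⁅X, X⁆, a * b = b * a := by
      intro a ha b hb
      have : ⁅a, b⁆ ∈ ⁅⁅X, X⁆, ⁅X, X⁆⁆ := Subgroup.commutator_mem_commutator ha hb
      rw [hDD, Subgroup.mem_bot] at this
      exact (commutatorElement_eq_one_iff_mul_comm.1 this)
    by_cases hB1 : ∃ d ∈ ⁅X, X⁆, d ≠ 1 ∧ d ^ p = 1
    · -- case B1
      obtain ⟨d₀, hd₀, hd₀1, hd₀p⟩ := hB1
      let Q : Subgroup (GL (Fin 2) F) :=
        { carrier := {d | d ∈ ⁅X, X⁆ ∧ d ^ p = 1}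
          one_mem' := ⟨Subgroup.one_mem _, one_pow _⟩
          mul_mem' := by
            rintro a b ⟨ha, ha'⟩ ⟨hb, hb'⟩
            refine ⟨Subgroup.mul_mem _ ha hb, ?_⟩
            have hc : Commute a b := hDab a ha b hb
            rw [hc.mul_pow, ha', hb', one_mul]
          inv_mem' := by
            rintro a ⟨ha, ha'⟩
            exact ⟨Subgroup.inv_mem _ ha, by rw [inv_pow, ha', inv_one]⟩ }
      have hQX : Q ≤ X := fun q hq => hDX hq.1
      haveI : Finite Q := Finite.of_injective _ (Subgroup.inclusion_injective hQX)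
      have hQ : IsPGroup p Q := by
        intro g
        refine ⟨1, ?_⟩
        apply Subtype.ext
        rw [pow_one, Subgroup.coe_pow, Subgroup.coe_one]
        exact g.2.2
      have hQ1 : Q ≠ ⊥ := by
        intro h
        have : d₀ ∈ Q := ⟨hd₀, hd₀p⟩
        rw [h, Subgroup.mem_bot] at this
        exact hd₀1 this
      have hXQ : ∀ x ∈ X, ∀ q ∈ Q, x * q * x⁻¹ ∈ Q := by
        intro x hx q hq
        refine ⟨hXD x hx q hq.1, ?_⟩
        rw [conj_pow, hq.2, mul_one, mul_inv_cancel]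
      obtain ⟨v, hv, hXv⟩ := exists_common_eig_of_normal_pGroup p X Q hQ hQ1 hXQ
      exact exp_p_of_common_eig p hv X hXv
    · -- case B2 : D is a p'-group
      have hB2 : ∀ d ∈ ⁅X, X⁆, d ^ p = 1 → d = 1 := by
        intro d hd hdp
        by_contra hne
        exact hB1 ⟨d, hd, hne, hdp⟩
      have hfinord : ∀ d ∈ ⁅X, X⁆, IsOfFinOrder d := by
        intro d hd
        have : IsOfFinOrder (⟨d, hDX hd⟩ : X) := isOfFinOrder_of_finite _
        exact Submonoid.isOfFinOrder_coe (H := X.toSubmonoid) |>.2 this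
      have hcomm1 : ∀ d ∈ ⁅X, X⁆, ∀ x ∈ X, (x * d * x⁻¹) * d = d * (x * d * x⁻¹) :=
        fun d hd x hx => hDab _ (hXD x hx d hd) _ hd
      have hcomm2 : ∀ d ∈ ⁅X, X⁆, ∀ x ∈ X, (x⁻¹ * d * x) * d = d * (x⁻¹ * d * x) := by
        intro d hd x hx
        have := hcomm1 d hd x⁻¹ (X.inv_mem hx)
        rwa [inv_inv] at this
      have htriv : (∀ x ∈ X, ∀ y ∈ X, x * y = y * x) → ∀ z ∈ ⁅X, X⁆, z ^ p = 1 := by
        intro hab z hz
        have : ⁅X, X⁆ = ⊥ := by
          rw [Subgroup.commutator_eq_bot_iff_le_centralizer]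
          intro x hx
          rw [Subgroup.mem_centralizer_iff]
          intro y hy
          exact hab y hy x hx
        rw [this, Subgroup.mem_bot] at hz
        rw [hz, one_pow]
      by_cases hNE : ∃ d ∈ ⁅X, X⁆, NoEig d.val
      · obtain ⟨d, hd, hdne⟩ := hNE
        exact htriv (comm_of_noEig X hodd d hdne (hcomm1 d hd))
      · push Not at hNE
        by_cases hNS : ∃ d ∈ ⁅X, X⁆, ∀ s : F, d.val ≠ s • (1 : Matrix (Fin 2) (Fin 2) F)
        · obtain ⟨d, hd, hns⟩ := hNS
          have hne := hNE d hd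
          unfold NoEig at hne
          push Not at hne
          obtain ⟨v, hv, a, hdv⟩ := hne
          have hk := cast_orderOf_ne_zero (F := F) p _ hB2 hd (hfinord d hd)
          have hXv := le_lineStab_of_eig X hodd d hk (pow_orderOf_eq_one d) hns hv hdv
            (hcomm2 d hd)
          exact exp_p_of_common_eig p hv X hXv
        · push Not at hNS
          apply htriv
          intro x hx y hy
          have hc : ⁅x, y⁆ ∈ ⁅X, X⁆ := Subgroup.commutator_mem_commutator hx hy
          obtain ⟨s, hs⟩ := hNS _ hc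
          exact commutatorElement_eq_one_iff_mul_comm.1 (commutator_eq_one_of_scalar X hodd hx hy hs)

/-- **Theorem (E)** : a finite solvable subgroup of odd order of `GL₂(F)`, `char F = p`, has a
commutator subgroup of exponent dividing `p`. -/
theorem exp_p_commutator (p : ℕ) [Fact p.Prime] [CharP F p] (X : Subgroup (GL (Fin 2) F))
    [Finite X] (hodd : Odd (Nat.card X)) [Group.IsSolvable X] : ∀ z ∈ ⁅X, X⁆, z ^ p = 1 :=
  exp_p_commutator_aux p _ X inferInstance rfl hodd inferInstance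

end Cfsg.Agent.Lib.Helper32.GL2
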