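import Cfsg.Agent.Lib.Helper32.Mat2

set_option autoImplicit false
set_option linter.style.haveILetI false

namespace Cfsg.Agent.Lib.Helper32.GL2

open Matrix
open scoped commutatorElement

variable {F : Type*} [Field F]

theorem coe_inv_mulVec_of_mulVec (g : GL (Fin 2) F) {v : Fin 2 → F} {s : F}
    (h : g.val.mulVec v = s • v) (hv : v ≠ 0) : s ≠ 0 ∧ (g⁻¹).val.mulVec v = s⁻¹ • v := by
  have hinv : (g⁻¹).val.mulVec (g.val.mulVec v) = v := by
    rw [Matrix.mulVec_mulVec, ← Units.val_mul, inv_mul_cancel, Units.val_one, Matrix.one_mulVec]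
  have hs : s ≠ 0 := by
    rintro rfl
    rw [zero_smul] at h
    rw [h, Matrix.mulVec_zero] at hinv
    exact hv hinv.symm
  refine ⟨hs, ?_⟩
  rw [h, Matrix.mulVec_smul] at hinv
  calc (g⁻¹).val.mulVec v = s⁻¹ • (s • (g⁻¹).val.mulVec v) := by
        rw [smul_smul, inv_mul_cancel₀ hs, one_smul]
    _ = s⁻¹ • v := by rw [hinv]

/-- the stabilizer of the line spanned by `v` -/
def lineStab (v : Fin 2 → F) (hv : v ≠ 0) : Subgroup (GL (Fin 2) F) where
  carrier := {g | ∃ s : F, g.val.mulVec v = s • v}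
  one_mem' := ⟨1, by simp⟩
  mul_mem' := by
    rintro a b ⟨s, hs⟩ ⟨t, ht⟩
    refine ⟨t * s, ?_⟩
    rw [Units.val_mul, ← Matrix.mulVec_mulVec, ht, Matrix.mulVec_smul, hs, smul_smul]
  inv_mem' := by
    rintro a ⟨s, hs⟩
    exact ⟨s⁻¹, (coe_inv_mulVec_of_mulVec a hs hv).2⟩

theorem mem_lineStab {v : Fin 2 → F} {hv : v ≠ 0} {g : GL (Fin 2) F} :
    g ∈ lineStab v hv ↔ ∃ s : F, g.val.mulVec v = s • v := Iff.rfl

/-- the unipotent group fixing `v` -/
def unipStab (v : Fin 2 → F) : Subgroup (GL (Fin 2) F) where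
  carrier := {g | g.val.mulVec v = v ∧ g.val.det = 1}
  one_mem' := ⟨by simp, by simp⟩
  mul_mem' := by
    rintro a b ⟨ha, ha'⟩ ⟨hb, hb'⟩
    refine ⟨?_, ?_⟩
    · rw [Units.val_mul, ← Matrix.mulVec_mulVec, hb, ha]
    · rw [Units.val_mul, Matrix.det_mul, ha', hb', one_mul]
  inv_mem' := by
    rintro a ⟨ha, ha'⟩
    refine ⟨?_, ?_⟩
    · have : (a⁻¹).val.mulVec (a.val.mulVec v) = v := by
        rw [Matrix.mulVec_mulVec, ← Units.val_mul, inv_mul_cancel, Units.val_one,
          Matrix.one_mulVec]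
      rwa [ha] at this
    · have : (a⁻¹).val.det * a.val.det = 1 := by
        rw [← Matrix.det_mul, ← Units.val_mul, inv_mul_cancel, Units.val_one, Matrix.det_one]
      rwa [ha', mul_one] at this

theorem pow_eq_one_of_mem_unipStab (p : ℕ) [Fact p.Prime] [CharP F p] {v : Fin 2 → F}
    (hv : v ≠ 0) {g : GL (Fin 2) F} (hg : g ∈ unipStab v) : g ^ p = 1 := by
  obtain ⟨h1, h2⟩ := hg
  have hroot := (exists_eig_iff g.val 1).1 ⟨v, hv, by rw [h1, one_smul]⟩
  have htr : g.val.trace = 1 + 1 := by rw [h2] at hroot; linear_combination -hroot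
  have hch := cayley_hamilton g.val
  rw [htr, h2] at hch
  set N := g.val - 1 with hN
  have hNN : N * N = 0 := by
    have : N * N = g.val * g.val - (1 + 1 : F) • g.val + 1 := by
      rw [hN]
      simp only [sub_mul, mul_sub, Matrix.one_mul, Matrix.mul_one, add_smul, one_smul]
      abel
    rw [this, hch]
    simp only [one_smul]
    abel
  have hg1 : g.val = 1 + N := by rw [hN]; abel
  have hp2 : 2 ≤ p := (Fact.out : p.Prime).two_le
  have : CharP (Matrix (Fin 2) (Fin 2) F) p := inferInstance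
  apply Units.ext
  rw [Units.val_pow_eq_pow_val, Units.val_one, hg1,
    add_pow_char_of_commute p (Commute.one_left N), one_pow]
  have : N ^ p = 0 := by
    obtain ⟨k, rfl⟩ := Nat.exists_eq_add_of_le hp2
    rw [pow_add, pow_two, hNN, zero_mul]
  rw [this, add_zero]

theorem commutator_le_unipStab {v : Fin 2 → F} (hv : v ≠ 0) (X : Subgroup (GL (Fin 2) F))
    (hX : X ≤ lineStab v hv) : ⁅X, X⁆ ≤ unipStab v := by
  rw [Subgroup.commutator_le]
  intro x hx y hy
  obtain ⟨s, hs⟩ := hX hx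
  obtain ⟨t, ht⟩ := hX hy
  obtain ⟨hs0, hs'⟩ := coe_inv_mulVec_of_mulVec x hs hv
  obtain ⟨ht0, ht'⟩ := coe_inv_mulVec_of_mulVec y ht hv
  refine ⟨?_, ?_⟩
  · rw [commutatorElement_def, Units.val_mul, Units.val_mul, Units.val_mul,
      ← Matrix.mulVec_mulVec, ← Matrix.mulVec_mulVec, ← Matrix.mulVec_mulVec, ht']
    simp only [Matrix.mulVec_smul, hs', ht, hs, smul_smul]
    have : t⁻¹ * s⁻¹ * t * s = 1 := by field_simp
    rw [this, one_smul]
  · have h1 : (Matrix.GeneralLinearGroup.det ⁅x, y⁆ : Fˣ) = 1 := by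
      rw [map_commutatorElement]
      exact commutatorElement_eq_one_iff_commute.2 (Commute.all _ _)
    have := congrArg Units.val h1
    rw [Matrix.GeneralLinearGroup.val_det_apply, Units.val_one] at this
    exact this

theorem exp_p_of_common_eig (p : ℕ) [Fact p.Prime] [CharP F p] {v : Fin 2 → F} (hv : v ≠ 0)
    (X : Subgroup (GL (Fin 2) F)) (hX : X ≤ lineStab v hv) : ∀ z ∈ ⁅X, X⁆, z ^ p = 1 :=
  fun _ hz => pow_eq_one_of_mem_unipStab p hv (commutator_le_unipStab hv X hX hz)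


theorem pow_mulVec_of_mulVec (g : GL (Fin 2) F) {v : Fin 2 → F} {s : F}
    (h : g.val.mulVec v = s • v) (n : ℕ) : (g ^ n).val.mulVec v = s ^ n • v := by
  induction n with
  | zero => simp
  | succ n ih =>
    rw [pow_succ, Units.val_mul, ← Matrix.mulVec_mulVec, h, Matrix.mulVec_smul, ih, smul_smul,
      pow_succ, mul_comm]

theorem exists_common_eig_of_normal_pGroup (p : ℕ) [Fact p.Prime] [CharP F p]
    (X Q : Subgroup (GL (Fin 2) F)) [Finite Q] (hQ : IsPGroup p Q) (hQ1 : Q ≠ ⊥)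
    (hXQ : ∀ x ∈ X, ∀ q ∈ Q, x * q * x⁻¹ ∈ Q) :
    ∃ (v : Fin 2 → F) (hv : v ≠ 0), X ≤ lineStab v hv := by
  haveI : Nontrivial Q := (Subgroup.nontrivial_iff_ne_bot Q).2 hQ1
  haveI := hQ.center_nontrivial
  obtain ⟨⟨q₀, hq₀c⟩, hq₀ne⟩ := exists_ne (1 : Subgroup.center Q)
  have hq₀1 : (q₀ : GL (Fin 2) F) ≠ 1 := by
    intro h
    apply hq₀ne
    apply Subtype.ext
    apply Subtype.ext
    exact h
  obtain ⟨k, hk⟩ := hQ q₀
  have hk' : ((q₀ : GL (Fin 2) F).val) ^ (p ^ k) = 1 := by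
    have := congrArg (fun x : Q => ((x : GL (Fin 2) F).val)) hk
    simpa using this
  set m₀ := (q₀ : GL (Fin 2) F).val with hm₀
  have hnil : (m₀ - 1) ^ (p ^ k) = 0 := by
    rw [sub_pow_char_pow_of_commute p k (Commute.one_right m₀), hk', one_pow, sub_self]
  have hdet : (m₀ - 1).det = 0 := by
    have := congrArg Matrix.det hnil
    rw [Matrix.det_pow, Matrix.det_zero] at this
    exact pow_eq_zero_iff (pow_ne_zero _ (Fact.out : p.Prime).ne_zero) |>.1 this
  obtain ⟨v, hv, hv0⟩ := Matrix.exists_mulVec_eq_zero_iff.2 hdet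
  have hm₀v : m₀.mulVec v = v := by
    rw [Matrix.sub_mulVec, Matrix.one_mulVec, sub_eq_zero] at hv0
    exact hv0
  have hm₀ne : m₀ ≠ 1 := by
    intro h
    apply hq₀1
    apply Units.ext
    rw [Units.val_one]; exact h
  -- fixed vectors of m₀ are multiples of v
  have hfix : ∀ u : Fin 2 → F, m₀.mulVec u = u → ∃ s : F, u = s • v := by
    intro u hu
    apply exists_smul_of_dt_eq_zero hv
    by_contra hd
    apply hm₀ne
    have := eq_zero_of_mulVec_eq_zero (f := m₀ - 1) hd hv0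
      (by rw [Matrix.sub_mulVec, Matrix.one_mulVec, hu, sub_self])
    exact sub_eq_zero.1 this
  -- every element of Q fixes v
  have hQv : ∀ q ∈ Q, (q : GL (Fin 2) F).val.mulVec v = v := by
    intro q hq
    have hcomm : (q₀ : GL (Fin 2) F) * q = q * (q₀ : GL (Fin 2) F) := by
      have := (Subgroup.mem_center_iff.1 hq₀c) ⟨q, hq⟩
      have := congrArg (fun x : Q => (x : GL (Fin 2) F)) this
      simpa using this.symm
    have hfq : m₀.mulVec (q.val.mulVec v) = q.val.mulVec v := by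
      rw [Matrix.mulVec_mulVec, hm₀, ← Units.val_mul, hcomm, Units.val_mul,
        ← Matrix.mulVec_mulVec, ← hm₀, hm₀v]
    obtain ⟨s, hs⟩ := hfix _ hfq
    obtain ⟨j, hj⟩ := hQ ⟨q, hq⟩
    have hj' : q ^ (p ^ j) = 1 := by
      have := congrArg (fun x : Q => (x : GL (Fin 2) F)) hj
      simpa using this
    have hpow := pow_mulVec_of_mulVec q hs (p ^ j)
    rw [hj', Units.val_one, Matrix.one_mulVec] at hpow
    have hs1 : s ^ (p ^ j) = 1 := by
      by_contra hne
      apply hv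
      have : (1 - s ^ (p ^ j)) • v = 0 := by rw [sub_smul, one_smul, ← hpow, sub_self]
      rcases smul_eq_zero.1 this with h | h
      · exact absurd (sub_eq_zero.1 h).symm hne
      · exact h
    have hs2 : (s - 1) ^ (p ^ j) = 0 := by
      rw [sub_pow_char_pow, hs1, one_pow, sub_self]
    have hs3 : s = 1 :=
      sub_eq_zero.1 (pow_eq_zero_iff (pow_ne_zero _ (Fact.out : p.Prime).ne_zero) |>.1 hs2)
    rw [hs, hs3, one_smul]
  refine ⟨v, hv, ?_⟩
  intro x hx
  rw [mem_lineStab]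
  apply fun h => (hfix _ h).imp (fun s hs => hs)
  have hq' : x⁻¹ * (q₀ : GL (Fin 2) F) * x ∈ Q := by
    have := hXQ x⁻¹ (X.inv_mem hx) q₀ q₀.2
    rwa [inv_inv] at this
  have h1 := hQv _ hq'
  -- m₀ (x v) = x (x⁻¹ q₀ x) v
  have : m₀.mulVec (x.val.mulVec v) = x.val.mulVec ((x⁻¹ * (q₀ : GL (Fin 2) F) * x).val.mulVec v) := by
    rw [Matrix.mulVec_mulVec, Matrix.mulVec_mulVec, hm₀, ← Units.val_mul, ← Units.val_mul]
    congr 2
    group
  rw [this, h1]

end Cfsg.Agent.Lib.Helper32.GL2
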