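import Cfsg.Agent.Lib.Helper37.GtDefs

/-! # Gt hive (S2734, helper37), leaf GT-HDIAG-c (helper32) -/

set_option autoImplicit false
namespace Cfsg.Agent.Lib.Helper37.Gt
open Matrix Module QuadraticMap
open Cfsg.Agent.Lib.Helper8 Cfsg.Agent.Lib.Helper13 Cfsg.Agent.Lib.Helper37 Cfsg.Agent.Lib.Helper37.D4O8
variable {F : Type*} [Field F]

theorem hdiagc_neg8 : Cfsg.Lie.chevG2.neg 8 = 3 := by decide

theorem hdiagc_8 (t : F) (ht : t ≠ 0) (x : I8 → F) :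
    act (Q8 F) (wprodY (Cfsg.Lie.chevG2.hWord 8 t)) x =
      mk8 (t * ca1 x) (t * t * ca2 x) (t⁻¹ * ca3 x) (ca4 x)
        ((t)⁻¹ * cb1 x) ((t * t)⁻¹ * cb2 x) ((t⁻¹)⁻¹ * cb3 x) (cb4 x) := by
  unfold wprodY Cfsg.Lie.ChevalleyDatum.hWord Cfsg.Lie.ChevalleyDatum.nWord
  rw [hdiagc_neg8]
  simp only [List.map_cons, List.map_nil, List.prod_cons, List.prod_nil, mul_one, List.cons_append, List.nil_append]
  simp only [Yn_8, Yn_3]
  simp only [act_mul]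
  simp only [act_X4, act_X7, act_X8, act_X15, act_X16, act_X19]
  apply ext8 <;> simp <;> field_simp <;> ring

theorem hdiagc_neg9 : Cfsg.Lie.chevG2.neg 9 = 2 := by decide

theorem hdiagc_9 (t : F) (ht : t ≠ 0) (x : I8 → F) :
    act (Q8 F) (wprodY (Cfsg.Lie.chevG2.hWord 9 t)) x =
      mk8 (t * t * ca1 x) (t * ca2 x) (t * ca3 x) (ca4 x)
        ((t * t)⁻¹ * cb1 x) ((t)⁻¹ * cb2 x) ((t)⁻¹ * cb3 x) (cb4 x) := by
  unfold wprodY Cfsg.Lie.ChevalleyDatum.hWord Cfsg.Lie.ChevalleyDatum.nWord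
  rw [hdiagc_neg9]
  simp only [List.map_cons, List.map_nil, List.prod_cons, List.prod_nil, mul_one, List.cons_append, List.nil_append]
  simp only [Yn_9, Yn_2]
  simp only [act_mul]
  simp only [act_X2, act_X3, act_X6, act_X17, act_X20, act_X21]
  apply ext8 <;> simp <;> field_simp <;> ring

theorem hdiagc_neg10 : Cfsg.Lie.chevG2.neg 10 = 1 := by decide

theorem hdiagc_10 (t : F) (ht : t ≠ 0) (x : I8 → F) :
    act (Q8 F) (wprodY (Cfsg.Lie.chevG2.hWord 10 t)) x =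
      mk8 (t * ca1 x) (1 * ca2 x) (t * ca3 x) (ca4 x)
        ((t)⁻¹ * cb1 x) ((1)⁻¹ * cb2 x) ((t)⁻¹ * cb3 x) (cb4 x) := by
  unfold wprodY Cfsg.Lie.ChevalleyDatum.hWord Cfsg.Lie.ChevalleyDatum.nWord
  rw [hdiagc_neg10]
  simp only [List.map_cons, List.map_nil, List.prod_cons, List.prod_nil, mul_one, List.cons_append, List.nil_append]
  simp only [Yn_10, Yn_1]
  simp only [act_mul]
  simp only [act_X1, act_X22]
  apply ext8 <;> simp <;> field_simp <;> ring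

theorem hdiagc_neg11 : Cfsg.Lie.chevG2.neg 11 = 0 := by decide

theorem hdiagc_11 (t : F) (ht : t ≠ 0) (x : I8 → F) :
    act (Q8 F) (wprodY (Cfsg.Lie.chevG2.hWord 11 t)) x =
      mk8 (t * ca1 x) (t * ca2 x) (1 * ca3 x) (ca4 x)
        ((t)⁻¹ * cb1 x) ((t)⁻¹ * cb2 x) ((1)⁻¹ * cb3 x) (cb4 x) := by
  unfold wprodY Cfsg.Lie.ChevalleyDatum.hWord Cfsg.Lie.ChevalleyDatum.nWord
  rw [hdiagc_neg11]
  simp only [List.map_cons, List.map_nil, List.prod_cons, List.prod_nil, mul_one, List.cons_append, List.nil_append]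
  simp only [Yn_11, Yn_0]
  simp only [act_mul]
  simp only [act_X0, act_X23]
  apply ext8 <;> simp <;> field_simp <;> ring

/-- GT-HDIAG-c. -/
theorem act_HY_c (s : Fin 12) (hs : 8 ≤ s.val) (t : F) (ht : t ≠ 0) (x : I8 → F) :
    act (Q8 F) (wprodY (Cfsg.Lie.chevG2.hWord (s : ℕ) t)) x =
      mk8 (hb1 s t * ca1 x) (hb2 s t * ca2 x) (hb3 s t * ca3 x) (ca4 x)
        ((hb1 s t)⁻¹ * cb1 x) ((hb2 s t)⁻¹ * cb2 x) ((hb3 s t)⁻¹ * cb3 x) (cb4 x) := by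
  fin_cases s <;> simp at hs
  · exact hdiagc_8 t ht x
  · exact hdiagc_9 t ht x
  · exact hdiagc_10 t ht x
  · exact hdiagc_11 t ht x

end Cfsg.Agent.Lib.Helper37.Gt
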