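import Mathlib

set_option autoImplicit false

namespace Cfsg.Agent.Lib.Helper32.GL2

open Matrix

variable {F : Type*} [Field F]

/-- Cayley–Hamilton for `2 × 2` matrices. -/
theorem cayley_hamilton (m : Matrix (Fin 2) (Fin 2) F) :
    m * m = m.trace • m - m.det • (1 : Matrix (Fin 2) (Fin 2) F) := by
  ext i j
  fin_cases i <;> fin_cases j <;>
    simp [Matrix.mul_apply, Fin.sum_univ_two, Matrix.trace_fin_two, Matrix.det_fin_two] <;> ring

/-- the "determinant" of two vectors -/
def dt (v w : Fin 2 → F) : F := v 0 * w 1 - v 1 * w 0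

theorem dt_ne_zero_of_not_smul {v w : Fin 2 → F} (hv : v ≠ 0) (hw : ∀ a : F, w ≠ a • v) :
    dt v w ≠ 0 := by
  intro h
  unfold dt at h
  by_cases h0 : v 0 = 0
  · have h1 : v 1 ≠ 0 := by
      intro h1
      apply hv
      ext i; fin_cases i <;> simp [h0, h1]
    rw [h0, zero_mul, zero_sub, neg_eq_zero] at h
    have hw0 : w 0 = 0 := by
      rcases mul_eq_zero.1 h with h | h
      · exact absurd h h1
      · exact h
    apply hw (w 1 / v 1)
    ext i; fin_cases i
    · simp [h0, hw0]
    · simp [h1]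
  · apply hw (w 0 / v 0)
    ext i; fin_cases i
    · simp [h0]
    · simp only [Fin.mk_one, Fin.isValue, Pi.smul_apply, smul_eq_mul]
      field_simp
      linear_combination h

/-- a matrix killing two independent vectors is zero -/
theorem eq_zero_of_mulVec_eq_zero {f : Matrix (Fin 2) (Fin 2) F} {v w : Fin 2 → F}
    (hd : dt v w ≠ 0) (hv : f.mulVec v = 0) (hw : f.mulVec w = 0) : f = 0 := by
  unfold dt at hd
  have hv0 := congrFun hv 0
  have hv1 := congrFun hv 1
  have hw0 := congrFun hw 0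
  have hw1 := congrFun hw 1
  simp only [Matrix.mulVec, dotProduct, Fin.sum_univ_two, Pi.zero_apply] at hv0 hv1 hw0 hw1
  ext i j
  fin_cases i <;> fin_cases j <;> simp only [Fin.zero_eta, Fin.mk_one, Fin.isValue, Matrix.zero_apply]
  · have : f 0 0 * (v 0 * w 1 - v 1 * w 0) = 0 := by linear_combination w 1 * hv0 - v 1 * hw0
    exact (mul_eq_zero.1 this).resolve_right hd
  · have : f 0 1 * (v 0 * w 1 - v 1 * w 0) = 0 := by linear_combination v 0 * hw0 - w 0 * hv0
    exact (mul_eq_zero.1 this).resolve_right hd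
  · have : f 1 0 * (v 0 * w 1 - v 1 * w 0) = 0 := by linear_combination w 1 * hv1 - v 1 * hw1
    exact (mul_eq_zero.1 this).resolve_right hd
  · have : f 1 1 * (v 0 * w 1 - v 1 * w 0) = 0 := by linear_combination v 0 * hw1 - w 0 * hv1
    exact (mul_eq_zero.1 this).resolve_right hd


/-- `a` is a root of the characteristic polynomial iff there is an eigenvector -/
theorem exists_eig_iff (m : Matrix (Fin 2) (Fin 2) F) (a : F) :
    (∃ v : Fin 2 → F, v ≠ 0 ∧ m.mulVec v = a • v) ↔ a * a - m.trace * a + m.det = 0 := by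
  have hdet : (m - a • (1 : Matrix (Fin 2) (Fin 2) F)).det = a * a - m.trace * a + m.det := by
    simp [Matrix.det_fin_two, Matrix.trace_fin_two]; ring
  rw [← hdet, ← Matrix.exists_mulVec_eq_zero_iff]
  constructor
  · rintro ⟨v, hv, h⟩
    refine ⟨v, hv, ?_⟩
    rw [Matrix.sub_mulVec, h, Matrix.smul_mulVec, Matrix.one_mulVec, sub_self]
  · rintro ⟨v, hv, h⟩
    refine ⟨v, hv, ?_⟩
    rw [Matrix.sub_mulVec, Matrix.smul_mulVec, Matrix.one_mulVec, sub_eq_zero] at h
    exact h

/-- no eigenvector -/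
def NoEig (m : Matrix (Fin 2) (Fin 2) F) : Prop :=
  ∀ v : Fin 2 → F, v ≠ 0 → ∀ a : F, m.mulVec v ≠ a • v

theorem NoEig.dt_ne_zero {m : Matrix (Fin 2) (Fin 2) F} (h : NoEig m) {v : Fin 2 → F}
    (hv : v ≠ 0) : dt v (m.mulVec v) ≠ 0 :=
  dt_ne_zero_of_not_smul hv (fun a => h v hv a)

/-- Schur: something commuting with a matrix without eigenvectors is zero or invertible. -/
theorem NoEig.eq_zero_or_det_ne_zero {m f : Matrix (Fin 2) (Fin 2) F} (h : NoEig m)
    (hc : f * m = m * f) : f = 0 ∨ f.det ≠ 0 := by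
  by_cases hd : f.det = 0
  · left
    obtain ⟨u, hu, hfu⟩ := (Matrix.exists_mulVec_eq_zero_iff).2 hd
    apply eq_zero_of_mulVec_eq_zero (h.dt_ne_zero hu) hfu
    rw [Matrix.mulVec_mulVec, hc, ← Matrix.mulVec_mulVec, hfu, Matrix.mulVec_zero]
  · right; exact hd

/-- a commuting matrix with the same trace and determinant -/
theorem NoEig.eq_or_eq {m m₁ : Matrix (Fin 2) (Fin 2) F} (h : NoEig m)
    (hc : m₁ * m = m * m₁) (ht : m₁.trace = m.trace) (hd : m₁.det = m.det) :
    m₁ = m ∨ m₁ = m.trace • (1 : Matrix (Fin 2) (Fin 2) F) - m := by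
  have h1 := cayley_hamilton m
  have h2 := cayley_hamilton m₁
  rw [ht, hd] at h2
  have hprod : (m₁ - m) * (m₁ + m - m.trace • (1 : Matrix (Fin 2) (Fin 2) F)) = 0 := by
    have : (m₁ - m) * (m₁ + m - m.trace • (1 : Matrix (Fin 2) (Fin 2) F)) =
        m₁ * m₁ - m * m + (m₁ * m - m * m₁) - m.trace • m₁ + m.trace • m := by
      simp only [sub_mul, mul_sub, mul_add, Matrix.mul_smul, Matrix.mul_one]
      abel
    rw [this, h1, h2, hc]
    abel
  have hcf : (m₁ - m) * m = m * (m₁ - m) := by rw [sub_mul, mul_sub, hc]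
  rcases h.eq_zero_or_det_ne_zero hcf with h0 | h0
  · left; exact sub_eq_zero.1 h0
  · right
    have hunit : IsUnit (m₁ - m).det := isUnit_iff_ne_zero.2 h0
    have := congrArg (fun x => (m₁ - m)⁻¹ * x) hprod
    simp only [mul_zero] at this
    rw [← mul_assoc, Matrix.nonsing_inv_mul _ hunit, one_mul] at this
    have h3 : m₁ = m.trace • (1 : Matrix (Fin 2) (Fin 2) F) - m := by
      rw [eq_sub_iff_add_eq]
      exact sub_eq_zero.1 this
    exact h3

theorem exists_coord {v w : Fin 2 → F} (hd : dt v w ≠ 0) (u : Fin 2 → F) :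
    ∃ α β : F, u = α • v + β • w := by
  refine ⟨dt u w / dt v w, dt v u / dt v w, ?_⟩
  ext i; fin_cases i
  · simp only [Fin.zero_eta, Fin.isValue, Pi.add_apply, Pi.smul_apply, smul_eq_mul]
    rw [div_mul_eq_mul_div, div_mul_eq_mul_div, ← add_div, eq_div_iff hd]
    unfold dt
    ring
  · simp only [Fin.mk_one, Fin.isValue, Pi.add_apply, Pi.smul_apply, smul_eq_mul]
    rw [div_mul_eq_mul_div, div_mul_eq_mul_div, ← add_div, eq_div_iff hd]
    unfold dt
    ring

/-- the centralizer of a matrix without eigenvectors consists of polynomials in it -/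
theorem NoEig.exists_eq_add {m g : Matrix (Fin 2) (Fin 2) F} (h : NoEig m)
    (hc : g * m = m * g) : ∃ α β : F, g = α • (1 : Matrix (Fin 2) (Fin 2) F) + β • m := by
  have hv : (![1, 0] : Fin 2 → F) ≠ 0 := by
    intro h0; have := congrFun h0 0; simp at this
  obtain ⟨α, β, hαβ⟩ := exists_coord (h.dt_ne_zero hv) (g.mulVec ![1, 0])
  refine ⟨α, β, ?_⟩
  have hf : (g - (α • (1 : Matrix (Fin 2) (Fin 2) F) + β • m)) * m =
      m * (g - (α • (1 : Matrix (Fin 2) (Fin 2) F) + β • m)) := by
    simp only [sub_mul, mul_sub, add_mul, mul_add, Matrix.smul_mul, Matrix.mul_smul,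
      Matrix.one_mul, Matrix.mul_one, hc]
  have hfv : (g - (α • (1 : Matrix (Fin 2) (Fin 2) F) + β • m)).mulVec ![1, 0] = 0 := by
    rw [Matrix.sub_mulVec, Matrix.add_mulVec, Matrix.smul_mulVec, Matrix.smul_mulVec,
      Matrix.one_mulVec, hαβ, sub_self]
  have := eq_zero_of_mulVec_eq_zero (h.dt_ne_zero hv) hfv
    (by rw [Matrix.mulVec_mulVec, hf, ← Matrix.mulVec_mulVec, hfv, Matrix.mulVec_zero])
  exact sub_eq_zero.1 this

theorem NoEig.commute {m g h' : Matrix (Fin 2) (Fin 2) F} (h : NoEig m)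
    (hg : g * m = m * g) (hh : h' * m = m * h') : g * h' = h' * g := by
  obtain ⟨α, β, rfl⟩ := h.exists_eq_add hg
  obtain ⟨γ, δ, rfl⟩ := h.exists_eq_add hh
  simp only [add_mul, mul_add, Matrix.smul_mul, Matrix.mul_smul, Matrix.one_mul, Matrix.mul_one,
    smul_smul]
  rw [mul_comm α γ, mul_comm β δ, mul_comm α δ, mul_comm β γ]
  abel


theorem exists_smul_of_dt_eq_zero {v w : Fin 2 → F} (hv : v ≠ 0) (h : dt v w = 0) :
    ∃ a : F, w = a • v := by
  by_contra hne
  push Not at hne
  exact dt_ne_zero_of_not_smul hv hne h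

theorem add_pow_of_sq_zero (a : F) (N : Matrix (Fin 2) (Fin 2) F) (hN : N * N = 0) (k : ℕ) :
    (a • (1 : Matrix (Fin 2) (Fin 2) F) + N) ^ k =
      a ^ k • (1 : Matrix (Fin 2) (Fin 2) F) + ((k : F) * a ^ (k - 1)) • N := by
  induction k with
  | zero => simp
  | succ k ih =>
    rw [pow_succ, ih]
    simp only [add_mul, mul_add, Matrix.smul_mul, Matrix.mul_smul, Matrix.one_mul, Matrix.mul_one,
      smul_smul, hN, smul_zero, add_zero]
    rw [Nat.add_sub_cancel]
    have e1 : a * a ^ k = a ^ (k + 1) := by ring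
    have e2 : a * ((k : F) * a ^ (k - 1)) + a ^ k = ((k + 1 : ℕ) : F) * a ^ k := by
      rcases Nat.eq_zero_or_pos k with h0 | h0
      · subst h0; simp
      · have : a * a ^ (k - 1) = a ^ k := by
          rw [← pow_succ', Nat.sub_add_cancel h0]
        push_cast
        linear_combination (k : F) * this
    rw [e1, add_assoc, ← add_smul, e2]

/-- a matrix of order prime to the characteristic with a double eigenvalue is scalar -/
theorem eq_smul_one_of_pow_eq_one {m : Matrix (Fin 2) (Fin 2) F} {k : ℕ} (hk : (k : F) ≠ 0)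
    (hm : m ^ k = 1) {a : F} {v : Fin 2 → F} (hv : v ≠ 0) (hmv : m.mulVec v = a • v)
    (htr : m.trace = a + a) : m = a • (1 : Matrix (Fin 2) (Fin 2) F) := by
  have hroot := (exists_eig_iff m a).1 ⟨v, hv, hmv⟩
  have hdet : m.det = a * a := by rw [htr] at hroot; linear_combination hroot
  set N := m - a • (1 : Matrix (Fin 2) (Fin 2) F) with hN
  have hNN : N * N = 0 := by
    have h1 := cayley_hamilton m
    rw [htr, hdet] at h1
    have : N * N = m * m - (a + a) • m + (a * a) • (1 : Matrix (Fin 2) (Fin 2) F) := by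
      rw [hN]
      simp only [sub_mul, mul_sub, Matrix.smul_mul, Matrix.mul_smul, Matrix.one_mul,
        Matrix.mul_one, smul_smul, add_smul]
      abel
    rw [this, h1]
    abel
  have hmN : m = a • (1 : Matrix (Fin 2) (Fin 2) F) + N := by rw [hN]; abel
  have hNv : N.mulVec v = 0 := by
    rw [hN, Matrix.sub_mulVec, hmv, Matrix.smul_mulVec, Matrix.one_mulVec, sub_self]
  have hpow := add_pow_of_sq_zero a N hNN k
  rw [← hmN, hm] at hpow
  -- apply to v
  have hv1 := congrArg (fun x : Matrix (Fin 2) (Fin 2) F => x.mulVec v) hpow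
  simp only [Matrix.one_mulVec, Matrix.add_mulVec, Matrix.smul_mulVec, hNv, smul_zero,
    add_zero] at hv1
  have hak : a ^ k = 1 := by
    by_contra hne
    apply hv
    have : (1 - a ^ k) • v = 0 := by rw [sub_smul, one_smul, ← hv1, sub_self]
    rcases smul_eq_zero.1 this with h | h
    · exact absurd (sub_eq_zero.1 h).symm hne
    · exact h
  have hk0 : k ≠ 0 := by rintro rfl; simp at hk
  have ha0 : a ≠ 0 := by
    rintro rfl
    rw [zero_pow hk0] at hak
    exact zero_ne_one hak
  rw [hak] at hpow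
  have hN0 : ((k : F) * a ^ (k - 1)) • N = 0 := by
    have := hpow
    rw [one_smul] at this
    exact (add_eq_left.1 this.symm)
  have : N = 0 := by
    rcases smul_eq_zero.1 hN0 with h | h
    · exact absurd h (mul_ne_zero hk (pow_ne_zero _ ha0))
    · exact h
  rw [hmN, this, add_zero]

/-- a matrix with an eigenvalue `a` which is not a double eigenvalue -/
theorem eig_cases {m : Matrix (Fin 2) (Fin 2) F} {a : F} {v : Fin 2 → F} (hv : v ≠ 0)
    (hmv : m.mulVec v = a • v) (hab : m.trace - a ≠ a) :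
    ∃ w : Fin 2 → F, w ≠ 0 ∧ m.mulVec w = (m.trace - a) • w ∧ dt v w ≠ 0 ∧
      ∀ u : Fin 2 → F, u ≠ 0 → ∀ c : F, m.mulVec u = c • u →
        (c = a ∧ ∃ s : F, u = s • v) ∨ (c = m.trace - a ∧ ∃ s : F, u = s • w) := by
  have hroot := (exists_eig_iff m a).1 ⟨v, hv, hmv⟩
  have hrootb : (m.trace - a) * (m.trace - a) - m.trace * (m.trace - a) + m.det = 0 := by
    linear_combination hroot
  obtain ⟨w, hw, hmw⟩ := (exists_eig_iff m (m.trace - a)).2 hrootb
  have hnotscalar : ∀ c : F, m ≠ c • (1 : Matrix (Fin 2) (Fin 2) F) := by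
    rintro c rfl
    apply hab
    have h1 : c = a := by
      rw [Matrix.smul_mulVec, Matrix.one_mulVec] at hmv
      by_contra hne
      apply hv
      have : (c - a) • v = 0 := by rw [sub_smul, hmv, sub_self]
      rcases smul_eq_zero.1 this with h | h
      · exact absurd (sub_eq_zero.1 h) hne
      · exact h
    subst h1
    simp
    ring
  -- an eigenvector with eigenvalue c proportional to an eigenvector with the same eigenvalue
  have hprop : ∀ (c : F) (x y : Fin 2 → F), x ≠ 0 → m.mulVec x = c • x → m.mulVec y = c • y →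
      ∃ s : F, y = s • x := by
    intro c x y hx hmx hmy
    apply exists_smul_of_dt_eq_zero hx
    by_contra hd
    apply hnotscalar c
    have := eq_zero_of_mulVec_eq_zero (f := m - c • (1 : Matrix (Fin 2) (Fin 2) F)) hd
      (by rw [Matrix.sub_mulVec, hmx, Matrix.smul_mulVec, Matrix.one_mulVec, sub_self])
      (by rw [Matrix.sub_mulVec, hmy, Matrix.smul_mulVec, Matrix.one_mulVec, sub_self])
    exact sub_eq_zero.1 this
  refine ⟨w, hw, hmw, ?_, ?_⟩
  · intro hd
    obtain ⟨s, rfl⟩ := exists_smul_of_dt_eq_zero hv hd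
    rw [Matrix.mulVec_smul, hmv, smul_smul, smul_smul] at hmw
    have hs : s ≠ 0 := by rintro rfl; simp at hw
    have : (s * a - (m.trace - a) * s) • v = 0 := by rw [sub_smul, hmw, sub_self]
    rcases smul_eq_zero.1 this with h | h
    · apply hab
      have h' : s * (a - (m.trace - a)) = 0 := by linear_combination h
      rcases mul_eq_zero.1 h' with h'' | h''
      · exact absurd h'' hs
      · exact (sub_eq_zero.1 h'').symm
    · exact hv h
  · intro u hu c hmu
    have hrootc := (exists_eig_iff m c).1 ⟨u, hu, hmu⟩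
    have hfac : (c - a) * (c - (m.trace - a)) = 0 := by linear_combination hrootc - hroot
    rcases mul_eq_zero.1 hfac with h | h
    · left
      have hca : c = a := sub_eq_zero.1 h
      subst hca
      exact ⟨rfl, hprop c v u hv hmv hmu⟩
    · right
      have hcb : c = m.trace - a := sub_eq_zero.1 h
      refine ⟨hcb, ?_⟩
      rw [hcb] at hmu
      exact hprop _ w u hw hmw hmu

end Cfsg.Agent.Lib.Helper32.GL2
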