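import Mathlib
import Cfsg.Prelude.Def_CaseTheorems
import Cfsg.Agent.Lib.Helper32.PGroupCenter

/-!
# N57 mini-hive (S1957, owner helper84): leaf N57-NORM, core part (leaf `omega` as a hypothesis).
-/

set_option autoImplicit false
open Cfsg

namespace Cfsg.Agent.Lib.Helper84.N57

variable {G : Type*} [Group G] [Finite G]

/-- two elements of `P` outside `C(U)` have their product in `C(U)`. -/
theorem n57norm_xor (P U : Subgroup G) (hP : IsPGroup 2 ↥P) (hUP : U ≤ P)
    (hUn : P ≤ Subgroup.normalizer (U : Set G)) (hU4 : IsKleinFour ↥U)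
    (hnc : ¬ U ≤ Subgroup.centralizer (P : Set G)) :
    (∃ t ∈ P, t ∉ Subgroup.centralizer (U : Set G)) ∧
      ∀ x ∈ P, ∀ y ∈ P, x ∉ Subgroup.centralizer (U : Set G) →
        y ∉ Subgroup.centralizer (U : Set G) → x * y ∈ Subgroup.centralizer (U : Set G) := by
  classical
  haveI := hU4
  haveI : Fact (Nat.Prime 2) := ⟨Nat.prime_two⟩
  have hUne : U.subgroupOf P ≠ ⊥ := by
    intro h
    rw [Subgroup.subgroupOf_eq_bot] at h
    have hU : U = ⊥ := h.eq_bot_of_le hUP
    apply hnc
    rw [hU]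
    exact bot_le
  haveI : (U.subgroupOf P).Normal := Subgroup.normal_subgroupOf_of_le_normalizer hUn
  obtain ⟨x, hxU, hxZ, hx1⟩ :=
    Cfsg.Agent.Lib.Helper32.exists_ne_one_mem_normal_inf_center hP (U.subgroupOf P) hUne
  have hzU : (x : G) ∈ U := Subgroup.mem_subgroupOf.1 hxU
  have hz1 : (x : G) ≠ 1 := fun h => hx1 (Subtype.ext h)
  have hzc : ∀ g ∈ P, g * (x : G) = (x : G) * g := by
    intro g hg
    have := Subgroup.mem_center_iff.1 hxZ ⟨g, hg⟩
    exact congrArg Subtype.val this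
  obtain ⟨a, haU, hac⟩ := SetLike.not_le_iff_exists.1 hnc
  have hconjU : ∀ g ∈ P, ∀ u ∈ U, g * u * g⁻¹ ∈ U :=
    fun g hg u hu => (Subgroup.mem_normalizer_iff.1 (hUn hg) u).1 hu
  have ha1 : a ≠ 1 := by
    rintro rfl
    exact hac (one_mem _)
  have haz : (x : G) ≠ a := by
    intro h
    apply hac
    rw [← h, Subgroup.mem_centralizer_iff]
    intro g hg
    exact hzc g hg
  have hzz : (x : G) * (x : G) = 1 := by
    have := IsKleinFour.mul_self (⟨(x : G), hzU⟩ : ↥U)
    exact congrArg Subtype.val this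
  have hUel : ∀ u ∈ U, u = (x : G) * a ∨ u = (x : G) ∨ u = a ∨ u = 1 := by
    intro u hu
    haveI : Fintype ↥U := Fintype.ofFinite _
    have hfin := IsKleinFour.eq_finset_univ (G := ↥U) (x := ⟨(x : G), hzU⟩) (y := ⟨a, haU⟩)
      (fun h => hz1 (congrArg Subtype.val h)) (fun h => ha1 (congrArg Subtype.val h))
      (fun h => haz (congrArg Subtype.val h))
    have hmem : (⟨u, hu⟩ : ↥U) ∈ (Finset.univ : Finset ↥U) := Finset.mem_univ _
    rw [← hfin] at hmem
    simp only [Finset.mem_insert, Finset.mem_singleton, Subtype.ext_iff, Subgroup.coe_mul,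
      Subgroup.coe_one] at hmem
    exact hmem
  -- an element of `P` commuting with `a` centralizes `U`
  have hcent : ∀ g ∈ P, g * a = a * g → g ∈ Subgroup.centralizer (U : Set G) := by
    intro g hg hga
    rw [Subgroup.mem_centralizer_iff]
    intro u hu
    have hgz := hzc g hg
    rcases hUel u hu with rfl | rfl | rfl | rfl
    · rw [mul_assoc, ← hga, ← mul_assoc, ← hgz, mul_assoc]
    · exact hgz.symm
    · exact hga.symm
    · simp
  -- an element of `P` not centralizing `U` maps `a` to `z a`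
  have hmove : ∀ g ∈ P, g ∉ Subgroup.centralizer (U : Set G) → g * a * g⁻¹ = (x : G) * a := by
    intro g hg hgc
    have hgaU := hconjU g hg a haU
    rcases hUel _ hgaU with h | h | h | h
    · exact h
    · exfalso
      -- `g a g⁻¹ = z` gives `a = z`
      apply haz
      have : a = g⁻¹ * (g * a * g⁻¹) * g := by group
      rw [this, h]
      have := hzc g⁻¹ (P.inv_mem hg)
      rw [this]
      group
    · exfalso
      apply hgc
      apply hcent g hg
      have : g * a = (g * a * g⁻¹) * g := by group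
      rw [this, h]
    · exfalso
      apply ha1
      have : a = g⁻¹ * (g * a * g⁻¹) * g := by group
      rw [this, h]
      group
  refine ⟨?_, ?_⟩
  · rw [Subgroup.mem_centralizer_iff] at hac
    push Not at hac
    obtain ⟨t, ht, hta⟩ := hac
    refine ⟨t, ht, ?_⟩
    intro htc
    apply hta
    have := Subgroup.mem_centralizer_iff.1 htc a haU
    exact this.symm
  · intro g hg y hy hgc hyc
    apply hcent (g * y) (P.mul_mem hg hy)
    have h1 := hmove g hg hgc
    have h2 := hmove y hy hyc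
    -- `(g y) a (g y)⁻¹ = g (z a) g⁻¹ = z (z a) = a`
    have h3 : g * y * a * (g * y)⁻¹ = a := by
      have : g * y * a * (g * y)⁻¹ = g * (y * a * y⁻¹) * g⁻¹ := by group
      rw [this, h2]
      have : g * ((x : G) * a) * g⁻¹ = (g * (x : G) * g⁻¹) * (g * a * g⁻¹) := by group
      rw [this, h1, hzc g hg]
      have : (x : G) * g * g⁻¹ * ((x : G) * a) = ((x : G) * (x : G)) * a := by group
      rw [this, hzz, one_mul]
    have : g * y * a = (g * y * a * (g * y)⁻¹) * (g * y) := by group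
    rw [this, h3]

theorem n57norm_index_two (P U : Subgroup G) (hP : IsPGroup 2 ↥P) (hUP : U ≤ P)
    (hUn : P ≤ Subgroup.normalizer (U : Set G)) (hU4 : IsKleinFour ↥U)
    (hnc : ¬ U ≤ Subgroup.centralizer (P : Set G)) :
    ((P ⊓ Subgroup.centralizer (U : Set G)).subgroupOf P).index = 2 := by
  obtain ⟨⟨t, ht, htc⟩, hxy⟩ := n57norm_xor P U hP hUP hUn hU4 hnc
  rw [Subgroup.index_eq_two_iff]
  refine ⟨⟨t, ht⟩, ?_⟩
  intro b
  by_cases hb : (b : G) ∈ Subgroup.centralizer (U : Set G)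
  · right
    refine ⟨Subgroup.mem_subgroupOf.2 ⟨b.2, hb⟩, ?_⟩
    intro h
    have h' : (b : G) * t ∈ Subgroup.centralizer (U : Set G) := (Subgroup.mem_subgroupOf.1 h).2
    apply htc
    have : t = (b : G)⁻¹ * ((b : G) * t) := by group
    rw [this]
    exact Subgroup.mul_mem _ (Subgroup.inv_mem _ hb) h'
  · left
    refine ⟨Subgroup.mem_subgroupOf.2 ⟨P.mul_mem b.2 ht, hxy b b.2 t ht hb htc⟩, ?_⟩
    intro h
    exact hb (Subgroup.mem_subgroupOf.1 h).2

omit [Finite G] in
theorem n57norm_card_relIndex {H K : Subgroup G} (h : H ≤ K) :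
    Nat.card ↥H * H.relIndex K = Nat.card ↥K := by
  have h1 := Subgroup.card_mul_index (H.subgroupOf K)
  have h2 : Nat.card ↥(H.subgroupOf K) = Nat.card ↥H :=
    Nat.card_congr (Subgroup.subgroupOfEquivOfLe h).toEquiv
  rw [h2] at h1
  exact h1

omit [Finite G] in
theorem n57norm_normal {H R : Subgroup G} (hHR : H ≤ R) (hidx : H.relIndex R ∣ 2) :
    ∀ r ∈ R, ∀ x ∈ H, r * x * r⁻¹ ∈ H := by
  intro r hr x hx
  rcases (Nat.dvd_prime Nat.prime_two).1 hidx with h | h
  · have htop : H.subgroupOf R = ⊤ := Subgroup.index_eq_one.1 h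
    rw [Subgroup.subgroupOf_eq_top] at htop
    exact htop (R.mul_mem (R.mul_mem hr (hHR hx)) (R.inv_mem hr))
  · haveI : (H.subgroupOf R).Normal := Subgroup.normal_of_index_eq_two h
    have hmem : (⟨x, hHR hx⟩ : ↥R) ∈ H.subgroupOf R := Subgroup.mem_subgroupOf.2 hx
    have := Subgroup.Normal.conj_mem ‹(H.subgroupOf R).Normal› _ hmem ⟨r, hr⟩
    exact Subgroup.mem_subgroupOf.1 this

/-- N57-NORM with the leaf `omega` as a hypothesis. -/
theorem n57norm_core (P : Sylow 2 G) (U : Subgroup G) (hUP : U ≤ (P : Subgroup G))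
    (hUn : (P : Subgroup G) ≤ Subgroup.normalizer (U : Set G)) (hU4 : IsKleinFour ↥U)
    (hnc : ¬ U ≤ Subgroup.centralizer ((P : Subgroup G) : Set G))
    (homega : ∀ w ∈ (P : Subgroup G) ⊓ Subgroup.centralizer (U : Set G),
      (∀ y ∈ (P : Subgroup G) ⊓ Subgroup.centralizer (U : Set G), w * y = y * w) →
        w * w = 1 → w ∈ U)
    (R : Subgroup G) (hR : IsPGroup 2 ↥R)
    (hPR : (P : Subgroup G) ⊓ Subgroup.centralizer (U : Set G) ≤ R) :
    R ≤ Subgroup.normalizer (U : Set G) := by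
  haveI : Fact (Nat.Prime 2) := ⟨Nat.prime_two⟩
  haveI := hU4
  obtain ⟨Q, hRQ⟩ := hR.exists_le_sylow
  have hidx := n57norm_index_two (P : Subgroup G) U P.isPGroup' hUP hUn hU4 hnc
  have h1 : Nat.card ↥((P : Subgroup G) ⊓ Subgroup.centralizer (U : Set G)) * 2 =
      Nat.card ↥(P : Subgroup G) := by
    have := n57norm_card_relIndex
      (inf_le_left : (P : Subgroup G) ⊓ Subgroup.centralizer (U : Set G) ≤ (P : Subgroup G))
    rwa [Subgroup.relIndex, hidx] at this
  have h2 := n57norm_card_relIndex (hPR.trans hRQ)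
  have h3 : Nat.card ↥(Q : Subgroup G) = Nat.card ↥(P : Subgroup G) := by
    rw [Sylow.card_eq_multiplicity, Sylow.card_eq_multiplicity]
  have h4 : ((P : Subgroup G) ⊓ Subgroup.centralizer (U : Set G)).relIndex (Q : Subgroup G) = 2 := by
    have hpos : 0 < Nat.card ↥((P : Subgroup G) ⊓ Subgroup.centralizer (U : Set G)) := Nat.card_pos
    have : Nat.card ↥((P : Subgroup G) ⊓ Subgroup.centralizer (U : Set G)) *
        ((P : Subgroup G) ⊓ Subgroup.centralizer (U : Set G)).relIndex (Q : Subgroup G) =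
        Nat.card ↥((P : Subgroup G) ⊓ Subgroup.centralizer (U : Set G)) * 2 := by
      rw [h2, h3, h1]
    exact Nat.eq_of_mul_eq_mul_left hpos this
  have h5 : ((P : Subgroup G) ⊓ Subgroup.centralizer (U : Set G)).relIndex R ∣ 2 := by
    have := Subgroup.relIndex_mul_relIndex _ _ _ hPR hRQ
    rw [h4] at this
    exact Dvd.intro _ this
  have hnorm := n57norm_normal hPR h5
  have hUc : ∀ u ∈ U, ∀ u' ∈ U, u * u' = u' * u := by
    intro u hu u' hu'
    have hc := IsKleinFour.isMulCommutative (G := ↥U)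
    have := hc.is_comm.comm ⟨u, hu⟩ ⟨u', hu'⟩
    exact congrArg Subtype.val this
  have hUP₀ : U ≤ (P : Subgroup G) ⊓ Subgroup.centralizer (U : Set G) :=
    fun u hu => ⟨hUP hu, Subgroup.mem_centralizer_iff.2 (fun h hh => hUc h hh u hu)⟩
  have key : ∀ r ∈ R, ∀ u ∈ U, r * u * r⁻¹ ∈ U := by
    intro r hr u hu
    apply homega
    · exact hnorm r hr u (hUP₀ hu)
    · intro y hy
      have hy' : r⁻¹ * y * r⁻¹⁻¹ ∈ (P : Subgroup G) ⊓ Subgroup.centralizer (U : Set G) :=
        hnorm r⁻¹ (R.inv_mem hr) y hy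
      have hcomm : (r⁻¹ * y * r⁻¹⁻¹) * u = u * (r⁻¹ * y * r⁻¹⁻¹) :=
        (Subgroup.mem_centralizer_iff.1 hy'.2 u hu).symm
      have e1 : r * u * r⁻¹ * y = r * (u * (r⁻¹ * y * r⁻¹⁻¹)) * r⁻¹ := by group
      have e2 : y * (r * u * r⁻¹) = r * ((r⁻¹ * y * r⁻¹⁻¹) * u) * r⁻¹ := by group
      rw [e1, e2, hcomm]
    · have huu : u * u = 1 := by
        have := IsKleinFour.mul_self (⟨u, hu⟩ : ↥U)
        exact congrArg Subtype.val this
      have : r * u * r⁻¹ * (r * u * r⁻¹) = r * (u * u) * r⁻¹ := by group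
      rw [this, huu]
      group
  intro r hr
  rw [Subgroup.mem_normalizer_iff]
  intro u
  constructor
  · exact key r hr u
  · intro h
    have := key r⁻¹ (R.inv_mem hr) _ h
    simpa [mul_assoc] using this

end Cfsg.Agent.Lib.Helper84.N57
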