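import Mathlib
import Cfsg.Prelude.Def_CaseTheorems
import Cfsg.Agent.Lib.Helper32.N57NORMcore
import Cfsg.Agent.Lib.Helper49.N57OMEGA

/-!
# N57 mini-hive (S1957, owner helper84): leaf N57-NORM `norm_of_big`
(= `n57norm_core` + helper49's leaf `omega`).
-/

set_option autoImplicit false
open Cfsg

namespace Cfsg.Agent.Lib.Helper84.N57

variable {G : Type*} [Group G] [Finite G]

/-- N57-NORM: with P a Sylow 2-subgroup as in OMEGA, every 2-subgroup R of G containing P₀ = C_P(U) normalizes U. -/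
theorem norm_of_big (P : Sylow 2 G) (U : Subgroup G) (hUP : U ≤ (P : Subgroup G))
    (hUn : (P : Subgroup G) ≤ Subgroup.normalizer (U : Set G)) (hU4 : IsKleinFour ↥U)
    (hcyc : IsCyclic ↥((P : Subgroup G) ⊓ Subgroup.centralizer ((P : Subgroup G) : Set G)))
    (hnc : ¬ U ≤ Subgroup.centralizer ((P : Subgroup G) : Set G))
    (R : Subgroup G) (hR : IsPGroup 2 ↥R)
    (hPR : (P : Subgroup G) ⊓ Subgroup.centralizer (U : Set G) ≤ R) :
    R ≤ Subgroup.normalizer (U : Set G) :=
  n57norm_core P U hUP hUn hU4 hnc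
    (omega (P : Subgroup G) U P.isPGroup' hUP hUn hU4 hcyc hnc) R hR hPR

end Cfsg.Agent.Lib.Helper84.N57
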