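import Mathlib
import Cfsg.Agent.Lib.Helper32.NarrowDef
import Cfsg.Agent.Lib.Helper32.GL2Card
import Cfsg.Agent.Lib.Helper24.PLenOne

set_option autoImplicit false
set_option linter.style.haveILetI false

universe u

namespace Cfsg.Agent.Lib.Helper32.Narrow

open Subgroup Cfsg Cfsg.Agent.Lib.Helper32.Rank2 Cfsg.Agent.Lib.Helper32.FitDer
open scoped commutatorElement

/-- **Solvable groups of odd order with narrow Sylow `p`-subgroups** (Bender–Glauberman 5.4,
core): modulo `O_{p'}(G)`, the derived subgroup is a `p`-group and all prime divisors of the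
order are at most `p`. -/
theorem narrow_sylow_quotient {G : Type u} [Group G] [Finite G] [Group.IsSolvable G]
    (hodd : Odd (Nat.card G)) (p : ℕ) [Fact p.Prime] (hpG : p ∣ Nat.card G) (S : Sylow p G)
    (hS : IsNarrow p ↥(S : Subgroup G))
    (hpl : ¬ PRankLE p 2 ↥(S : Subgroup G) → PLengthLE p 1 G) :
    (∀ d ∈ commutator (G ⧸ pPrimeCore p G), ∃ k : ℕ, d ^ (p ^ k) = 1) ∧
      ∀ q : ℕ, q.Prime → q ∣ Nat.card (G ⧸ pPrimeCore p G) → q ≤ p := by
  have hp : p.Prime := Fact.out
  have hp2 : p ≠ 2 := by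
    intro h2
    rw [h2] at hpG
    exact (Nat.not_even_iff_odd.2 hodd) (even_iff_two_dvd.2 hpG)
  haveI : Group.IsSolvable (G ⧸ pPrimeCore p G) :=
    Group.isSolvable_of_surjective (QuotientGroup.mk'_surjective (pPrimeCore p G))
  have hcardQ : Nat.card (G ⧸ pPrimeCore p G) ∣ Nat.card G :=
    Subgroup.card_quotient_dvd_card _
  have hoddQ : Odd (Nat.card (G ⧸ pPrimeCore p G)) := Odd.of_dvd_nat hodd hcardQ
  have hq2 : ∀ q : ℕ, q ∣ Nat.card (G ⧸ pPrimeCore p G) → q ≠ 2 := by
    intro q hq h2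
    rw [h2] at hq
    exact (Nat.not_even_iff_odd.2 hoddQ) (even_iff_two_dvd.2 hq)
  by_cases hr : PRankLE p 2 ↥(S : Subgroup G)
  · -- rank at most two
    have hG2 := pRankLE_of_sylow p S hr
    obtain ⟨Q, _, _, Ψ, hcomm, hexp, hcard, hΨ⟩ := exists_action_quotient p hp2 hG2
    constructor
    · intro d hd
      haveI : Group.IsSolvable Ψ.range :=
        Group.isSolvable_of_surjective (f := Ψ.rangeRestrict) Ψ.rangeRestrict_surjective
      have hYodd : Odd (Nat.card Ψ.range) :=
        Odd.of_dvd_nat hoddQ (Subgroup.card_range_dvd Ψ)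
      have hmain := exp_p_commutator_mulAut' p hcomm hexp hcard Ψ.range hYodd
      have hΨd : Ψ d ∈ ⁅Ψ.range, Ψ.range⁆ := by
        rw [_root_.commutator_def] at hd
        have h := Subgroup.mem_map_of_mem Ψ hd
        rw [Subgroup.map_commutator, ← MonoidHom.range_eq_map] at h
        exact h
      have h1 := hmain _ hΨd
      rw [← map_pow] at h1
      obtain ⟨k, hk⟩ := hΨ _ h1
      refine ⟨k + 1, ?_⟩
      rw [pow_succ', pow_mul]
      exact hk
    · intro q hq hqd
      by_cases hqp : q = p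
      · exact hqp.le
      haveI : Fact q.Prime := ⟨hq⟩
      obtain ⟨g, hg⟩ := exists_prime_orderOf_dvd_card' q hqd
      have hgq : g ^ q = 1 := by rw [← hg]; exact pow_orderOf_eq_one g
      have hf1 : Ψ g ≠ 1 := by
        intro h1
        obtain ⟨k, hk⟩ := hΨ g h1
        have : q ∣ p ^ k := hg ▸ orderOf_dvd_of_pow_eq_one hk
        exact hqp ((Nat.prime_dvd_prime_iff_eq hq hp).1 (hq.dvd_of_dvd_pow this))
      have hfq : (Ψ g) ^ q = 1 := by rw [← map_pow, hgq, map_one]
      have hf : orderOf (Ψ g) = q := orderOf_eq_prime hfq hf1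
      exact Cfsg.Agent.Lib.Helper32.GL2.prime_le_of_orderOf_mulAut p hp2 hcomm hexp hcard (Ψ g) hq
        (hq2 q hqd) hf
  · -- the narrow case of rank at least three
    have hpl' := hpl hr
    obtain ⟨x, hx, hC⟩ := narrow_elt p hS hr
    obtain ⟨hKSn, -⟩ := Cfsg.Agent.Lib.Helper24.plen_one_struct hpl' S
    have hsurj := QuotientGroup.mk'_surjective (pPrimeCore p G)
    have hQ : IsPGroup p ↥(pCore p (G ⧸ pPrimeCore p G)) :=
      Cfsg.Agent.Lib.Helper55.pCore_isPGroup p
    have hSbar : (S : Subgroup G).map (QuotientGroup.mk' (pPrimeCore p G)) =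
        pCore p (G ⧸ pPrimeCore p G) := by
      apply le_antisymm
      · have hn : ((S : Subgroup G).map (QuotientGroup.mk' (pPrimeCore p G))).Normal := by
          have h1 := Subgroup.Normal.map hKSn (QuotientGroup.mk' (pPrimeCore p G)) hsurj
          rw [Subgroup.map_sup, QuotientGroup.map_mk'_self, bot_sup_eq] at h1
          exact h1
        exact le_sSup (show (S : Subgroup G).map (QuotientGroup.mk' (pPrimeCore p G)) ∈
          {N : Subgroup (G ⧸ pPrimeCore p G) | N.Normal ∧ IsPGroup p N} from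
          ⟨hn, S.2.map _⟩)
      · have := hQ.le_sylow_of_normal (S.mapSurjective hsurj)
        exact this
    let φ : ↥(S : Subgroup G) →* ↥(pCore p (G ⧸ pPrimeCore p G)) :=
      ((QuotientGroup.mk' (pPrimeCore p G)).comp (S : Subgroup G).subtype).codRestrict _
        (fun s => by
          rw [← hSbar]
          exact Subgroup.mem_map_of_mem _ s.2)
    have hinj : Function.Injective φ := by
      rw [injective_iff_map_eq_one]
      intro s hs
      have h1 : QuotientGroup.mk' (pPrimeCore p G) (s : G) = 1 := congrArg Subtype.val hs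
      rw [QuotientGroup.mk'_apply, QuotientGroup.eq_one_iff] at h1
      have h2 : (s : G) ∈ pPrimeCore p G ⊓ (S : Subgroup G) := ⟨h1, s.2⟩
      rw [Cfsg.Agent.Lib.Helper32.pPrimeCore_inf_eq_bot S.2, Subgroup.mem_bot] at h2
      exact Subtype.ext h2
    have hsurjφ : Function.Surjective φ := by
      rintro ⟨y, hy⟩
      rw [← hSbar] at hy
      obtain ⟨s, hs, rfl⟩ := hy
      exact ⟨⟨s, hs⟩, rfl⟩
    let e : ↥(S : Subgroup G) ≃* ↥(pCore p (G ⧸ pPrimeCore p G)) :=
      MulEquiv.ofBijective φ ⟨hinj, hsurjφ⟩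
    have hr3' : ¬ PRankLE p 2 ↥(pCore p (G ⧸ pPrimeCore p G)) :=
      fun h => hr (pRankLE_of_injective e.toMonoidHom e.injective h)
    have hx' : (e x) ^ p = 1 := by rw [← map_pow, hx, map_one]
    have hC' := narrow_transfer e hC
    obtain ⟨hN1, hN2⟩ := narrow_normal_action p hp2 (pCore p (G ⧸ pPrimeCore p G)) hQ hr3'
      (e x) hx' hC'
    have hcent := Cfsg.Agent.Lib.Helper55.centralizer_pCore_le (G := G ⧸ pPrimeCore p G) p
      (Cfsg.Agent.Lib.Helper55.pPrimeCore_quotient_eq_bot p)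
    have hpel : ∀ y ∈ centralizer (pCore p (G ⧸ pPrimeCore p G) : Set (G ⧸ pPrimeCore p G)),
        ∃ m : ℕ, y ^ (p ^ m) = 1 := by
      intro y hy
      obtain ⟨m, hm⟩ := hQ ⟨y, hcent hy⟩
      refine ⟨m, ?_⟩
      have := congrArg Subtype.val hm
      simpa using this
    constructor
    · intro d hd
      obtain ⟨k, hk⟩ := hN1 d hd
      obtain ⟨m, hm⟩ := hpel _ hk
      refine ⟨k + m, ?_⟩
      rw [pow_add, pow_mul]
      exact hm
    · intro q hq hqd
      by_cases hqp : q = p
      · exact hqp.le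
      haveI : Fact q.Prime := ⟨hq⟩
      obtain ⟨g, hg⟩ := exists_prime_orderOf_dvd_card' q hqd
      obtain ⟨k, hk⟩ := hN2 g
      obtain ⟨m, hm⟩ := hpel _ hk
      have h1 : g ^ ((p - 1) * (p ^ k * p ^ m)) = 1 := by
        rw [pow_mul, pow_mul]
        exact hm
      have h2 : q ∣ (p - 1) * (p ^ k * p ^ m) := hg ▸ orderOf_dvd_of_pow_eq_one h1
      have hcop : q.Coprime (p ^ k * p ^ m) := by
        rw [← pow_add]
        exact Nat.Coprime.pow_right _ ((Nat.coprime_primes hq hp).2 hqp)
      have h3 : q ∣ p - 1 := hcop.dvd_of_dvd_mul_right h2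
      have h4 : 0 < p - 1 := by have := hp.two_le; omega
      have := Nat.le_of_dvd h4 h3
      omega

end Cfsg.Agent.Lib.Helper32.Narrow
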