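import Mathlib.GroupTheory.Sylow
import Mathlib.GroupTheory.Index
import Mathlib.Algebra.Group.End

set_option autoImplicit false

namespace Cfsg.Agent.Lib.Helper32

/-- Norm-map splitting. Let the finite group `L` act (through `φ`) on the finite abelian group `M`, and let
`T` be a subgroup of `L` whose index is prime to `|M|`. Then the `L`-fixed points of `M` are a direct
factor of the `T`-fixed points: there is a subgroup `K` of `M` meeting the `L`-fixed points trivially
such that every `T`-fixed point is a product of an `L`-fixed point and a `T`-fixed element of `K`. -/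
theorem exists_complement_fixedPoints {L : Type*} [Group L] [Finite L] {M : Type*} [CommGroup M]
    [Finite M] (φ : L →* MulAut M) (T : Subgroup L) (hk : (Nat.card M).Coprime T.index) :
    ∃ K : Subgroup M,
      (∀ x : M, (∀ l : L, φ l x = x) → x ∈ K → x = 1) ∧
      (∀ z : M, (∀ t ∈ T, φ t z = z) →
        ∃ w : M, (∀ l : L, φ l w = w) ∧ ∃ y ∈ K, (∀ t ∈ T, φ t y = y) ∧ z = w * y) := by
  classical
  let _ : Fintype (L ⧸ T) := Fintype.ofFinite _
  -- the norm map
  let ν : M →* M :=
    { toFun := fun z => ∏ q : L ⧸ T, φ (Quotient.out q) z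
      map_one' := by simp
      map_mul' := fun a b => by simp [Finset.prod_mul_distrib] }
  have hν : ∀ z, ν z = ∏ q : L ⧸ T, φ (Quotient.out q) z := fun z => rfl
  -- on T-fixed points, representatives do not matter
  have hrep : ∀ z : M, (∀ t ∈ T, φ t z = z) → ∀ l : L,
      φ (Quotient.out (QuotientGroup.mk l : L ⧸ T)) z = φ l z := by
    intro z hz l
    have h1 : (QuotientGroup.mk (Quotient.out (QuotientGroup.mk l : L ⧸ T)) : L ⧸ T) = QuotientGroup.mk l :=
      Quotient.out_eq' _
    have h2 : l⁻¹ * Quotient.out (QuotientGroup.mk l : L ⧸ T) ∈ T := by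
      have := QuotientGroup.eq.mp h1.symm
      exact this
    have h3 := hz _ h2
    calc φ (Quotient.out (QuotientGroup.mk l : L ⧸ T)) z
        = φ (l * (l⁻¹ * Quotient.out (QuotientGroup.mk l : L ⧸ T))) z := by rw [mul_inv_cancel_left]
      _ = φ l (φ (l⁻¹ * Quotient.out (QuotientGroup.mk l : L ⧸ T)) z) := by rw [map_mul]; rfl
      _ = φ l z := by rw [h3]
  -- ν z is L-fixed for T-fixed z
  have hνfix : ∀ z : M, (∀ t ∈ T, φ t z = z) → ∀ l : L, φ l (ν z) = ν z := by
    intro z hz l
    rw [hν, map_prod]
    have h1 : ∀ q : L ⧸ T, φ l (φ (Quotient.out q) z) = φ (Quotient.out (l • q)) z := by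
      intro q
      have hq : l • q = (QuotientGroup.mk (l * Quotient.out q) : L ⧸ T) := by
        conv_lhs => rw [← Quotient.out_eq' q]
        rfl
      rw [hq, hrep z hz, map_mul]; rfl
    simp_rw [h1]
    exact Equiv.prod_comp (MulAction.toPerm l : Equiv.Perm (L ⧸ T)) (fun q => φ (Quotient.out q) z)
  -- ν w = w ^ index for L-fixed w
  have hνpow : ∀ w : M, (∀ l : L, φ l w = w) → ν w = w ^ T.index := by
    intro w hw
    rw [hν]
    simp_rw [hw]
    rw [Finset.prod_const, Finset.card_univ, Subgroup.index, Nat.card_eq_fintype_card]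
  -- fixed points of T as a subgroup
  let FT : Subgroup M :=
    { carrier := {z | ∀ t ∈ T, φ t z = z}
      one_mem' := by intro t _; simp
      mul_mem' := by
        intro a b ha hb t ht
        rw [map_mul, ha t ht, hb t ht]
      inv_mem' := by
        intro a ha t ht
        rw [map_inv, ha t ht] }
  refine ⟨ν.ker ⊓ FT, ?_, ?_⟩
  · intro x hx hxK
    have h1 : ν x = 1 := MonoidHom.mem_ker.mp hxK.1
    rw [hνpow x hx] at h1
    have h2 : orderOf x ∣ T.index := orderOf_dvd_of_pow_eq_one h1
    have h3 : orderOf x ∣ Nat.card M := orderOf_dvd_natCard x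
    have h4 : orderOf x ∣ 1 := by
      have := Nat.dvd_gcd h3 h2
      rwa [hk] at this
    exact orderOf_eq_one_iff.mp (Nat.dvd_one.mp h4)
  · intro z hz
    set u : M := ν z with hu
    have hufix : ∀ l : L, φ l u = u := hνfix z hz
    set w : M := (powCoprime hk).symm u with hw
    have hwk : w ^ T.index = u := (powCoprime hk).apply_symm_apply u
    have hwfix : ∀ l : L, φ l w = w := by
      intro l
      apply (powCoprime hk).injective
      show (φ l w) ^ T.index = w ^ T.index
      rw [← map_pow, hwk, hufix l]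
    refine ⟨w, hwfix, z * w⁻¹, ⟨?_, ?_⟩, ?_, by simp⟩
    · show z * w⁻¹ ∈ ν.ker
      rw [MonoidHom.mem_ker, map_mul, map_inv, hνpow w hwfix, hwk, ← hu, mul_inv_cancel]
    · intro t ht
      rw [map_mul, map_inv, hz t ht, hwfix t]
    · intro t ht
      rw [map_mul, map_inv, hz t ht, hwfix t]

end Cfsg.Agent.Lib.Helper32
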