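import Mathlib
import Cfsg.Agent.Lib.Helper8.WittQuad
import Cfsg.Agent.Lib.Helper10.OcT1Defs

/-! # Oc hive (helper44, S5977/S5978), leaf OC-T1, part (B) (helper32): conjugacy of the self-adjoint
square roots `J` of a nonsquare `δ` under the isometry group, abstract form, by induction on the dimension.
The field theory (existence of vectors with equal invariants) enters as the hypothesis `hcommon`
(= helper10's `t1_common`). -/

set_option autoImplicit false

namespace Cfsg.Agent.Lib.Helper44.Oc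

open Module QuadraticMap

universe u v

section glue

variable {F : Type v} [Field F] {V : Type u} [AddCommGroup V] [Module F V]

/-- extend an isometry of `U` by the identity on a complement `P` orthogonal to `U` -/
theorem t1_glue (Q : QuadraticForm F V) (P U : Submodule F V) (hc : IsCompl P U)
    (horth : ∀ p ∈ P, ∀ w ∈ U, polar Q p w = 0) (g' : U ≃ₗ[F] U)
    (hg' : ∀ w : U, Q ((g' w : U) : V) = Q (w : V)) :
    ∃ g : V ≃ₗ[F] V, (∀ x, Q (g x) = Q x) ∧ (∀ p ∈ P, g p = p) ∧ ∀ w : U, g (w : V) = (g' w : V) := by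
  let e := Submodule.prodEquivOfIsCompl P U hc
  let g : V ≃ₗ[F] V := e.symm.trans ((LinearEquiv.prodCongr (LinearEquiv.refl F P) g').trans e)
  have hg : ∀ x : V, g x = ((e.symm x).1 : V) + ((g' (e.symm x).2 : U) : V) := fun x => rfl
  have hx : ∀ x : V, x = ((e.symm x).1 : V) + ((e.symm x).2 : V) := by
    intro x
    conv_lhs => rw [← e.apply_symm_apply x]
    rfl
  refine ⟨g, ?_, ?_, ?_⟩
  · intro x
    rw [hg x]
    conv_rhs => rw [hx x]
    rw [QuadraticMap.map_add Q, QuadraticMap.map_add Q, hg',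
      horth _ (e.symm x).1.2 _ (g' (e.symm x).2).2, horth _ (e.symm x).1.2 _ (e.symm x).2.2]
  · intro p hp
    rw [hg]
    have h1 : e.symm p = ((⟨p, hp⟩ : P), (0 : U)) :=
      Submodule.prodEquivOfIsCompl_symm_apply_left P U hc ⟨p, hp⟩
    rw [h1]
    simp
  · intro w
    rw [hg]
    have h1 : e.symm (w : V) = ((0 : P), w) :=
      Submodule.prodEquivOfIsCompl_symm_apply_right P U hc w
    rw [h1]
    simp

end glue

section facts

variable {F : Type v} [Field F] {V : Type u} [AddCommGroup V] [Module F V]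

theorem t1_Q_J (h2 : (2 : F) ≠ 0) (Q : QuadraticForm F V) (δ : F) (J : V →ₗ[F] V)
    (hJ : t1_AbsJ Q δ J) (x : V) : Q (J x) = δ * Q x := by
  have h1 : polar Q (J x) (J x) = δ * polar Q x x := by
    rw [hJ.2, hJ.1, polar_smul_right, smul_eq_mul]
  rw [polar_self, polar_self] at h1
  have h3 : 2 * (Q (J x) - δ * Q x) = 0 := by linear_combination h1
  have h4 := (mul_eq_zero.mp h3).resolve_left h2
  linear_combination h4

/-- `4 δ s² - t² ≠ 0` for `(s, t) ≠ (0, 0)` and `δ` a nonsquare -/
theorem t1_disc_ne (h2 : (2 : F) ≠ 0) (δ : F) (hδ : ¬ IsSquare δ) (s t : F) (hst : s ≠ 0 ∨ t ≠ 0) :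
    4 * δ * s ^ 2 - t ^ 2 ≠ 0 := by
  intro h
  by_cases hs : s = 0
  · rw [hs] at h
    have ht : t ^ 2 = 0 := by linear_combination -h
    have ht0 : t = 0 := pow_eq_zero_iff (n := 2) (by norm_num) |>.mp ht
    rcases hst with h' | h'
    · exact h' hs
    · exact h' ht0
  · apply hδ
    refine ⟨t / (2 * s), ?_⟩
    field_simp
    linear_combination h


theorem t1_linIndep (Q : QuadraticForm F V) (δ : F) (hδ : ¬ IsSquare δ) (J : V →ₗ[F] V)
    (hJ : t1_AbsJ Q δ J) (x : V) (hx : Q x ≠ 0 ∨ polar Q (J x) x ≠ 0) :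
    LinearIndependent F ![x, J x] := by
  have hx0 : x ≠ 0 := by
    rintro rfl
    rcases hx with h | h
    · exact h (QuadraticMap.map_zero Q)
    · apply h
      rw [map_zero]
      exact polar_zero_left _ _
  rw [LinearIndependent.pair_iff]
  intro a b hab
  by_cases hb : b = 0
  · rw [hb, zero_smul, add_zero] at hab
    exact ⟨(smul_eq_zero.mp hab).resolve_right hx0, hb⟩
  · exfalso
    apply hδ
    have h1 : J x = (-(a / b)) • x := by
      have h2 : b • J x = (-a) • x := by
        rw [neg_smul]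
        exact eq_neg_of_add_eq_zero_right hab
      have h3 : J x = b⁻¹ • (b • J x) := by rw [smul_smul, inv_mul_cancel₀ hb, one_smul]
      rw [h3, h2, smul_smul]
      congr 1
      field_simp
    have h4 : J (J x) = ((-(a / b)) * (-(a / b))) • x := by
      rw [h1, map_smul, h1, smul_smul]
    rw [hJ.1] at h4
    have h5 : (δ - (-(a / b)) * (-(a / b))) • x = 0 := by
      rw [sub_smul, h4, sub_self]
    have h6 := (smul_eq_zero.mp h5).resolve_right hx0
    exact ⟨-(a / b), by linear_combination h6⟩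

theorem t1_conj (Q : QuadraticForm F V) (δ : F) (J : V →ₗ[F] V) (hJ : t1_AbsJ Q δ J)
    (g : V ≃ₗ[F] V) (hg : ∀ x, Q (g x) = Q x) :
    t1_AbsJ Q δ ((g : V →ₗ[F] V) ∘ₗ J ∘ₗ (g.symm : V →ₗ[F] V)) := by
  have hpol := Cfsg.Agent.Lib.Helper8.polar_of_preserving Q (g : V →ₗ[F] V) hg
  constructor
  · intro x
    simp only [LinearMap.comp_apply, LinearEquiv.coe_coe, LinearEquiv.symm_apply_apply]
    rw [hJ.1, map_smul, LinearEquiv.apply_symm_apply]
  · intro a b
    simp only [LinearMap.comp_apply, LinearEquiv.coe_coe]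
    have h1 : polar Q (g (J (g.symm a))) b = polar Q (J (g.symm a)) (g.symm b) := by
      have := hpol (J (g.symm a)) (g.symm b)
      simp only [LinearEquiv.coe_coe, LinearEquiv.apply_symm_apply] at this
      exact this
    have h2 : polar Q a (g (J (g.symm b))) = polar Q (g.symm a) (J (g.symm b)) := by
      have := hpol (g.symm a) (J (g.symm b))
      simp only [LinearEquiv.coe_coe, LinearEquiv.apply_symm_apply] at this
      exact this
    rw [h1, h2, hJ.2]

theorem t1_mem_orth (Q : QuadraticForm F V) (a b w : V) :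
    w ∈ LinearMap.BilinForm.orthogonal (QuadraticMap.polarBilin Q) (Submodule.span F {a, b}) ↔
      polar Q a w = 0 ∧ polar Q b w = 0 := by
  rw [LinearMap.BilinForm.mem_orthogonal_iff]
  constructor
  · intro h
    exact ⟨h a (Submodule.subset_span (by simp)), h b (Submodule.subset_span (by simp))⟩
  · rintro ⟨ha, hb⟩ n hn
    obtain ⟨c, d, rfl⟩ := Submodule.mem_span_pair.mp hn
    show polar Q (c • a + d • b) w = 0
    rw [polar_add_left, polar_smul_left, polar_smul_left, ha, hb]
    simp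

theorem t1_inv (Q : QuadraticForm F V) (δ : F) (J : V →ₗ[F] V) (hJ : t1_AbsJ Q δ J) (x w : V)
    (hw : polar Q x w = 0 ∧ polar Q (J x) w = 0) :
    polar Q x (J w) = 0 ∧ polar Q (J x) (J w) = 0 := by
  constructor
  · rw [← hJ.2]; exact hw.2
  · rw [← hJ.2, hJ.1, polar_smul_left, hw.1, smul_zero]

end facts

section main

variable {F : Type v} [Field F]

/-- the statement of helper10's `t1_common` at a fixed universe -/
def t1_Common (δ : F) : Prop :=
  ∀ (V : Type u) [AddCommGroup V] [Module F V] [FiniteDimensional F V] [Nontrivial V]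
    (Q : QuadraticForm F V), (QuadraticMap.polarBilin Q).Nondegenerate → ∀ (J₁ J₂ : V →ₗ[F] V),
    t1_AbsJ Q δ J₁ → t1_AbsJ Q δ J₂ →
    ∃ v₁ v₂ : V, (Q v₁ ≠ 0 ∨ polar Q (J₁ v₁) v₁ ≠ 0) ∧ Q v₂ = Q v₁ ∧
      polar Q (J₂ v₂) v₂ = polar Q (J₁ v₁) v₁

/-- **OC-T1, abstract form**: two self-adjoint square roots of the nonsquare `δ` are conjugate under
an isometry (given the field-theoretic input `t1_Common`). -/
theorem t1_abs_core (h2 : (2 : F) ≠ 0) (δ : F) (hδ : ¬ IsSquare δ) (hcommon : t1_Common.{u} δ) :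
    ∀ (n : ℕ) (V : Type u) [AddCommGroup V] [Module F V] [FiniteDimensional F V]
      (Q : QuadraticForm F V), (QuadraticMap.polarBilin Q).Nondegenerate → ∀ (J₁ J₂ : V →ₗ[F] V),
      t1_AbsJ Q δ J₁ → t1_AbsJ Q δ J₂ → finrank F V = n →
      ∃ g : V ≃ₗ[F] V, (∀ x, Q (g x) = Q x) ∧ ∀ x, g (J₁ x) = J₂ (g x) := by
  intro n
  induction n using Nat.strong_induction_on with
  | _ n ih =>
    intro V _ _ _ Q hQ J₁ J₂ h₁ h₂ hn
    by_cases htriv : Subsingleton V
    · exact ⟨LinearEquiv.refl F V, fun _ => rfl, fun x => Subsingleton.elim _ _⟩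
    rw [not_subsingleton_iff_nontrivial] at htriv
    obtain ⟨v₁, v₂, hne, hs, ht⟩ := hcommon V Q hQ J₁ J₂ h₁ h₂
    have hne₂ : Q v₂ ≠ 0 ∨ polar Q (J₂ v₂) v₂ ≠ 0 := by rw [hs, ht]; exact hne
    -- Witt: move `(v₁, J₁ v₁)` to `(v₂, J₂ v₂)`
    have hli₁ := t1_linIndep Q δ hδ J₁ h₁ v₁ hne
    have hli₂ := t1_linIndep Q δ hδ J₂ h₂ v₂ hne₂
    have hQJ₁ := t1_Q_J h2 Q δ J₁ h₁ v₁
    have hQJ₂ := t1_Q_J h2 Q δ J₂ h₂ v₂
    obtain ⟨g₀, hg₀Q, hg₀⟩ := Cfsg.Agent.Lib.Helper8.witt_family_quad Q hQ 2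
      ![v₁, J₁ v₁] ![v₂, J₂ v₂] hli₁ hli₂
      (by
        intro i
        fin_cases i
        · simpa using hs
        · simp only [Fin.mk_one, Matrix.cons_val_one, Matrix.cons_val_zero]
          rw [hQJ₁, hQJ₂, hs])
      (by
        intro i j
        fin_cases i <;> fin_cases j
        · simp only [Fin.zero_eta, Matrix.cons_val_zero]
          rw [polar_self, polar_self, hs]
        · simp only [Fin.zero_eta, Fin.mk_one, Matrix.cons_val_zero, Matrix.cons_val_one]
          rw [polar_comm Q v₂, polar_comm Q v₁, ht]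
        · simp only [Fin.zero_eta, Fin.mk_one, Matrix.cons_val_zero, Matrix.cons_val_one]
          exact ht
        · simp only [Fin.mk_one, Matrix.cons_val_one, Matrix.cons_val_zero]
          rw [polar_self, polar_self, hQJ₁, hQJ₂, hs])
    have hg₀v : g₀ v₁ = v₂ := by simpa using hg₀ 0
    have hg₀J : g₀ (J₁ v₁) = J₂ v₂ := by simpa using hg₀ 1
    -- the conjugated structure
    set J₁' : V →ₗ[F] V := (g₀ : V →ₗ[F] V) ∘ₗ J₁ ∘ₗ (g₀.symm : V →ₗ[F] V) with hJ₁'
    have h₁' : t1_AbsJ Q δ J₁' := t1_conj Q δ J₁ h₁ g₀ hg₀Q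
    have hJ₁'g : ∀ x, J₁' (g₀ x) = g₀ (J₁ x) := by
      intro x
      simp only [hJ₁', LinearMap.comp_apply, LinearEquiv.coe_coe, LinearEquiv.symm_apply_apply]
    have hJ₁'v : J₁' v₂ = J₂ v₂ := by
      have := hJ₁'g v₁
      rw [hg₀v, hg₀J] at this
      exact this
    -- the plane and its orthogonal complement
    set B := QuadraticMap.polarBilin Q with hB
    have hsymm : LinearMap.BilinForm.IsSymm B := by
      constructor
      intro x y
      show polar Q x y = polar Q y x
      exact polar_comm Q x y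
    have hrefl : LinearMap.BilinForm.IsRefl B := hsymm.isRefl
    set P : Submodule F V := Submodule.span F {v₂, J₂ v₂} with hP
    set U : Submodule F V := LinearMap.BilinForm.orthogonal B P with hU
    have hmemU : ∀ w, w ∈ U ↔ polar Q v₂ w = 0 ∧ polar Q (J₂ v₂) w = 0 :=
      fun w => t1_mem_orth Q v₂ (J₂ v₂) w
    set s := Q v₂ with hs_def
    set t := polar Q (J₂ v₂) v₂ with ht_def
    have hD : 4 * δ * s ^ 2 - t ^ 2 ≠ 0 := t1_disc_ne h2 δ hδ s t hne₂
    have hdisj : Disjoint P U := by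
      rw [Submodule.disjoint_def]
      intro x hxP hxU
      obtain ⟨c, d, rfl⟩ := Submodule.mem_span_pair.mp hxP
      obtain ⟨e1, e2⟩ := (hmemU _).mp hxU
      rw [polar_add_right, polar_smul_right, polar_smul_right, polar_self, smul_eq_mul,
        smul_eq_mul, polar_comm Q v₂ (J₂ v₂)] at e1
      rw [polar_add_right, polar_smul_right, polar_smul_right, polar_self, hQJ₂, smul_eq_mul,
        smul_eq_mul] at e2
      have hc : c * (4 * δ * s ^ 2 - t ^ 2) = 0 := by
        linear_combination (2 * δ * s) * e1 - t * e2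
      have hd : d * (4 * δ * s ^ 2 - t ^ 2) = 0 := by
        linear_combination (2 * s) * e2 - t * e1
      rw [(mul_eq_zero.mp hc).resolve_right hD, (mul_eq_zero.mp hd).resolve_right hD]
      simp
    have hc : IsCompl P U := (LinearMap.BilinForm.isCompl_orthogonal_iff_disjoint hrefl).mpr hdisj
    have hUU : LinearMap.BilinForm.orthogonal B U = P :=
      LinearMap.BilinForm.orthogonal_orthogonal hQ hrefl P
    have hndU : (LinearMap.BilinForm.restrict B U).Nondegenerate :=
      LinearMap.BilinForm.nondegenerate_restrict_of_disjoint_orthogonal B hrefl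
        (by rw [hUU]; exact hdisj.symm)
    -- invariance
    have hU₂ : ∀ w ∈ U, J₂ w ∈ U := by
      intro w hw
      rw [hmemU] at hw ⊢
      exact t1_inv Q δ J₂ h₂ v₂ w hw
    have hU₁ : ∀ w ∈ U, J₁' w ∈ U := by
      intro w hw
      rw [hmemU] at hw ⊢
      have := t1_inv Q δ J₁' h₁' v₂ w (by rw [hJ₁'v]; exact hw)
      rw [hJ₁'v] at this
      exact this
    -- the restricted data
    set QU : QuadraticForm F U := Q.comp U.subtype with hQU
    have hQUnd : (QuadraticMap.polarBilin QU).Nondegenerate := by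
      have : QuadraticMap.polarBilin QU = LinearMap.BilinForm.restrict B U := by
        ext a b
        rfl
      rw [this]
      exact hndU
    have hJU₂ : t1_AbsJ QU δ (J₂.restrict hU₂) := by
      constructor
      · intro w
        apply Subtype.ext
        show J₂ (J₂ (w : V)) = δ • (w : V)
        exact h₂.1 _
      · intro a b
        show polar Q (J₂ (a : V)) (b : V) = polar Q (a : V) (J₂ (b : V))
        exact h₂.2 _ _
    have hJU₁ : t1_AbsJ QU δ (J₁'.restrict hU₁) := by
      constructor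
      · intro w
        apply Subtype.ext
        show J₁' (J₁' (w : V)) = δ • (w : V)
        exact h₁'.1 _
      · intro a b
        show polar Q (J₁' (a : V)) (b : V) = polar Q (a : V) (J₁' (b : V))
        exact h₁'.2 _ _
    have hlt : finrank F U < n := by
      rw [← hn]
      apply Submodule.finrank_lt
      intro htop
      have hv : v₂ ∈ U := by rw [htop]; exact Submodule.mem_top
      obtain ⟨e1, e2⟩ := (hmemU _).mp hv
      rw [polar_self] at e1
      have e1' : (2 : F) * s = 0 := by linear_combination e1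
      rcases hne₂ with h | h
      · exact h ((mul_eq_zero.mp e1').resolve_left h2)
      · exact h e2
    obtain ⟨g', hg'Q, hg'J⟩ := ih (finrank F U) hlt U QU hQUnd (J₁'.restrict hU₁)
      (J₂.restrict hU₂) hJU₁ hJU₂ rfl
    -- glue
    have horth : ∀ p ∈ P, ∀ w ∈ U, polar Q p w = 0 := by
      intro p hp w hw
      exact (LinearMap.BilinForm.mem_orthogonal_iff.mp hw) p hp
    obtain ⟨g₁, hg₁Q, hg₁P, hg₁U⟩ := t1_glue Q P U hc horth g' hg'Q
    have hJP : ∀ p ∈ P, J₁' p = J₂ p ∧ J₂ p ∈ P := by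
      intro p hp
      obtain ⟨c, d, rfl⟩ := Submodule.mem_span_pair.mp hp
      constructor
      · rw [map_add, map_smul, map_smul, map_add, map_smul, map_smul, hJ₁'v, ← hJ₁'v, h₁'.1,
          hJ₁'v, h₂.1]
      · rw [map_add, map_smul, map_smul, h₂.1]
        apply Submodule.add_mem
        · exact Submodule.smul_mem _ _ (Submodule.subset_span (by simp))
        · exact Submodule.smul_mem _ _ (Submodule.smul_mem _ _ (Submodule.subset_span (by simp)))
    have hint : ∀ x, g₁ (J₁' x) = J₂ (g₁ x) := by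
      intro x
      have hx : x ∈ P ⊔ U := by rw [hc.sup_eq_top]; exact Submodule.mem_top
      obtain ⟨p, hp, w, hw, rfl⟩ := Submodule.mem_sup.mp hx
      obtain ⟨e1, e2⟩ := hJP p hp
      have e3 : g₁ (J₁' w) = J₂ (g₁ w) := by
        have h3 := hg₁U ⟨J₁' w, hU₁ w hw⟩
        have h4 := hg₁U ⟨w, hw⟩
        have h5 := hg'J ⟨w, hw⟩
        simp only at h3 h4
        rw [h3, h4]
        have h6 : ((g' ((J₁'.restrict hU₁) ⟨w, hw⟩) : U) : V) = J₂ ((g' ⟨w, hw⟩ : U) : V) := by
          rw [h5]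
          rfl
        exact h6
      rw [map_add, map_add, e1, hg₁P _ e2, e3, map_add, map_add, hg₁P p hp]
    refine ⟨g₀.trans g₁, ?_, ?_⟩
    · intro x
      show Q (g₁ (g₀ x)) = Q x
      rw [hg₁Q, hg₀Q]
    · intro x
      show g₁ (g₀ (J₁ x)) = J₂ (g₁ (g₀ x))
      rw [← hJ₁'g, hint]

end main

end Cfsg.Agent.Lib.Helper44.Oc
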