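import Mathlib
import Cfsg.Prelude.Def_GeometricClasses
import Cfsg.Agent.Lib.Helper44.OcDefs
import Cfsg.Agent.Lib.Helper37.ParabolicBridge
import Cfsg.Agent.Lib.Helper32.OcT1abs

/-! # Oc hive (helper44, S5977/S5978), leaf OC-T1 (helper32): the coordinate wrapper
`t1_Common → exists_conj_J`. -/

set_option autoImplicit false
open scoped MatrixGroups
open Matrix

namespace Cfsg.Agent.Lib.Helper44.Oc

universe v

variable {F : Type v} [Field F] {ι : Type} [Fintype ι] [DecidableEq ι]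

theorem t1_absJ_of_isJ (Q : (ι → F) → F) (hQ : Cfsg.Geo.IsNondegenerateQuadraticForm Q) (δ : F)
    (J : Matrix ι ι F) (hJ : IsJ Q δ J) :
    t1_AbsJ (Cfsg.Agent.Lib.Helper37.toQF Q hQ) δ (Matrix.toLin' J) := by
  constructor
  · intro x
    rw [Matrix.toLin'_apply, Matrix.toLin'_apply, Matrix.mulVec_mulVec, hJ.1, Matrix.smul_mulVec,
      Matrix.one_mulVec]
  · intro a b
    rw [Matrix.toLin'_apply, Matrix.toLin'_apply]
    exact hJ.2 a b

/-- OC-T1 from the field-theoretic input -/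
theorem t1_exists_conj_J_of_common (h2 : (2 : F) ≠ 0) (Q : (ι → F) → F)
    (hQ : Cfsg.Geo.IsNondegenerateQuadraticForm Q) (δ : F) (hδ : ¬ IsSquare δ) (J₁ J₂ : Matrix ι ι F)
    (h₁ : IsJ Q δ J₁) (h₂ : IsJ Q δ J₂) (hcommon : t1_Common.{v} δ) :
    ∃ h : GL ι F, h ∈ Cfsg.isometryGroup F Q ∧
      (h : Matrix ι ι F) * J₁ * ((h⁻¹ : GL ι F) : Matrix ι ι F) = J₂ := by
  obtain ⟨g, hgQ, hgJ⟩ := t1_abs_core h2 δ hδ hcommon _ (ι → F)
    (Cfsg.Agent.Lib.Helper37.toQF Q hQ) (Cfsg.Agent.Lib.Helper37.toQF_nondeg Q hQ)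
    (Matrix.toLin' J₁) (Matrix.toLin' J₂) (t1_absJ_of_isJ Q hQ δ J₁ h₁)
    (t1_absJ_of_isJ Q hQ δ J₂ h₂) rfl
  set M : Matrix ι ι F := LinearMap.toMatrix' (g : (ι → F) →ₗ[F] (ι → F)) with hM
  set N : Matrix ι ι F := LinearMap.toMatrix' (g.symm : (ι → F) →ₗ[F] (ι → F)) with hN
  have hMv : ∀ x, M *ᵥ x = g x := by
    intro x
    rw [hM, ← Matrix.toLin'_apply, Matrix.toLin'_toMatrix']
    rfl
  have hNv : ∀ x, N *ᵥ x = g.symm x := by
    intro x
    rw [hN, ← Matrix.toLin'_apply, Matrix.toLin'_toMatrix']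
    rfl
  have hMN : M * N = 1 := by
    rw [hM, hN, ← LinearMap.toMatrix'_comp]
    have : (g : (ι → F) →ₗ[F] (ι → F)) ∘ₗ (g.symm : (ι → F) →ₗ[F] (ι → F)) = LinearMap.id := by
      ext x
      simp
    rw [this, LinearMap.toMatrix'_id]
  have hNM : N * M = 1 := by
    rw [hM, hN, ← LinearMap.toMatrix'_comp]
    have : (g.symm : (ι → F) →ₗ[F] (ι → F)) ∘ₗ (g : (ι → F) →ₗ[F] (ι → F)) = LinearMap.id := by
      ext x
      simp
    rw [this, LinearMap.toMatrix'_id]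
  refine ⟨⟨M, N, hMN, hNM⟩, ?_, ?_⟩
  · intro a b
    show Q (M *ᵥ a) = Q a
    rw [hMv]
    exact hgQ a
  · show M * J₁ * N = J₂
    apply Matrix.toLin'.injective
    apply LinearMap.ext
    intro x
    rw [Matrix.toLin'_apply, Matrix.toLin'_apply, ← Matrix.mulVec_mulVec, ← Matrix.mulVec_mulVec,
      hNv, hMv]
    have := hgJ (g.symm x)
    rw [Matrix.toLin'_apply, Matrix.toLin'_apply, LinearEquiv.apply_symm_apply] at this
    exact this

end Cfsg.Agent.Lib.Helper44.Oc
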