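import Mathlib
import Cfsg.Agent.Lib.Helper32.OcT1wrap
import Cfsg.Agent.Lib.Helper10.OcT1common

/-! # Oc hive (helper44, S5977/S5978), leaf OC-T1 `exists_conj_J` (helper32 + helper10 + helper25):
`O(Q)` is transitive on the self-adjoint `J` with `J² = δ`, `δ` a nonsquare. -/

set_option autoImplicit false
open scoped MatrixGroups
open Matrix

namespace Cfsg.Agent.Lib.Helper44.Oc

universe v

variable {F : Type v} [Field F] {ι : Type} [Fintype ι] [DecidableEq ι]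

/-- OC-T1 (BIG) : `O(Q)` is transitive on the self-adjoint `J` with `J² = δ`. -/
theorem exists_conj_J [Fintype F] (h2 : (2 : F) ≠ 0) (Q : (ι → F) → F)
    (hQ : Cfsg.Geo.IsNondegenerateQuadraticForm Q) (δ : F) (hδ : ¬ IsSquare δ) (J₁ J₂ : Matrix ι ι F)
    (h₁ : IsJ Q δ J₁) (h₂ : IsJ Q δ J₂) :
    ∃ h : GL ι F, h ∈ Cfsg.isometryGroup F Q ∧
      (h : Matrix ι ι F) * J₁ * ((h⁻¹ : GL ι F) : Matrix ι ι F) = J₂ :=
  t1_exists_conj_J_of_common h2 Q hQ δ hδ J₁ J₂ h₁ h₂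
    (fun _ _ _ _ _ Q' hQ' J₁' J₂' h₁' h₂' => t1_common h2 Q' hQ' δ hδ J₁' J₂' h₁' h₂')

end Cfsg.Agent.Lib.Helper44.Oc
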