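import Mathlib
import Cfsg.Prelude.Def_ClassicalGeometry
import Cfsg.Prelude.Def_GeometricClasses
import Cfsg.Agent.Lib.Helper46.OmDefs
import Cfsg.Agent.Lib.Helper46.OmBR
import Cfsg.Agent.Lib.Helper94.Un12
import Cfsg.Agent.Lib.Helper94.Un14

/-! # OM-PE1 (S5991 hive "Om", helper46): Jordan extraction for the unipotent element of type
`{3, 1} + 2^(k-1)` of `Ω⁻_{2k+2}(q)`, `k` odd. -/

set_option autoImplicit false

namespace Cfsg.Agent.Lib.Helper46.Om

open Module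
open Cfsg.Agent.Lib.Helper2.BG Cfsg.Agent.Lib.Helper99 Cfsg.Agent.Lib.Helper48.Ti
open Cfsg.Agent.Lib.Helper5.Hy (Plus Orth Fix)
open Cfsg.Agent.Lib.Helper81.On (SameType Fixes)

/-- the sum of a multiset with values in `{1, 2, 3}` -/
theorem pe1_sum_three_vals (ν : Multiset ℕ) (h : ∀ x ∈ ν, x = 3 ∨ x = 1 ∨ x = 2) :
    ν.sum = ν.count 3 * 3 + ν.count 1 * 1 + ν.count 2 * 2 := by
  induction ν using Multiset.induction_on with
  | empty => simp
  | cons x ν ih =>
    have ih' := ih (fun y hy => h y (Multiset.mem_cons_of_mem hy))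
    rcases h x (Multiset.mem_cons_self x ν) with rfl | rfl | rfl
    · rw [Multiset.sum_cons, Multiset.count_cons_self,
        Multiset.count_cons_of_ne (by decide : (1 : ℕ) ≠ 3),
        Multiset.count_cons_of_ne (by decide : (2 : ℕ) ≠ 3), ih']
      ring
    · rw [Multiset.sum_cons, Multiset.count_cons_self,
        Multiset.count_cons_of_ne (by decide : (3 : ℕ) ≠ 1),
        Multiset.count_cons_of_ne (by decide : (2 : ℕ) ≠ 1), ih']
      ring
    · rw [Multiset.sum_cons, Multiset.count_cons_self,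
        Multiset.count_cons_of_ne (by decide : (3 : ℕ) ≠ 2),
        Multiset.count_cons_of_ne (by decide : (1 : ℕ) ≠ 2), ih']
      ring

section

variable {F : Type*} [Field F] [Fintype F] {p : ℕ} [Fact p.Prime] [CharP F p]


theorem pe_jordan (h2 : (2 : F) ≠ 0) (k : ℕ) (hk : 3 ≤ k) (hko : Odd k) (a b : F)
    (hab : ∀ x y : F, x ^ 2 + a * x * y + b * y ^ 2 = 0 → x = 0 ∧ y = 0) :
    ∃ x : Matrix.GeneralLinearGroup ((Fin k ⊕ Fin k) ⊕ Fin 2) F,
      x ∈ Cfsg.Geo.omegaGL (Cfsg.quadFormMinus k F a b) ∧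
      ((x ^ p : Matrix.GeneralLinearGroup ((Fin k ⊕ Fin k) ⊕ Fin 2) F) :
        Matrix ((Fin k ⊕ Fin k) ⊕ Fin 2) ((Fin k ⊕ Fin k) ⊕ Fin 2) F) = 1 ∧
      (∀ z : F, (x : Matrix ((Fin k ⊕ Fin k) ⊕ Fin 2) ((Fin k ⊕ Fin k) ⊕ Fin 2) F) ≠
        z • (1 : Matrix ((Fin k ⊕ Fin k) ⊕ Fin 2) ((Fin k ⊕ Fin k) ⊕ Fin 2) F)) ∧
      finrank F ↥(LinearMap.ker
        ((Matrix.toLin' (x : Matrix ((Fin k ⊕ Fin k) ⊕ Fin 2) ((Fin k ⊕ Fin k) ⊕ Fin 2) F) - 1) *
         (Matrix.toLin' (x : Matrix ((Fin k ⊕ Fin k) ⊕ Fin 2) ((Fin k ⊕ Fin k) ⊕ Fin 2) F) - 1))) + 1 =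
        2 * finrank F ↥(Fix (Matrix.toLin'
          (x : Matrix ((Fin k ⊕ Fin k) ⊕ Fin 2) ((Fin k ⊕ Fin k) ⊕ Fin 2) F))) ∧
      ∀ W : Submodule F (VM k F),
        Inv (Matrix.toLin' (x : Matrix ((Fin k ⊕ Fin k) ⊕ Fin 2) ((Fin k ⊕ Fin k) ⊕ Fin 2) F)) W →
        Nd (minusB k a b) W → finrank F W % 4 = 1 →
        (∀ w ∈ W, (Matrix.toLin' (x : Matrix ((Fin k ⊕ Fin k) ⊕ Fin 2) ((Fin k ⊕ Fin k) ⊕ Fin 2) F) - 1)
          ((Matrix.toLin' (x : Matrix ((Fin k ⊕ Fin k) ⊕ Fin 2) ((Fin k ⊕ Fin k) ⊕ Fin 2) F) - 1) w) = 0) ∧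
        2 * finrank F ↥(W ⊓ Fix (Matrix.toLin'
          (x : Matrix ((Fin k ⊕ Fin k) ⊕ Fin 2) ((Fin k ⊕ Fin k) ⊕ Fin 2) F))) = finrank F W + 1 := by
  classical
  have hp : p.Prime := Fact.out
  have hp3 : 3 ≤ p := by
    have hp2 : p ≠ 2 := by
      rintro rfl
      apply h2
      have := CharP.cast_eq_zero F 2
      exact_mod_cast this
    have := hp.two_le
    omega
  obtain ⟨k', hk'⟩ := hko
  obtain ⟨d, rfl⟩ : ∃ d, k = d - 1 := ⟨k + 1, by omega⟩
  have hd4 : 4 ≤ d := by omega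
  set μ : Multiset ℕ := ({3, 1} : Multiset ℕ) + Multiset.replicate (d - 1 - 1) 2 with hμ
  have hμsum : μ.sum = 2 * d := by
    rw [hμ, Multiset.sum_add, Multiset.sum_replicate, smul_eq_mul]
    have : (({3, 1} : Multiset ℕ)).sum = 4 := by decide
    rw [this]; omega
  have hmem : ∀ y ∈ μ, y = 3 ∨ y = 1 ∨ y = 2 := by
    intro y hy
    rw [hμ, Multiset.mem_add] at hy
    rcases hy with hy | hy
    · have : y ∈ ({3, 1} : Multiset ℕ) := hy
      simp only [Multiset.insert_eq_cons, Multiset.mem_cons, Multiset.mem_singleton] at this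
      rcases this with rfl | rfl
      · exact Or.inl rfl
      · exact Or.inr (Or.inl rfl)
    · exact Or.inr (Or.inr (Multiset.eq_of_mem_replicate hy))
  have hc3 : μ.count 3 = 1 := by
    rw [hμ, Multiset.count_add, Multiset.count_replicate]
    have : (({3, 1} : Multiset ℕ)).count 3 = 1 := by decide
    rw [this]; simp
  have hc1 : μ.count 1 = 1 := by
    rw [hμ, Multiset.count_add, Multiset.count_replicate]
    have : (({3, 1} : Multiset ℕ)).count 1 = 1 := by decide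
    rw [this]; simp
  have hev : ∀ e, Even e → Even (μ.count e) := by
    intro e he
    rw [hμ, Multiset.count_add, Multiset.count_replicate]
    have h31 : (({3, 1} : Multiset ℕ)).count e = 0 := by
      rw [Multiset.count_eq_zero]
      intro hmem'
      simp only [Multiset.insert_eq_cons, Multiset.mem_cons, Multiset.mem_singleton] at hmem'
      rcases hmem' with rfl | rfl
      · exact absurd he (by decide)
      · exact absurd he (by decide)
    rw [h31, zero_add]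
    split_ifs
    · exact ⟨k', by omega⟩
    · exact ⟨0, rfl⟩
  have hodd : ∃ c ∈ μ, Odd c := by
    refine ⟨3, ?_, by decide⟩
    rw [hμ, Multiset.mem_add]
    left
    simp
  obtain ⟨x, hxΩ, hprof⟩ :=
    Cfsg.Agent.Lib.Helper94.Un.exists_unipotent_minus (F := F) h2 d (by omega) a b hab μ hev
      hμsum hodd
  have hQ := Cfsg.Agent.Lib.Helper94.Un.nondeg_quadFormMinus (F := F) h2 d (by omega) a b hab
  have hxiso : x ∈ Cfsg.isometryGroup F (Cfsg.quadFormMinus (d - 1) F a b) :=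
    Cfsg.Agent.Lib.Helper94.omega_le_isom hxΩ
  have hcard : μ.sum = Fintype.card ((Fin (d - 1) ⊕ Fin (d - 1)) ⊕ Fin 2) := by
    rw [hμsum, Fintype.card_sum, Fintype.card_sum, Fintype.card_fin, Fintype.card_fin]; omega
  have h3mem : 3 ∈ μ := by
    rw [hμ, Multiset.mem_add]
    left
    simp
  obtain ⟨hxp, hxns, -⟩ := Cfsg.Agent.Lib.Helper94.Un.unipotent_facts hQ h2 x hxiso μ hprof hcard
    (fun b hb => by
      rcases hmem b hb with rfl | rfl | rfl <;> omega) 3 h3mem (by norm_num)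
  -- notation
  set f : Module.End F (VM (d - 1) F) := Matrix.toLin'
    (x : Matrix ((Fin (d - 1) ⊕ Fin (d - 1)) ⊕ Fin 2) ((Fin (d - 1) ⊕ Fin (d - 1)) ⊕ Fin 2) F) with hf
  set T : Module.End F (VM (d - 1) F) := Matrix.toLin'
    ((x : Matrix ((Fin (d - 1) ⊕ Fin (d - 1)) ⊕ Fin 2) ((Fin (d - 1) ⊕ Fin (d - 1)) ⊕ Fin 2) F) - 1)
    with hT
  have hTf : f - 1 = T := by
    rw [hT, hf, map_sub, Matrix.toLin'_one]
    rfl
  have hprofrep : ∀ n j : ℕ, Cfsg.Agent.Lib.Helper94.Un.prof (Multiset.replicate n 2) j =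
      n * min 2 j := by
    intro n j
    unfold Cfsg.Agent.Lib.Helper94.Un.prof
    rw [Multiset.map_replicate, Multiset.sum_replicate, smul_eq_mul]
  have hprof31 : ∀ j : ℕ, Cfsg.Agent.Lib.Helper94.Un.prof ({3, 1} : Multiset ℕ) j =
      min 3 j + min 1 j := by
    intro j
    unfold Cfsg.Agent.Lib.Helper94.Un.prof
    simp
  have hprofμ : ∀ j : ℕ, Cfsg.Agent.Lib.Helper94.Un.prof μ j =
      min 3 j + min 1 j + (d - 1 - 1) * min 2 j := by
    intro j
    rw [hμ, Cfsg.Agent.Lib.Helper94.Un.prof_add, hprof31, hprofrep]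
  have hd1 : finrank F ↥(LinearMap.ker T) = d := by
    have := hprof 1
    rw [hprofμ] at this
    unfold Cfsg.Agent.Lib.Helper99.dker at this
    rw [pow_one] at this
    rw [this]
    simp
    omega
  have hd2 : finrank F ↥(LinearMap.ker (T * T)) = 2 * d - 1 := by
    have := hprof 2
    rw [hprofμ] at this
    unfold Cfsg.Agent.Lib.Helper99.dker at this
    rw [pow_two] at this
    rw [this]
    simp
    omega
  have hfix : Fix f = LinearMap.ker T := by
    show LinearMap.ker (f - 1) = LinearMap.ker T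
    rw [hTf]
  refine ⟨x, hxΩ, hxp, hxns, ?_, ?_⟩
  · rw [hTf, hd2, hfix, hd1]
    omega
  · intro W hInv hNd hm4
    have hWnd : Cfsg.Geo.IsNondegenerateOn
        (QuadraticMap.polar (Cfsg.quadFormMinus (d - 1) F a b)) W :=
      (nd_iff h2 (d - 1) a b W).mpr hNd
    have hxW : W.map f ≤ W := by
      rintro _ ⟨v, hv, rfl⟩
      exact hInv v hv
    have hK : ((x : Matrix ((Fin (d - 1) ⊕ Fin (d - 1)) ⊕ Fin 2)
        ((Fin (d - 1) ⊕ Fin (d - 1)) ⊕ Fin 2) F) - 1) ^ 3 = 0 :=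
      Cfsg.Agent.Lib.Helper94.Un.pow_eq_zero_of_prof _ μ hprof hcard 3 (fun b hb => by
        rcases hmem b hb with rfl | rfl | rfl <;> omega)
    obtain ⟨ν, hν1, hν2, hν3, hν4⟩ :=
      Cfsg.Agent.Lib.Helper94.Un.jordan_sub' hQ h2 x hxiso 3 hK μ hprof W hWnd hxW
    have hT3 : T ^ 3 = 0 := by
      rw [hT, ← Matrix.toLin'_pow, hK, map_zero]
    have hνmem : ∀ y ∈ ν, y = 3 ∨ y = 1 ∨ y = 2 := fun y hy => hmem y (Multiset.mem_of_le hν1 hy)
    have hνsum := pe1_sum_three_vals ν hνmem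
    have hν3le : ν.count 3 ≤ 1 := (Multiset.count_le_of_le 3 hν1).trans_eq hc3
    have hν1le : ν.count 1 ≤ 1 := (Multiset.count_le_of_le 1 hν1).trans_eq hc1
    obtain ⟨c2, hc2⟩ := hν3 2 (by decide)
    have hmW : finrank F W = ν.count 3 * 3 + ν.count 1 * 1 + ν.count 2 * 2 := by
      rw [← hν2]; exact hνsum
    have hcnt3 : ν.count 3 = 0 := by omega
    have hcnt1 : ν.count 1 = 1 := by omega
    have e1 : ν.count 1 + (finrank F ↥(W ⊓ LinearMap.ker (T ^ 0)) +
        finrank F ↥(W ⊓ LinearMap.ker (T ^ 2))) = 2 * finrank F ↥(W ⊓ LinearMap.ker (T ^ 1)) :=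
      hν4 1 le_rfl (by norm_num)
    have e3 : ν.count 3 + (finrank F ↥(W ⊓ LinearMap.ker (T ^ 2)) +
        finrank F ↥(W ⊓ LinearMap.ker (T ^ 4))) = 2 * finrank F ↥(W ⊓ LinearMap.ker (T ^ 3)) :=
      hν4 3 (by norm_num) le_rfl
    rw [pow_zero, pow_one] at e1
    have hT4 : T ^ 4 = 0 := by
      rw [show (4 : ℕ) = 3 + 1 from rfl, pow_succ, hT3, zero_mul]
    have hk0 : LinearMap.ker (1 : Module.End F (VM (d - 1) F)) = ⊥ := LinearMap.ker_id
    have hk3 : LinearMap.ker (T ^ 3) = ⊤ := by rw [hT3]; exact LinearMap.ker_zero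
    have hk4 : LinearMap.ker (T ^ 4) = ⊤ := by rw [hT4]; exact LinearMap.ker_zero
    rw [hk3, hk4, inf_top_eq, hcnt3] at e3
    rw [hk0, inf_bot_eq, finrank_bot, hcnt1] at e1
    have hd2W : finrank F ↥(W ⊓ LinearMap.ker (T ^ 2)) = finrank F W := by omega
    have hWle : W ≤ LinearMap.ker (T ^ 2) := by
      have : W ⊓ LinearMap.ker (T ^ 2) = W :=
        Submodule.eq_of_le_of_finrank_eq inf_le_left hd2W
      rw [← this]
      exact inf_le_right
    refine ⟨fun w hw => ?_, ?_⟩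
    · have := hWle hw
      rw [LinearMap.mem_ker, pow_two] at this
      rw [hTf]
      exact this
    · rw [hfix]
      omega

end

end Cfsg.Agent.Lib.Helper46.Om
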