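import Mathlib
import Cfsg.Agent.Lib.Helper80.St_SG6
import Cfsg.Agent.Lib.Helper6.St.Main2
import Cfsg.Agent.Lib.Helper43.SpBN_DC

/-! # S2547 hive (helper39), leaf OO-ABS: `p ∤ [G : B]` for a split (B,N)-pair whose `[B : T]` is a
power of `p` (helper32) -/

set_option autoImplicit false

namespace Cfsg.Agent.Lib.Helper39.OoBN

open Cfsg Cfsg.Agent.Lib.Helper6 Cfsg.Agent.Lib.Helper6.St

/-- `[B n B : B] · |B ∩ n B n⁻¹| = |B|` -/
theorem abs_qidx_mul_card {G : Type*} [Group G] [Finite G] (P : Cfsg.BNPair G) (n : P.N) :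
    qidx P (QuotientGroup.mk n : Wg P) *
        Nat.card (P.B ⊓ P.B.map (MulAut.conj (n : G)).toMonoidHom : Subgroup G) =
      Nat.card P.B := by
  have h1 := card_Cw P (QuotientGroup.mk n : Wg P)
  rw [Cw_mk] at h1
  have h2 := Cfsg.Agent.Lib.Helper41.SpBN.card_doubleCoset_mul P.B (n : G)
  have h3 : Nat.card (C P (n : G)) =
      Nat.card (DoubleCoset.doubleCoset (n : G) (P.B : Set G) P.B) := rfl
  rw [← h3, h1] at h2
  have hpos : 0 < Nat.card P.B := Nat.card_pos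
  apply Nat.eq_of_mul_eq_mul_left hpos
  rw [← h2]
  ring

/-- `[B n B : B]` is the index of `B ∩ n B n⁻¹` in `B` -/
theorem abs_qidx_eq_relIndex {G : Type*} [Group G] [Finite G] (P : Cfsg.BNPair G) (n : P.N) :
    qidx P (QuotientGroup.mk n : Wg P) =
      (P.B ⊓ P.B.map (MulAut.conj (n : G)).toMonoidHom : Subgroup G).relIndex P.B := by
  have h1 := abs_qidx_mul_card P n
  have h2 := Subgroup.relIndex_mul_relIndex (⊥ : Subgroup G)
    (P.B ⊓ P.B.map (MulAut.conj (n : G)).toMonoidHom) P.B bot_le inf_le_left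
  rw [Subgroup.relIndex_bot_left, Subgroup.relIndex_bot_left] at h2
  have hpos : 0 < Nat.card (P.B ⊓ P.B.map (MulAut.conj (n : G)).toMonoidHom : Subgroup G) :=
    Nat.card_pos
  apply Nat.eq_of_mul_eq_mul_right hpos
  rw [h1, ← h2, mul_comm]

/-- every cell index divides `[B : T]` -/
theorem abs_qidx_dvd {G : Type*} [Group G] [Finite G] (P : Cfsg.BNPair G)
    (hT : ∀ n ∈ P.N, P.B ⊓ P.N ≤ P.B ⊓ P.B.map (MulAut.conj n).toMonoidHom) (w : Wg P) :
    qidx P w ∣ ((P.B ⊓ P.N).subgroupOf P.B).index := by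
  obtain ⟨n, rfl⟩ := QuotientGroup.mk_surjective w
  rw [abs_qidx_eq_relIndex]
  have h := Subgroup.relIndex_mul_relIndex (P.B ⊓ P.N)
    (P.B ⊓ P.B.map (MulAut.conj (n : G)).toMonoidHom) P.B (hT n n.2) inf_le_left
  change _ ∣ (P.B ⊓ P.N).relIndex P.B
  rw [← h]
  exact dvd_mul_left _ _

theorem not_dvd_index_B {G : Type*} [Group G] [Finite G] (P : Cfsg.BNPair G) (p : ℕ) [Fact p.Prime]
    (hT : ∀ n ∈ P.N, P.B ⊓ P.N ≤ P.B ⊓ P.B.map (MulAut.conj n).toMonoidHom) (e : ℕ)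
    (he : ((P.B ⊓ P.N).subgroupOf P.B).index = p ^ e) : ¬ p ∣ P.B.index := by
  classical
  have hp : p.Prime := Fact.out
  haveI : Fintype G := Fintype.ofFinite G
  haveI : Fintype (Wg P) := Fintype.ofFinite _
  have hidx := index_parabolic P (∅ : Set P.S)
  have hpar : P.parabolic (Subtype.val '' (∅ : Set P.S)) = P.B := by
    rw [Set.image_empty]
    unfold Cfsg.BNPair.parabolic
    rw [Subgroup.closure_empty, sup_bot_eq]
  rw [hpar] at hidx
  have hfil : (Finset.univ.filter (fun d => RRed (S0320.sig P) (∅ : Set P.S) d)) =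
      (Finset.univ : Finset (Wg P)) := by
    apply Finset.filter_true_of_mem
    intro d _ j hj
    exact absurd hj (Set.notMem_empty j)
  -- every nontrivial cell index is divisible by `p`
  have hdvd : ∀ d : Wg P, d ≠ 1 → p ∣ qidx P d := by
    intro d hd
    have h1 : qidx P d ∣ p ^ e := he ▸ abs_qidx_dvd P hT d
    obtain ⟨k, _, hk⟩ := (Nat.dvd_prime_pow hp).mp h1
    rcases Nat.eq_zero_or_pos k with rfl | hkpos
    · rw [pow_zero] at hk
      exact absurd (eq_one_of_qidx_eq_one P hk) hd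
    · rw [hk]
      exact dvd_pow_self p hkpos.ne'
  intro hdiv
  rw [hidx, hfil, ← Finset.add_sum_erase _ _ (Finset.mem_univ (1 : Wg P)), qidx_one] at hdiv
  have h2 : p ∣ ∑ d ∈ (Finset.univ : Finset (Wg P)).erase 1, qidx P d := by
    apply Finset.dvd_sum
    intro d hd
    exact hdvd d (Finset.ne_of_mem_erase hd)
  have h3 : p ∣ 1 := (Nat.dvd_add_left h2).mp hdiv
  exact hp.one_lt.ne' (Nat.dvd_one.mp h3)

end Cfsg.Agent.Lib.Helper39.OoBN
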