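import Cfsg.Agent.Lib.Helper32.RelSylow

set_option autoImplicit false

namespace Cfsg.Agent.Lib.Helper32

open Cfsg.Agent.Lib.Helper33 Cfsg.Agent.Lib.Helper55

variable {G : Type*} [Group G]

/-- If `H ≤ K` normalize `N` and meet `N` in the same subgroup, then
`|KN : HN| = |K : H|`. -/
theorem relIndex_sup_sup_eq [Finite G] {H K N : Subgroup G} (hHK : H ≤ K)
    (hKN : K ≤ Subgroup.normalizer (N : Set G)) (hinf : H ⊓ N = K ⊓ N) :
    (H ⊔ N).relIndex (K ⊔ N) = H.relIndex K := by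
  have e1 : K.relIndex (K ⊔ N) = (K ⊓ N).relIndex N := relIndex_sup_eq_inf_relIndex hKN
  have e2 : H.relIndex (H ⊔ N) = (H ⊓ N).relIndex N :=
    relIndex_sup_eq_inf_relIndex (hHK.trans hKN)
  have e3 : H.relIndex K * K.relIndex (K ⊔ N) = H.relIndex (K ⊔ N) :=
    Subgroup.relIndex_mul_relIndex H K (K ⊔ N) hHK le_sup_left
  have e4 : H.relIndex (H ⊔ N) * (H ⊔ N).relIndex (K ⊔ N) = H.relIndex (K ⊔ N) :=
    Subgroup.relIndex_mul_relIndex H (H ⊔ N) (K ⊔ N) le_sup_left (sup_le_sup_right hHK N)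
  have hne : (K ⊓ N).relIndex N ≠ 0 := Subgroup.index_ne_zero_of_finite
  rw [e1] at e3
  rw [e2, hinf] at e4
  have : (K ⊓ N).relIndex N * (H ⊔ N).relIndex (K ⊔ N) = (K ⊓ N).relIndex N * H.relIndex K := by
    rw [e4, ← e3, mul_comm]
  exact Nat.eq_of_mul_eq_mul_left (Nat.pos_of_ne_zero hne) this

end Cfsg.Agent.Lib.Helper32
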