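import Cfsg.Agent.Lib.Helper32.Burnside

set_option autoImplicit false

namespace Cfsg.Agent.Lib.Helper32

open Cfsg.Agent.Lib.Helper33 Cfsg.Agent.Lib.Helper55

variable {G : Type*} [Group G]

/-- Every `p`-subgroup `U` of a subgroup `K` lies in a "relative Sylow" `p`-subgroup of `K`
(everything stated for subgroups of the ambient group). -/
theorem exists_relSylow_ge [Finite G] {p : ℕ} [Fact p.Prime] {U K : Subgroup G} (hUK : U ≤ K)
    (hU : IsPGroup p U) :
    ∃ P : Subgroup G, U ≤ P ∧ P ≤ K ∧ IsPGroup p P ∧ ¬ p ∣ P.relIndex K := by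
  have hU' : IsPGroup p (U.subgroupOf K) := hU.comap_subtype
  obtain ⟨P₀, hP₀⟩ := hU'.exists_le_sylow
  refine ⟨(P₀ : Subgroup K).map K.subtype, ?_, Subgroup.map_subtype_le _, P₀.isPGroup'.map _, ?_⟩
  · intro u hu
    exact ⟨⟨u, hUK hu⟩, hP₀ (Subgroup.mem_subgroupOf.mpr hu), rfl⟩
  · have : ((P₀ : Subgroup K).map K.subtype).relIndex K = (P₀ : Subgroup K).index := by
      rw [Subgroup.relIndex, Subgroup.subgroupOf,
        Subgroup.comap_map_eq_self_of_injective K.subtype_injective]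
    rw [this]
    exact P₀.not_dvd_index

/-- A `p`-subgroup of `K` is no larger than a relative Sylow `p`-subgroup of `K`. -/
theorem card_le_of_relSylow [Finite G] {p : ℕ} [Fact p.Prime] {K P U : Subgroup G} (hPK : P ≤ K)
    (hP : IsPGroup p P) (hPi : ¬ p ∣ P.relIndex K) (hUK : U ≤ K) (hU : IsPGroup p U) :
    Nat.card U ≤ Nat.card P := by
  obtain ⟨c, -, hc⟩ := sylow_sub hPK hP hPi hUK hU
  rw [← card_cj c U]
  exact Subgroup.card_le_of_le hc

/-- `P.relIndex (P ⊔ R) = (P ⊓ R).relIndex R` when `P` normalizes `R`. -/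
theorem relIndex_sup_eq_inf_relIndex [Finite G] {P R : Subgroup G}
    (hPR : P ≤ Subgroup.normalizer (R : Set G)) :
    P.relIndex (P ⊔ R) = (P ⊓ R).relIndex R := by
  set Q : Subgroup G := P ⊓ R with hQ
  have e1 : Nat.card Q * Q.relIndex R = Nat.card R := card_mul_relIndex_eq inf_le_right
  have e2 : Nat.card Q * Q.relIndex P = Nat.card P := card_mul_relIndex_eq inf_le_left
  have e3 : Nat.card R * R.relIndex (P ⊔ R) = Nat.card (P ⊔ R : Subgroup G) :=
    card_mul_relIndex_eq le_sup_right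
  have e4 : R.relIndex (P ⊔ R) = Q.relIndex P := by
    rw [relIndex_sup_right_of_le_normalizer hPR, hQ, Subgroup.inf_relIndex_left]
  have e5 : Nat.card P * P.relIndex (P ⊔ R) = Nat.card (P ⊔ R : Subgroup G) :=
    card_mul_relIndex_eq le_sup_left
  have hQpos : 0 < Nat.card Q := Nat.card_pos
  have hPpos : 0 < Nat.card P := Nat.card_pos
  have h1 : Nat.card P * (Nat.card Q * P.relIndex (P ⊔ R)) =
      Nat.card P * (Nat.card Q * Q.relIndex R) := by
    calc Nat.card P * (Nat.card Q * P.relIndex (P ⊔ R))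
        = Nat.card Q * (Nat.card P * P.relIndex (P ⊔ R)) := by ring
      _ = Nat.card Q * (Nat.card R * R.relIndex (P ⊔ R)) := by rw [e5, e3]
      _ = Nat.card R * (Nat.card Q * Q.relIndex P) := by rw [e4]; ring
      _ = Nat.card R * Nat.card P := by rw [e2]
      _ = Nat.card P * (Nat.card Q * Q.relIndex R) := by rw [e1]; ring
  have h2 := Nat.eq_of_mul_eq_mul_left hPpos h1
  exact Nat.eq_of_mul_eq_mul_left hQpos h2

/-- If `P` is a relative Sylow `p`-subgroup of `K` and `R ≤ K` is normalized by `K`, then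
`P ⊓ R` is a relative Sylow `p`-subgroup of `R`. -/
theorem not_dvd_relIndex_inf_of_relSylow [Finite G] {p : ℕ} {K P R : Subgroup G}
    (hPK : P ≤ K) (hPi : ¬ p ∣ P.relIndex K) (hRK : R ≤ K)
    (hKR : K ≤ Subgroup.normalizer (R : Set G)) : ¬ p ∣ (P ⊓ R).relIndex R := by
  rw [← relIndex_sup_eq_inf_relIndex (hPK.trans hKR)]
  intro hdvd
  apply hPi
  rw [← Subgroup.relIndex_mul_relIndex P (P ⊔ R) K le_sup_left (sup_le hPK hRK)]
  exact Dvd.dvd.mul_right hdvd _

end Cfsg.Agent.Lib.Helper32
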