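import Cfsg.Agent.Lib.Helper66.S3Defs
import Cfsg.Agent.Lib.Helper66.S3.D1p
import Cfsg.Agent.Lib.Helper66.S3.D3
import Cfsg.Agent.Lib.Helper66.S3.D4
import Cfsg.Agent.Lib.Helper66.S3.D7
import Cfsg.Agent.Lib.Helper32.S3C1Bbase

/-!
# S3 hive (S4305, owner helper66), leaf C1B, steps G2 + G3 (helper32).
-/

set_option autoImplicit false

namespace Cfsg.Agent.Lib.Helper66.S3

universe u

section decomp

variable {H V : Type u} [Group H] [CommGroup V] [MulDistribMulAction A3 H]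
  [MulDistribMulAction A3 V] [MulDistribMulAction H V] {p r : ℕ} {F : Subgroup H}

theorem c1b_Om_mapH (cfg : Config H V p r F) (C : Subgroup H) (hC : comp (V := V) F C ≠ ⊥) (h : H) :
    comp (V := V) F (mapH h C) ≠ ⊥ := by
  obtain ⟨v, hv1⟩ := (Subgroup.ne_bot_iff_exists_ne_one).1 hC
  intro hbot
  have h1 := comp_smulH cfg C h (v : V) v.2
  rw [hbot, Subgroup.mem_bot] at h1
  apply hv1
  apply Subtype.ext
  have : (v : V) = h⁻¹ • (h • (v : V)) := by rw [inv_smul_smul]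
  rw [this, h1, smul_one]
  rfl

theorem c1b_Om_mapA (cfg : Config H V p r F) (C : Subgroup H) (hC : comp (V := V) F C ≠ ⊥) (a : A3) :
    comp (V := V) F (mapA a C) ≠ ⊥ := by
  obtain ⟨v, hv1⟩ := (Subgroup.ne_bot_iff_exists_ne_one).1 hC
  intro hbot
  have h1 := comp_smulA cfg C a (v : V) v.2
  rw [hbot, Subgroup.mem_bot] at h1
  apply hv1
  apply Subtype.ext
  have : (v : V) = a⁻¹ • (a • (v : V)) := by rw [inv_smul_smul]
  rw [this, h1, smul_one]
  rfl

theorem c1b_F_le_stab (cfg : Config H V p r F) (C : Subgroup H) (hC : comp (V := V) F C ≠ ⊥) :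
    ∀ f ∈ F, mapH f C = C := by
  intro f hf
  have hCF : C ≤ F := comp_le C hC
  ext x
  rw [c1b_mem_mapH]
  constructor
  · intro hx
    have hxF : f⁻¹ * x * f ∈ F := hCF hx
    have hxF' : x ∈ F := by
      have : x = f * (f⁻¹ * x * f) * f⁻¹ := by group
      rw [this]
      exact F.mul_mem (F.mul_mem hf hxF) (F.inv_mem hf)
    have : f⁻¹ * x * f = x := by
      have := cfg.Fcomm x hxF' f hf
      rw [mul_assoc, this, ← mul_assoc, inv_mul_cancel, one_mul]
    rwa [this] at hx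
  · intro hx
    have hxF : x ∈ F := hCF hx
    have : f⁻¹ * x * f = x := by
      have := cfg.Fcomm x hxF f hf
      rw [mul_assoc, this, ← mul_assoc, inv_mul_cancel, one_mul]
    rwa [this]

theorem c1b_stab_ne_top (cfg : Config H V p r F)
    (hmov : ∃ (h : H) (C : Subgroup H), comp (V := V) F C ≠ ⊥ ∧ mapH h C ≠ C)
    (C : Subgroup H) (hC : comp (V := V) F C ≠ ⊥) : ∃ h : H, mapH h C ≠ C := by
  by_contra hcon
  push Not at hcon
  obtain ⟨h₀, C₀, hC₀, hne⟩ := hmov
  obtain ⟨a, k, hk⟩ := comp_trans cfg C C₀ hC hC₀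
  apply hne
  have e1 : C₀ = mapA a C := by rw [hk, hcon k]
  have e2 : mapH h₀ (mapA a C) = mapA a (mapH (a⁻¹ • h₀) C) := by
    rw [c1b_mapA_mapH, smul_inv_smul]
  rw [e1, e2, hcon]

end decomp

end Cfsg.Agent.Lib.Helper66.S3
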