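import Cfsg.Agent.Lib.Helper66.S3Defs
import Cfsg.Agent.Lib.Helper32.S3C1Bbase

/-!
# S3 hive (S4305, owner helper66), leaf C1B, step G6: the covering argument (helper32).

`H` is covered by the fix-sets of `σ` and of the three involutions of `A3` on the `H`-orbit of `C`;
each of them has at most `|H| / r` elements unless it is all of `H`; `r ≥ 5`.
-/

set_option autoImplicit false

namespace Cfsg.Agent.Lib.Helper66.S3

universe u

theorem c1b_a3_cases : ∀ a : A3, a = 1 ∨ a = sig ∨ a = sig * sig ∨ a = tau ∨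
    a = sig * tau * sig⁻¹ ∨ a = sig⁻¹ * tau * sig := by
  unfold sig tau A3
  decide

theorem c1b_a3_invol : (tau ≠ 1 ∧ tau * tau = 1) ∧
    (sig * tau * sig⁻¹ ≠ 1 ∧ (sig * tau * sig⁻¹) * (sig * tau * sig⁻¹) = 1) ∧
    (sig⁻¹ * tau * sig ≠ 1 ∧ (sig⁻¹ * tau * sig) * (sig⁻¹ * tau * sig) = 1) := by
  unfold sig tau
  decide

theorem c1b_a3_sig : sig * sig * sig = 1 ∧ sig ≠ 1 ∧ (sig * sig) * (sig * sig) = sig := by
  unfold sig
  decide

section c1b

variable {H : Type u} [Group H] [Finite H] [MulDistribMulAction A3 H]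

/-- G6, core: the covering argument, all inputs as hypotheses. -/
theorem c1b_exists_invol_core {r : ℕ} (hr5 : 5 ≤ r) (C : Subgroup H)
    (hstab : ∀ h : H, ∃ a : A3, a ≠ 1 ∧ mapA a (mapH h C) = mapH h C)
    (hsigset : Set.ncard {h : H | mapA sig (mapH h C) = mapH h C} * r ≤ Nat.card H)
    (hfixset : ∀ a : A3, (∀ h : H, mapA a (mapH h C) = mapH h C) ∨
      Set.ncard {h : H | mapA a (mapH h C) = mapH h C} * r ≤ Nat.card H) :
    ∃ t : A3, t ≠ 1 ∧ t * t = 1 ∧ ∀ h : H, mapA t (mapH h C) = mapH h C := by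
  obtain ⟨⟨h11, h12⟩, ⟨h21, h22⟩, ⟨h31, h32⟩⟩ := c1b_a3_invol
  obtain ⟨hs3, hs1, hs4⟩ := c1b_a3_sig
  by_contra hcon
  push Not at hcon
  have hb : ∀ t : A3, t ≠ 1 → t * t = 1 →
      Set.ncard {h : H | mapA t (mapH h C) = mapH h C} * r ≤ Nat.card H := by
    intro t ht1 htt
    rcases hfixset t with h | h
    · exfalso
      obtain ⟨h', hh'⟩ := hcon t ht1 htt
      exact hh' (h h')
    · exact h
  have hcov : (Set.univ : Set H) ⊆ {h : H | mapA sig (mapH h C) = mapH h C} ∪
      ({h : H | mapA tau (mapH h C) = mapH h C} ∪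
      ({h : H | mapA (sig * tau * sig⁻¹) (mapH h C) = mapH h C} ∪
      {h : H | mapA (sig⁻¹ * tau * sig) (mapH h C) = mapH h C})) := by
    intro h _
    obtain ⟨a, ha1, ha⟩ := hstab h
    rcases c1b_a3_cases a with rfl | rfl | rfl | rfl | rfl | rfl
    · exact absurd rfl ha1
    · left; exact ha
    · left
      show mapA sig (mapH h C) = mapH h C
      have h2 : mapA ((sig * sig) * (sig * sig)) (mapH h C) = mapH h C := by
        rw [c1b_mapA_mul, ha, ha]
      rw [hs4] at h2
      exact h2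
    · right; left; exact ha
    · right; right; left; exact ha
    · right; right; right; exact ha
  have hfin : ∀ s : Set H, s.Finite := fun s => Set.toFinite s
  have hcard : Nat.card H ≤ Set.ncard {h : H | mapA sig (mapH h C) = mapH h C} +
      (Set.ncard {h : H | mapA tau (mapH h C) = mapH h C} +
      (Set.ncard {h : H | mapA (sig * tau * sig⁻¹) (mapH h C) = mapH h C} +
      Set.ncard {h : H | mapA (sig⁻¹ * tau * sig) (mapH h C) = mapH h C})) := by
    have h1 := Set.ncard_le_ncard hcov (hfin _)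
    rw [Set.ncard_univ] at h1
    refine h1.trans ?_
    refine (Set.ncard_union_le _ _).trans ?_
    refine Nat.add_le_add_left ?_ _
    refine (Set.ncard_union_le _ _).trans ?_
    refine Nat.add_le_add_left ?_ _
    exact Set.ncard_union_le _ _
  have hb1 := hb tau h11 h12
  have hb2 := hb _ h21 h22
  have hb3 := hb _ h31 h32
  have hpos : 0 < Nat.card H := Nat.card_pos
  -- `|H| * r ≤ 4 |H|`
  have : Nat.card H * r ≤ 4 * Nat.card H := by
    calc Nat.card H * r ≤ (Set.ncard {h : H | mapA sig (mapH h C) = mapH h C} +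
      (Set.ncard {h : H | mapA tau (mapH h C) = mapH h C} +
      (Set.ncard {h : H | mapA (sig * tau * sig⁻¹) (mapH h C) = mapH h C} +
      Set.ncard {h : H | mapA (sig⁻¹ * tau * sig) (mapH h C) = mapH h C}))) * r :=
          Nat.mul_le_mul_right r hcard
      _ ≤ 4 * Nat.card H := by
          rw [Nat.add_mul, Nat.add_mul, Nat.add_mul]
          omega
  have : r ≤ 4 := by
    by_contra h
    push Not at h
    have : 5 * Nat.card H ≤ Nat.card H * r := by
      rw [mul_comm]
      exact Nat.mul_le_mul_left _ h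
    omega
  omega

end c1b

end Cfsg.Agent.Lib.Helper66.S3
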